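import Groth.Agent.L11.Az.EtaleSub
import Groth.Agent.L05.Hensel.Criteria
import Mathlib.RingTheory.Henselian
import Mathlib.RingTheory.Idempotents
import Mathlib.LinearAlgebra.Matrix.Charpoly.LinearMap
import Mathlib.LinearAlgebra.TensorProduct.Quotient
import Mathlib.RingTheory.AdjoinRoot

/-!
Azumaya algebras over henselian local rings: idempotents lift, isomorphisms of special fibres lift.
-/

set_option autoImplicit false
universe u v w

open scoped TensorProduct
open Polynomial IsLocalRing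

namespace Groth.L11.Az

theorem mem_smul_top_of_one_tmul_eq_zero {R : Type u} [CommRing R] [IsLocalRing R] {M : Type v} [AddCommGroup M]
    [Module R M] {x : M} (h : (1 : ResidueField R) ⊗ₜ[R] x = 0) : x ∈ maximalIdeal R • (⊤ : Submodule R M) := by
  have h0 : (Ideal.Quotient.mk (maximalIdeal R) 1) ⊗ₜ[R] x = (0 : (R ⧸ maximalIdeal R) ⊗[R] M) := h
  have h' := congrArg (TensorProduct.quotTensorEquivQuotSMul M (maximalIdeal R)) h0
  simp only [TensorProduct.quotTensorEquivQuotSMul_mk_tmul, one_smul, map_zero] at h'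
  exact (Submodule.Quotient.mk_eq_zero _).mp h'

/-- Idempotents lift from the special fibre of a module-finite algebra over a henselian local ring. -/
theorem exists_idempotent_lift {R : Type u} [CommRing R] [HenselianLocalRing R] {C : Type v} [Ring C] [Algebra R C]
    [Module.Finite R C] (ε : ResidueField R ⊗[R] C) (hε : IsIdempotentElem ε) :
    ∃ e : C, IsIdempotentElem e ∧ (1 : ResidueField R) ⊗ₜ[R] e = ε := by
  obtain ⟨u, rfl⟩ := TensorProduct.mk_surjective R C (ResidueField R) Ideal.Quotient.mk_surjective ε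
  change IsIdempotentElem ((1 : ResidueField R) ⊗ₜ[R] u) at hε
  change ∃ e : C, IsIdempotentElem e ∧ (1 : ResidueField R) ⊗ₜ[R] e = (1 : ResidueField R) ⊗ₜ[R] u
  let C' := Algebra.adjoin R ({u} : Set C)
  letI : CommRing C' :=
    { (inferInstance : Ring C') with
      mul_comm := fun a b => Subtype.ext (show (a : C) * b = b * a from
        Algebra.commute_of_mem_adjoin_of_forall_mem_commute b.2 fun y hy => by
          rw [Set.mem_singleton_iff] at hy
          subst hy
          exact (Algebra.commute_of_mem_adjoin_of_forall_mem_commute a.2 fun z hz => by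
            rw [Set.mem_singleton_iff] at hz
            subst hz
            exact Commute.refl _).symm) }
  let π : C' →ₐ[R] C := C'.val
  have hπ : Function.Injective π := Subtype.val_injective
  haveI : Module.Finite R C' := Module.Finite.iff_fg.mpr (Algebra.IsIntegral.isIntegral (R := R) u).fg_adjoin_singleton
  let x : C' := ⟨u, Algebra.self_mem_adjoin_singleton R u⟩
  have hx : π x = u := rfl
  set m := maximalIdeal R
  set J := m.map (algebraMap R C') with hJ
  -- a power of `x² - x` lies in `J`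
  have hz : u * u - u ∈ m • (⊤ : Submodule R C) := mem_smul_top_of_one_tmul_eq_zero (by
    rw [TensorProduct.tmul_sub, sub_eq_zero]
    simpa [IsIdempotentElem, Algebra.TensorProduct.tmul_mul_tmul] using hε)
  obtain ⟨P, hPm, -, hPc, hP⟩ :=
    LinearMap.exists_monic_and_natDegree_eq_and_coeff_mem_pow_and_aeval_eq_zero R (Algebra.lmul R C (u * u - u)) m
      (by
        rintro _ ⟨c, rfl⟩
        refine Submodule.smul_induction_on hz (fun r hr b _ => ?_) fun a b ha hb => ?_
        · simpa using Submodule.smul_mem_smul hr (Submodule.mem_top (R := R) (x := b * c))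
        · simpa [add_mul] using add_mem ha hb)
  have hP' : aeval (x * x - x) P = 0 := hπ (by
    rw [← aeval_algHom_apply, map_sub, map_mul, hx, map_zero]
    rw [aeval_algHom_apply] at hP
    simpa using LinearMap.congr_fun hP 1)
  have hpow : (x * x - x) ^ P.natDegree ∈ J := by
    rw [aeval_eq_sum_range, Finset.sum_range_succ, hPm.coeff_natDegree, one_smul] at hP'
    rw [eq_neg_of_add_eq_zero_right hP']
    refine J.neg_mem (J.sum_mem fun i hi => ?_)
    rw [Algebra.smul_def]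
    exact J.mul_mem_right _ (Ideal.mem_map_of_mem _
      (Ideal.pow_le_self (by have := Finset.mem_range.mp hi; omega) (hPc i)))
  let f := Ideal.Quotient.factor (J.le_radical)
  obtain ⟨v', hv', hfv⟩ := exists_isIdempotentElem_eq_of_ker_isNilpotent f
    (fun y hy => by
      obtain ⟨y, rfl⟩ := Ideal.Quotient.mk_surjective y
      rw [RingHom.mem_ker, Ideal.Quotient.factor_mk, Ideal.Quotient.eq_zero_iff_mem] at hy
      obtain ⟨k, hk⟩ := hy
      exact ⟨k, by rw [← map_pow, Ideal.Quotient.eq_zero_iff_mem]; exact hk⟩)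
    (Ideal.Quotient.mk J.radical x) ⟨Ideal.Quotient.mk J x, Ideal.Quotient.factor_mk _ x⟩
    (show _ * _ = _ by rw [← map_mul, Ideal.Quotient.eq]; exact ⟨P.natDegree, hpow⟩)
  obtain ⟨v, rfl⟩ := Ideal.Quotient.mk_surjective v'
  obtain ⟨e, he, hev⟩ := Groth.L05.exists_idem_lift_of_finite m v
    (Ideal.Quotient.eq.mp (by rw [map_mul]; exact hv'))
  obtain ⟨k, hk⟩ : e - x ∈ J.radical := by
    rw [show e - x = (e - v) + (v - x) by ring]
    exact add_mem (J.le_radical hev) (Ideal.Quotient.eq.mp (by rw [← hfv, Ideal.Quotient.factor_mk]))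
  let ψ : C' →ₐ[R] ResidueField R ⊗[R] C := Algebra.TensorProduct.includeRight.comp π
  have hψJ : ∀ y ∈ J, ψ y = 0 := by
    have : J ≤ RingHom.ker ψ := Ideal.map_le_iff_le_comap.mpr fun r hr => by
      rw [Ideal.mem_comap, RingHom.mem_ker, AlgHom.commutes,
        IsScalarTower.algebraMap_apply R (ResidueField R) (ResidueField R ⊗[R] C),
        show algebraMap R (ResidueField R) r = 0 from Ideal.Quotient.eq_zero_iff_mem.mpr hr, map_zero]
    exact fun y hy => this hy
  refine ⟨π e, he.map π, ?_⟩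
  have hd : ψ (e - x) ^ k = 0 := by rw [← map_pow]; exact hψJ _ hk
  have hε' : ψ x * ψ x = ψ x := by
    change ((1 : ResidueField R) ⊗ₜ[R] π x : ResidueField R ⊗[R] C) * (1 ⊗ₜ[R] π x) = 1 ⊗ₜ[R] π x
    rw [hx]
    exact hε
  have hd3 : ψ (e - x) * ψ (e - x) * ψ (e - x) = ψ (e - x) := by
    have h1 : ψ e * ψ e = ψ e := by rw [← map_mul, he.eq]
    have hc : ψ e * ψ x = ψ x * ψ e := by rw [← map_mul, ← map_mul, mul_comm]
    rw [map_sub]
    simp only [sub_mul, mul_sub, h1, hε', hc, mul_assoc, ← mul_assoc (ψ x) (ψ x)]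
    abel
  have hall : ∀ i, ψ (e - x) ^ (2 * i + 1) = ψ (e - x) := fun i => by
    induction i with
    | zero => simp
    | succ i ih => rw [show 2 * (i + 1) + 1 = 2 * i + 1 + 2 by ring, pow_add, ih, pow_two, ← mul_assoc, hd3]
  have hzero : ψ (e - x) = 0 := by rw [← hall k, pow_eq_zero_of_le (by omega) hd]
  rw [map_sub, sub_eq_zero] at hzero
  change (1 : ResidueField R) ⊗ₜ[R] π e = 1 ⊗ₜ[R] π x at hzero
  rw [hzero, hx]

/-- Isomorphisms of special fibres of Azumaya algebras lift over henselian local rings. -/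
theorem exists_lift_algEquiv {R : Type u} [CommRing R] [HenselianLocalRing R] {A : Type v} [Ring A] [Algebra R A]
    [IsAzumaya R A] {B : Type w} [Ring B] [Algebra R B] [IsAzumaya R B]
    (e₀ : (ResidueField R ⊗[R] A) ≃ₐ[ResidueField R] (ResidueField R ⊗[R] B)) :
    ∃ e : A ≃ₐ[R] B, ∀ a, e₀ ((1 : ResidueField R) ⊗ₜ[R] a) = (1 : ResidueField R) ⊗ₜ[R] e a := by
  classical
  let k := ResidueField R
  haveI : Module.Free R A := Module.free_of_flat_of_isLocalRing
  haveI : Module.Free R B := Module.free_of_flat_of_isLocalRing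
  haveI : Module.Free R Bᵐᵒᵖ := Module.Free.of_equiv (MulOpposite.opLinearEquiv R)
  haveI : Module.Finite R Bᵐᵒᵖ := Module.Finite.equiv (MulOpposite.opLinearEquiv R)
  haveI := isAzumaya_baseChange (R := R) k B
  letI instC : Ring (k ⊗[R] (A ⊗[R] Bᵐᵒᵖ)) := Algebra.TensorProduct.instRing
  let incl : B →ₐ[R] k ⊗[R] B := Algebra.TensorProduct.includeRight
  let θ : A ⊗[R] Bᵐᵒᵖ →ₐ[R] Module.End k (k ⊗[R] B) :=
    Algebra.TensorProduct.lift
      ((((AlgHom.mulLeftRight k (k ⊗[R] B)).comp Algebra.TensorProduct.includeLeft).comp e₀.toAlgHom).restrictScalars R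
        |>.comp Algebra.TensorProduct.includeRight)
      ((((AlgHom.mulLeftRight k (k ⊗[R] B)).comp Algebra.TensorProduct.includeRight).restrictScalars R).comp incl.op)
      fun a b => by
        refine LinearMap.ext fun y => ?_
        simp [mul_assoc]
  have hθ : ∀ a b y, θ (a ⊗ₜ MulOpposite.op b) y = e₀ ((1 : k) ⊗ₜ[R] a) * y * ((1 : k) ⊗ₜ[R] b) := fun a b y => by
    simp [θ, incl, mul_assoc]
  let Θ : k ⊗[R] (A ⊗[R] Bᵐᵒᵖ) →ₐ[k] Module.End k (k ⊗[R] B) :=
    Algebra.TensorProduct.lift (Algebra.ofId k _) θ fun c _ => Algebra.commutes c _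
  have hΘ1 : ∀ c, Θ ((1 : k) ⊗ₜ c) = θ c := fun c => by simp [Θ]
  have hΘs : Function.Surjective Θ := fun T => by
    obtain ⟨t, rfl⟩ := (IsAzumaya.bij (R := k) (A := k ⊗[R] B)).2 T
    induction t using TensorProduct.induction_on with
    | zero => exact ⟨0, by simp⟩
    | add s t hs ht =>
      obtain ⟨a, ha⟩ := hs; obtain ⟨b, hb⟩ := ht
      exact ⟨a + b, by rw [map_add, map_add, ha, hb]⟩
    | tmul y z =>
      induction z using MulOpposite.rec' with
      | _ z =>
      obtain ⟨y, rfl⟩ := e₀.surjective y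
      induction y using TensorProduct.induction_on with
      | zero => exact ⟨0, by simp⟩
      | add y y' hy hy' =>
        obtain ⟨a, ha⟩ := hy; obtain ⟨b, hb⟩ := hy'
        exact ⟨a + b, by rw [map_add, map_add, ha, hb, TensorProduct.add_tmul, map_add]⟩
      | tmul c a =>
        induction z using TensorProduct.induction_on with
        | zero => exact ⟨0, by simp⟩
        | add z z' hz hz' =>
          obtain ⟨a₁, h₁⟩ := hz; obtain ⟨a₂, h₂⟩ := hz'
          exact ⟨a₁ + a₂, by rw [map_add, h₁, h₂, MulOpposite.op_add, TensorProduct.tmul_add, map_add]⟩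
        | tmul d b =>
          refine ⟨(c * d) • ((1 : k) ⊗ₜ (a ⊗ₜ MulOpposite.op b)), LinearMap.ext fun w => ?_⟩
          rw [map_smul, hΘ1, LinearMap.smul_apply, hθ, AlgHom.mulLeftRight_apply, MulOpposite.unop_op,
            show c ⊗ₜ[R] a = c • ((1 : k) ⊗ₜ[R] a) by rw [TensorProduct.smul_tmul', smul_eq_mul, mul_one],
            show d ⊗ₜ[R] b = d • ((1 : k) ⊗ₜ[R] b) by rw [TensorProduct.smul_tmul', smul_eq_mul, mul_one],
            map_smul, smul_mul_assoc, smul_mul_assoc, mul_smul_comm, smul_smul]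
  have hΘ : Function.Bijective Θ := ⟨(LinearMap.injective_iff_surjective_of_finrank_eq_finrank (f := Θ.toLinearMap) (by
    rw [Module.finrank_baseChange, Module.finrank_tensorProduct, Module.finrank_linearMap,
      ← (MulOpposite.opLinearEquiv R : B ≃ₗ[R] Bᵐᵒᵖ).finrank_eq, ← Module.finrank_baseChange (R := k) (S := R) (M' := A),
      e₀.toLinearEquiv.finrank_eq, Module.finrank_baseChange])).mpr hΘs, hΘs⟩
  obtain ⟨φ, hφ⟩ := exists_retraction (R := k) (k ⊗[R] B)
  obtain ⟨ε, hεπ⟩ := hΘ.2 (φ.smulRight (1 : k ⊗[R] B))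
  have hπ1 : ∀ y, Θ ε y = φ y • (1 : k ⊗[R] B) := fun y => by rw [hεπ]; rfl
  obtain ⟨e, he, hee⟩ := exists_idempotent_lift ε (hΘ.1 (by
    rw [map_mul]
    exact LinearMap.ext fun y => by rw [Module.End.mul_apply, hπ1, hπ1, map_smul, hφ, smul_eq_mul, mul_one]))
  let Ψ : B →ₗ[R] A ⊗[R] Bᵐᵒᵖ :=
    (LinearMap.mulRight R e) ∘ₗ ((TensorProduct.mk R A Bᵐᵒᵖ 1) ∘ₗ (MulOpposite.opLinearEquiv R).toLinearMap)
  have hΨ : ∀ b, Ψ b = ((1 : A) ⊗ₜ[R] MulOpposite.op b) * e := fun b => rfl
  have hΨΘ : ∀ z y, Θ (Ψ.lTensor k z) y = φ y • z := fun z y => by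
    induction z using TensorProduct.induction_on with
    | zero => simp
    | add z z' hz hz' => simp [hz, hz', LinearMap.add_apply]
    | tmul c b =>
      rw [LinearMap.lTensor_tmul, hΨ,
        show c ⊗ₜ[R] (((1 : A) ⊗ₜ[R] MulOpposite.op b) * e) = c • (((1 : k) ⊗ₜ[R] ((1 : A) ⊗ₜ[R] MulOpposite.op b)) * ((1 : k) ⊗ₜ[R] e)) by
          rw [Algebra.TensorProduct.tmul_mul_tmul, mul_one, TensorProduct.smul_tmul', smul_eq_mul, mul_one],
        map_smul, map_mul, hee, LinearMap.smul_apply, Module.End.mul_apply, hπ1, hΘ1, hθ,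
        show e₀ ((1 : k) ⊗ₜ[R] (1 : A)) = 1 from (congrArg e₀ Algebra.TensorProduct.one_def.symm).trans (map_one e₀),
        one_mul, smul_mul_assoc, one_mul,
        show c ⊗ₜ[R] b = c • ((1 : k) ⊗ₜ[R] b) by rw [TensorProduct.smul_tmul', smul_eq_mul, mul_one],
        smul_comm]
  have hinj : Function.Injective (Ψ.lTensor k) := fun z z' h => by
    simpa [hΨΘ, hφ] using congrArg (fun T => Θ T 1) h
  obtain ⟨s, hs⟩ := (split_injective_iff_lTensor_residueField_injective Ψ).mpr hinj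
  let g : A ⊗[R] Bᵐᵒᵖ →ₗ[R] A ⊗[R] Bᵐᵒᵖ := LinearMap.id - LinearMap.mulRight R e
  have hrange : ∀ c, c * e = c → Ψ (s c) = c := fun c hc => by
    have hex : ∀ z, g.lTensor k z = 0 → z ∈ LinearMap.range (Ψ.lTensor k) := fun z hz => by
      have hgl : ∀ w, g.lTensor k w = w - w * ε := fun w => by
        induction w using TensorProduct.induction_on with
        | zero => rw [map_zero]; exact (sub_eq_self.mpr (zero_mul ε)).symm
        | add w w' h h' => rw [map_add, h, h', add_mul]; abel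
        | tmul c a => simp [g, ← hee, TensorProduct.tmul_sub, Algebra.TensorProduct.tmul_mul_tmul]
      have hzε : z * ε = z := (sub_eq_zero.mp ((hgl z).symm.trans hz)).symm
      refine ⟨Θ z 1, hΘ.1 (LinearMap.ext fun y => ?_)⟩
      rw [hΨΘ]
      conv_rhs => rw [← hzε, map_mul, Module.End.mul_apply, hπ1, map_smul]
    obtain ⟨b, rfl⟩ := mem_range_of_fibre Ψ g
      (LinearMap.ext fun b => by simp [g, hΨ, mul_assoc, he.eq]) hinj hex c (by simp [g, hc])
    rw [← LinearMap.comp_apply s Ψ, hs, LinearMap.id_apply]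
  let T : A →ₗ[R] B := s ∘ₗ (LinearMap.mulRight R e) ∘ₗ (TensorProduct.mk R A Bᵐᵒᵖ).flip 1
  have hT : ∀ a, ((1 : A) ⊗ₜ[R] MulOpposite.op (T a)) * e = (a ⊗ₜ[R] (1 : Bᵐᵒᵖ)) * e := fun a =>
    hrange ((a ⊗ₜ[R] (1 : Bᵐᵒᵖ)) * e) (by rw [mul_assoc, he.eq])
  have hΨinj : Function.Injective Ψ := Function.HasLeftInverse.injective ⟨s, LinearMap.congr_fun hs⟩
  have hT1 : T 1 = 1 := hΨinj (by rw [hΨ, hΨ, hT]; rfl)
  have hTmul : ∀ a a', T (a * a') = T a * T a' := fun a a' => hΨinj (by
    rw [hΨ, hΨ, hT, show ((a * a') ⊗ₜ[R] (1 : Bᵐᵒᵖ)) = (a ⊗ₜ[R] (1 : Bᵐᵒᵖ)) * (a' ⊗ₜ[R] 1) by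
        rw [Algebra.TensorProduct.tmul_mul_tmul, mul_one],
      mul_assoc, ← hT a', ← mul_assoc, Algebra.TensorProduct.tmul_mul_tmul, mul_one, one_mul,
      show a ⊗ₜ[R] MulOpposite.op (T a') = ((1 : A) ⊗ₜ[R] MulOpposite.op (T a')) * (a ⊗ₜ[R] 1) by
        rw [Algebra.TensorProduct.tmul_mul_tmul, mul_one, one_mul],
      mul_assoc, ← hT a, ← mul_assoc, Algebra.TensorProduct.tmul_mul_tmul, mul_one, ← MulOpposite.op_mul])
  have hTfib : ∀ a, e₀ ((1 : k) ⊗ₜ[R] a) = (1 : k) ⊗ₜ[R] T a := fun a => by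
    have h := congrArg (fun c => Θ ((1 : k) ⊗ₜ[R] c) 1) (hT a)
    have h1 : Θ ((1 : k) ⊗ₜ[R] (((1 : A) ⊗ₜ[R] MulOpposite.op (T a)) * e)) 1 = φ 1 • ((1 : k) ⊗ₜ[R] T a) :=
      hΨΘ ((1 : k) ⊗ₜ[R] T a) 1
    rw [h1, hφ, one_smul, show (1 : k) ⊗ₜ[R] ((a ⊗ₜ[R] (1 : Bᵐᵒᵖ)) * e) = ((1 : k) ⊗ₜ[R] (a ⊗ₜ[R] (1 : Bᵐᵒᵖ))) * ((1 : k) ⊗ₜ[R] e) by
        rw [Algebra.TensorProduct.tmul_mul_tmul, mul_one],
      map_mul, hee, Module.End.mul_apply, hπ1, hφ, one_smul, hΘ1, ← MulOpposite.op_one, hθ, mul_one,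
      ← Algebra.TensorProduct.one_def, mul_one] at h
    exact h.symm
  have hTl : ∀ z, T.lTensor k z = e₀ z := fun z => by
    induction z using TensorProduct.induction_on with
    | zero => simp
    | add z z' h h' => rw [map_add, map_add, h, h']
    | tmul c a =>
      rw [LinearMap.lTensor_tmul, show c ⊗ₜ[R] a = c • ((1 : k) ⊗ₜ[R] a) by rw [TensorProduct.smul_tmul', smul_eq_mul, mul_one],
        map_smul, hTfib, TensorProduct.smul_tmul', smul_eq_mul, mul_one]
  have hTinj : Function.Injective (T.lTensor k) := fun z z' h => e₀.injective (by rwa [hTl, hTl] at h)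
  have hTsurj : Function.Surjective T := fun b => by
    obtain ⟨a, ha⟩ := mem_range_of_fibre T (0 : B →ₗ[R] B) (by simp) hTinj
      (fun z _ => by
        obtain ⟨y, hy⟩ := e₀.surjective z
        exact ⟨y, by rw [hTl, hy]⟩) b rfl
    exact ⟨a, ha⟩
  have hTbij : Function.Bijective T := by
    refine ⟨?_, hTsurj⟩
    obtain ⟨s', hs'⟩ := (split_injective_iff_lTensor_residueField_injective T).mpr hTinj
    exact Function.HasLeftInverse.injective ⟨s', LinearMap.congr_fun hs'⟩
  exact ⟨AlgEquiv.ofBijective (AlgHom.ofLinearMap T hT1 hTmul) hTbij, hTfib⟩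

end Groth.L11.Az
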