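import Groth.Agent.L11.CSA.BaseChange
import Mathlib.Algebra.Azumaya.Matrix
import Mathlib.Algebra.Azumaya.Basic
import Mathlib.LinearAlgebra.FreeModule.Finite.Matrix
import Mathlib.RingTheory.SimpleModule.Basic
import Mathlib.LinearAlgebra.Contraction
import Mathlib.RingTheory.TensorProduct.IsBaseChangeHom
import Mathlib.RingTheory.LocalProperties.Exactness
import Mathlib.RingTheory.Localization.BaseChange
import Mathlib.RingTheory.Finiteness.Descent
import Mathlib.RingTheory.Flat.EquationalCriterion
import Mathlib.RingTheory.LocalRing.Module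
import Mathlib.RingTheory.Nakayama
import Mathlib.LinearAlgebra.Matrix.ToLin

/-!
Azumaya algebras: permanence properties and descent.
-/

set_option autoImplicit false
universe u v w x

open scoped TensorProduct
open MulOpposite

namespace Groth.L11.Az

variable {R : Type u} [CommRing R]

/-- A faithful finite projective algebra admits an `R`-linear retraction of `algebraMap`. -/
theorem exists_retraction (A : Type v) [Ring A] [Algebra R A] [Module.Finite R A] [Module.Projective R A]
    [FaithfulSMul R A] : ∃ ρ : A →ₗ[R] R, ρ 1 = 1 := by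
  let ev : Module.Dual R A →ₗ[R] R := LinearMap.applyₗ (1 : A)
  suffices h : LinearMap.range ev = ⊤ by
    obtain ⟨f, hf⟩ : (1 : R) ∈ LinearMap.range ev := h ▸ trivial
    exact ⟨f, hf⟩
  set I : Ideal R := LinearMap.range ev with hI
  obtain ⟨n, p, i, -, -, hpi⟩ := Module.Finite.exists_comp_eq_id_of_projective R A
  have h1 : (1 : A) ∈ I • (⊤ : Submodule R A) := by
    rw [show (1 : A) = p (i 1) from (DFunLike.congr_fun hpi 1).symm, pi_eq_sum_univ' (i 1), map_sum]
    refine Submodule.sum_mem _ fun j _ => ?_
    rw [map_smul]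
    exact Submodule.smul_mem_smul ⟨(LinearMap.proj j).comp i, rfl⟩ trivial
  have htop : (⊤ : Submodule R A) ≤ I • ⊤ := fun a _ => by
    rw [← one_mul a]
    refine Submodule.smul_induction_on h1 (fun r hr b _ => ?_) (fun x y hx hy => ?_)
    · rw [smul_mul_assoc]
      exact Submodule.smul_mem_smul hr trivial
    · rw [add_mul]; exact add_mem hx hy
  obtain ⟨r, hr, hr0⟩ :=
    Submodule.exists_sub_one_mem_and_smul_eq_zero_of_fg_of_le_smul I ⊤ Module.Finite.fg_top htop
  have : r = 0 := FaithfulSMul.eq_of_smul_eq_smul (α := A) fun a => by rw [hr0 a trivial, zero_smul]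
  rw [this, zero_sub] at hr
  rw [Ideal.eq_top_iff_one]
  simpa using hr

theorem faithfulSMul_of_retraction {A : Type v} [Ring A] [Algebra R A] (ρ : A →ₗ[R] R) (hρ : ρ 1 = 1) :
    FaithfulSMul R A :=
  ⟨fun {r s} h => by simpa [map_smul, hρ] using congrArg ρ (h 1)⟩

theorem faithfulSMul_baseChange (S : Type w) [CommRing S] [Algebra R S] (A : Type v) [Ring A] [Algebra R A]
    [Module.Finite R A] [Module.Projective R A] [FaithfulSMul R A] : FaithfulSMul S (S ⊗[R] A) := by
  obtain ⟨ρ, hρ⟩ := exists_retraction (R := R) A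
  exact faithfulSMul_of_retraction ((TensorProduct.AlgebraTensorModule.rid R S S).toLinearMap.comp (ρ.baseChange S))
    (by simp [Algebra.TensorProduct.one_def, hρ])

section EndBaseChange

variable (S : Type w) [CommRing S] [Algebra R S] (P : Type v) [AddCommGroup P] [Module R P]

/-- `S ⊗ End P → End (S ⊗ P)`. -/
noncomputable def endBC : S ⊗[R] Module.End R P →ₗ[S] Module.End S (S ⊗[R] P) :=
  LinearMap.liftBaseChange S (LinearMap.baseChangeHom R S P P)

theorem endBC_tmul (s : S) (f : Module.End R P) : endBC S P (s ⊗ₜ f) = s • f.baseChange S := by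
  simp [endBC]

theorem endBC_bijective_free [Module.Free R P] [Module.Finite R P] : Function.Bijective (endBC (R := R) S P) := by
  have j : IsBaseChange S (TensorProduct.mk R S P 1) := TensorProduct.isBaseChange R P S
  have h := j.end
  have key : ∀ x, endBC S P x = h.equiv x := fun x => by
    induction x using TensorProduct.induction_on with
    | zero => simp
    | add a b ha hb => rw [map_add, map_add, ha, hb]
    | tmul s f =>
      rw [endBC_tmul, h.equiv_tmul]
      congr 1
      refine TensorProduct.AlgebraTensorModule.ext fun t p => ?_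
      rw [show (t ⊗ₜ[R] p : S ⊗[R] P) = t • (TensorProduct.mk R S P 1) p by simp [TensorProduct.smul_tmul'],
        map_smul, map_smul, IsBaseChange.endHom_comp_apply]
      simp
  exact (funext key : (endBC S P : _ → _) = h.equiv) ▸ h.equiv.bijective

theorem endBC_bijective [Module.Finite R P] [Module.Projective R P] : Function.Bijective (endBC (R := R) S P) := by
  obtain ⟨n, p, i, -, -, hpi⟩ := Module.Finite.exists_comp_eq_id_of_projective R P
  let Ei : Module.End R P →ₗ[R] Module.End R (Fin n → R) :=
    (LinearMap.llcomp R (Fin n → R) P (Fin n → R) i).comp (LinearMap.lcomp R P p)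
  let Ep : Module.End R (Fin n → R) →ₗ[R] Module.End R P :=
    (LinearMap.llcomp R P (Fin n → R) P p).comp (LinearMap.lcomp R (Fin n → R) i)
  have hEi : ∀ f, Ei f = i ∘ₗ f ∘ₗ p := fun f => rfl
  have hEp : ∀ g, Ep g = p ∘ₗ g ∘ₗ i := fun g => rfl
  have hEE : Ep.comp Ei = LinearMap.id := LinearMap.ext fun f => by
    rw [LinearMap.comp_apply, hEi, hEp]
    exact LinearMap.ext fun x => by
      simp [← LinearMap.comp_apply p i, hpi]
  have hpiS : ∀ x, p.baseChange S (i.baseChange S x) = x := fun x => by
    rw [← LinearMap.comp_apply, ← LinearMap.baseChange_comp, hpi, LinearMap.baseChange_id, LinearMap.id_apply]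
  have hEES : ∀ x, Ep.baseChange S (Ei.baseChange S x) = x := fun x => by
    rw [← LinearMap.comp_apply, ← LinearMap.baseChange_comp, hEE, LinearMap.baseChange_id, LinearMap.id_apply]
  have nat_i : ∀ x, endBC S (Fin n → R) (Ei.baseChange S x) =
      i.baseChange S ∘ₗ endBC S P x ∘ₗ p.baseChange S := fun x => by
    induction x using TensorProduct.induction_on with
    | zero => simp
    | add a b ha hb => simp [ha, hb, LinearMap.comp_add, LinearMap.add_comp]
    | tmul s f =>
      simp [endBC_tmul, hEi, LinearMap.baseChange_comp, LinearMap.smul_comp, LinearMap.comp_smul]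
  have nat_p : ∀ z, endBC S P (Ep.baseChange S z) =
      p.baseChange S ∘ₗ endBC S (Fin n → R) z ∘ₗ i.baseChange S := fun z => by
    induction z using TensorProduct.induction_on with
    | zero => simp
    | add a b ha hb => simp [ha, hb, LinearMap.comp_add, LinearMap.add_comp]
    | tmul s f =>
      simp [endBC_tmul, hEp, LinearMap.baseChange_comp, LinearMap.smul_comp, LinearMap.comp_smul]
  refine ⟨(injective_iff_map_eq_zero _).mpr fun x hx => ?_, fun y => ?_⟩
  · have h := nat_i x
    rw [hx, LinearMap.zero_comp, LinearMap.comp_zero] at h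
    rw [← hEES x, (endBC_bijective_free S (Fin n → R)).1 (h.trans (map_zero _).symm), map_zero]
  · obtain ⟨z, hz⟩ := (endBC_bijective_free (R := R) S (Fin n → R)).2 (i.baseChange S ∘ₗ y ∘ₗ p.baseChange S)
    refine ⟨Ep.baseChange S z, ?_⟩
    rw [nat_p, hz]
    exact LinearMap.ext fun x => by simp [hpiS]

end EndBaseChange

section Bridge

variable (S : Type w) [CommRing S] [Algebra R S] (A : Type v) [Ring A] [Algebra R A]

/-- `S ⊗ (A ⊗ Aᵒᵖ) ≅ (S ⊗ A) ⊗_S (S ⊗ A)ᵒᵖ`. -/
noncomputable def envBC : S ⊗[R] (A ⊗[R] Aᵐᵒᵖ) ≃ₗ[S] (S ⊗[R] A) ⊗[S] (S ⊗[R] A)ᵐᵒᵖ :=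
  (CSA.distribEquiv R S A Aᵐᵒᵖ).toLinearEquiv.trans
    (TensorProduct.congr (LinearEquiv.refl S (S ⊗[R] A))
      (((opLinearEquiv R : A ≃ₗ[R] Aᵐᵒᵖ).symm.baseChange R S).trans (opLinearEquiv S)))

theorem mulLeftRight_envBC (x : S ⊗[R] (A ⊗[R] Aᵐᵒᵖ)) :
    AlgHom.mulLeftRight S (S ⊗[R] A) (envBC S A x) =
      endBC S A ((AlgHom.mulLeftRight R A).toLinearMap.baseChange S x) := by
  induction x using TensorProduct.induction_on with
  | zero => simp
  | add a b ha hb => simp only [map_add, ha, hb]
  | tmul s y =>
    rw [show s ⊗ₜ[R] y = s • ((1 : S) ⊗ₜ[R] y) by rw [TensorProduct.smul_tmul', smul_eq_mul, mul_one]]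
    simp only [map_smul]
    congr 1
    induction y using TensorProduct.induction_on with
    | zero => simp
    | add a b ha hb => simp only [TensorProduct.tmul_add, map_add, ha, hb]
    | tmul a b =>
      rw [LinearMap.baseChange_tmul, endBC_tmul, one_smul]
      refine TensorProduct.AlgebraTensorModule.ext fun t c => ?_
      simp [envBC, CSA.distribEquiv_one_tmul, Algebra.TensorProduct.tmul_mul_tmul]

theorem bijective_iff [Module.Finite R A] [Module.Projective R A] :
    Function.Bijective (AlgHom.mulLeftRight S (S ⊗[R] A)) ↔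
      Function.Bijective ((AlgHom.mulLeftRight R A).toLinearMap.baseChange S) := by
  have h : (AlgHom.mulLeftRight S (S ⊗[R] A) : _ → _) ∘ envBC S A =
      endBC S A ∘ (AlgHom.mulLeftRight R A).toLinearMap.baseChange S := funext (mulLeftRight_envBC S A)
  constructor
  · intro hb
    refine ((endBC_bijective S A).of_comp_iff' _).mp ?_
    rw [← h]
    exact hb.comp (envBC S A).bijective
  · intro hb
    refine (Function.Bijective.of_comp_iff _ (envBC S A).bijective).mp ?_
    rw [h]
    exact (endBC_bijective S A).comp hb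

theorem isAzumaya_baseChange [IsAzumaya R A] : IsAzumaya S (S ⊗[R] A) :=
  haveI := faithfulSMul_baseChange (R := R) S A
  { eq_of_smul_eq_smul := FaithfulSMul.eq_of_smul_eq_smul
    bij := (bijective_iff S A).mpr
      ((LinearEquiv.ofBijective (AlgHom.mulLeftRight R A).toLinearMap IsAzumaya.bij).baseChange R S).bijective }

end Bridge

theorem isAzumaya_tensor (A : Type v) [Ring A] [Algebra R A] [IsAzumaya R A]
    (B : Type w) [Ring B] [Algebra R B] [IsAzumaya R B] : IsAzumaya R (A ⊗[R] B) := by
  obtain ⟨ρ, hρ⟩ := exists_retraction (R := R) A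
  obtain ⟨ρ', hρ'⟩ := exists_retraction (R := R) B
  haveI : FaithfulSMul R (A ⊗[R] B) := faithfulSMul_of_retraction
    ((TensorProduct.lid R R).toLinearMap.comp (TensorProduct.map ρ ρ')) (by simp [Algebra.TensorProduct.one_def, hρ, hρ'])
  refine { eq_of_smul_eq_smul := FaithfulSMul.eq_of_smul_eq_smul, bij := ?_ }
  let e : (A ⊗[R] B) ⊗[R] (A ⊗[R] B)ᵐᵒᵖ ≃ₗ[R] (A ⊗[R] Aᵐᵒᵖ) ⊗[R] (B ⊗[R] Bᵐᵒᵖ) :=
    (TensorProduct.congr (LinearEquiv.refl R _)
      ((opLinearEquiv R).symm.trans (TensorProduct.congr (opLinearEquiv R) (opLinearEquiv R)))).trans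
      (TensorProduct.tensorTensorTensorComm R A B Aᵐᵒᵖ Bᵐᵒᵖ)
  let F := (e.trans (TensorProduct.congr (LinearEquiv.ofBijective (AlgHom.mulLeftRight R A).toLinearMap IsAzumaya.bij)
    (LinearEquiv.ofBijective (AlgHom.mulLeftRight R B).toLinearMap IsAzumaya.bij))).trans
      (homTensorHomEquiv R A B A B)
  have h : (AlgHom.mulLeftRight R (A ⊗[R] B)).toLinearMap = F.toLinearMap := by
    refine TensorProduct.ext' fun x y => ?_
    induction y using MulOpposite.rec' with
    | _ y =>
    induction x using TensorProduct.induction_on with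
    | zero => simp
    | add a b ha hb => simp only [TensorProduct.add_tmul, map_add, ha, hb]
    | tmul a b =>
      induction y using TensorProduct.induction_on with
      | zero => simp
      | add c d hc hd => simp only [MulOpposite.op_add, TensorProduct.tmul_add, map_add, hc, hd]
      | tmul c d =>
        refine TensorProduct.ext' fun p q => ?_
        simp [F, e, Algebra.TensorProduct.tmul_mul_tmul]
  exact (DFunLike.ext'_iff.mp h : (AlgHom.mulLeftRight R (A ⊗[R] B) : _ → _) = F) ▸ F.bijective

theorem bijective_of_local {M : Type v} [AddCommGroup M] [Module R M] {N : Type w} [AddCommGroup N] [Module R N]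
    (f : M →ₗ[R] N)
    (h : ∀ (m : Ideal R) [m.IsMaximal], Function.Bijective (f.baseChange (Localization.AtPrime m))) :
    Function.Bijective f := by
  refine bijective_of_isLocalized_maximal _ (fun m _ => TensorProduct.mk R (Localization.AtPrime m) M 1) _
    (fun m _ => TensorProduct.mk R (Localization.AtPrime m) N 1) f fun m _ => ?_
  have : IsLocalizedModule.map m.primeCompl (TensorProduct.mk R (Localization.AtPrime m) M 1)
      (TensorProduct.mk R (Localization.AtPrime m) N 1) f =
        (f.baseChange (Localization.AtPrime m)).restrictScalars R :=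
    IsLocalizedModule.ext m.primeCompl (TensorProduct.mk R (Localization.AtPrime m) M 1)
      (IsLocalizedModule.map_units (TensorProduct.mk R (Localization.AtPrime m) N 1))
      (LinearMap.ext fun x => by
        simp only [LinearMap.comp_apply, IsLocalizedModule.map_apply]
        simp)
  rw [this]
  exact h m

theorem isAzumaya_of_free_end (P : Type v) [AddCommGroup P] [Module R P] [Module.Free R P] [Module.Finite R P]
    [Nontrivial P] : IsAzumaya R (Module.End R P) := by
  classical
  let b := Module.Free.chooseBasis R P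
  haveI : Nonempty (Module.Free.ChooseBasisIndex R P) := b.index_nonempty
  haveI := IsAzumaya.matrix R (Module.Free.ChooseBasisIndex R P)
  exact IsAzumaya.of_AlgEquiv R _ _ (algEquivMatrix b).symm

theorem projective_end (P : Type v) [AddCommGroup P] [Module R P] [Module.Finite R P] [Module.Projective R P] :
    Module.Projective R (Module.End R P) ∧ Module.Finite R (Module.End R P) := by
  obtain ⟨n, p, i, -, -, hpi⟩ := Module.Finite.exists_comp_eq_id_of_projective R P
  let Ei : Module.End R P →ₗ[R] Module.End R (Fin n → R) :=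
    (LinearMap.llcomp R (Fin n → R) P (Fin n → R) i).comp (LinearMap.lcomp R P p)
  let Ep : Module.End R (Fin n → R) →ₗ[R] Module.End R P :=
    (LinearMap.llcomp R P (Fin n → R) P p).comp (LinearMap.lcomp R (Fin n → R) i)
  have h : Ep.comp Ei = LinearMap.id :=
    LinearMap.ext fun f => LinearMap.ext fun x => by simp [Ep, Ei, ← LinearMap.comp_apply p i, hpi]
  exact ⟨Module.Projective.of_split Ei Ep h, Module.Finite.of_surjective Ep fun f => ⟨Ei f, DFunLike.congr_fun h f⟩⟩

theorem isAzumaya_end (P : Type v) [AddCommGroup P] [Module R P] [Module.Finite R P] [Module.Projective R P]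
    [FaithfulSMul R P] : IsAzumaya R (Module.End R P) := by
  haveI : FaithfulSMul R (Module.End R P) :=
    ⟨fun {r s} h => FaithfulSMul.eq_of_smul_eq_smul (α := P) fun p => by
      simpa using LinearMap.congr_fun (h LinearMap.id) p⟩
  obtain ⟨_, _⟩ := projective_end (R := R) P
  refine { bij := bijective_of_local (AlgHom.mulLeftRight R (Module.End R P)).toLinearMap fun m _ => ?_ }
  rw [← bijective_iff]
  let S := Localization.AtPrime m
  haveI : Module.Free S (S ⊗[R] P) := Module.free_of_flat_of_isLocalRing
  let e : S ⊗[R] Module.End R P ≃ₐ[S] Module.End S (S ⊗[R] P) :=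
    AlgEquiv.ofBijective
      (AlgHom.ofLinearMap (endBC S P) (by rw [Algebra.TensorProduct.one_def, endBC_tmul, one_smul, LinearMap.baseChange_one])
        fun x y => by
          induction x using TensorProduct.induction_on with
          | zero => simp
          | add a b ha hb => simp [add_mul, ha, hb]
          | tmul s f =>
            induction y using TensorProduct.induction_on with
            | zero => simp
            | add a b ha hb => simp [mul_add, ha, hb]
            | tmul t g =>
              simp only [endBC_tmul, Algebra.TensorProduct.tmul_mul_tmul, LinearMap.baseChange_mul, smul_mul_smul_comm])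
      (endBC_bijective S P)
  haveI : Nontrivial (S ⊗[R] P) := by
    haveI := faithfulSMul_baseChange (R := R) S (Module.End R P)
    haveI : Nontrivial (S ⊗[R] Module.End R P) :=
      (FaithfulSMul.algebraMap_injective S (S ⊗[R] Module.End R P)).nontrivial
    haveI : Nontrivial (Module.End S (S ⊗[R] P)) := e.symm.toEquiv.nontrivial
    by_contra hn
    haveI := not_nontrivial_iff_subsingleton.mp hn
    exact false_of_nontrivial_of_subsingleton (Module.End S (S ⊗[R] P))
  haveI := isAzumaya_of_free_end (R := S) (S ⊗[R] P)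
  haveI := IsAzumaya.of_AlgEquiv S (Module.End S (S ⊗[R] P)) (S ⊗[R] Module.End R P) e.symm
  exact IsAzumaya.bij

theorem finitePresentation_descent (S : Type w) [CommRing S] [Algebra R S] [Module.FaithfullyFlat R S]
    (B : Type v) [AddCommGroup B] [Module R B] [Module.FinitePresentation S (S ⊗[R] B)] :
    Module.FinitePresentation R B := by
  haveI : Module.Finite R B := Module.Finite.of_finite_tensorProduct_of_faithfullyFlat S
  obtain ⟨n, π, hπ⟩ := Module.Finite.exists_fin' R B
  let πS := π.baseChange S
  have hπS : Function.Surjective πS := LinearMap.lTensor_surjective S hπ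
  let ι := (LinearMap.ker π).subtype.baseChange S
  have hι : Function.Injective ι :=
    Module.Flat.lTensor_preserves_injective_linearMap (M := S) (LinearMap.ker π).subtype Subtype.val_injective
  have hex : LinearMap.range ι = LinearMap.ker πS := by
    ext x
    exact ((lTensor_exact S (LinearMap.exact_subtype_ker_map π) hπ) x).symm
  haveI : Module.Finite S (LinearMap.ker πS) :=
    Module.Finite.iff_fg.mpr (Module.FinitePresentation.fg_ker πS hπS)
  haveI : Module.Finite S (S ⊗[R] LinearMap.ker π) :=
    Module.Finite.equiv ((LinearEquiv.ofInjective ι hι).trans (LinearEquiv.ofEq _ _ hex)).symm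
  exact Module.finitePresentation_of_surjective π hπ
    (Module.Finite.iff_fg.mp (Module.Finite.of_finite_tensorProduct_of_faithfullyFlat S))

theorem isAzumaya_descent (S : Type w) [CommRing S] [Algebra R S] [Module.FaithfullyFlat R S]
    (B : Type v) [Ring B] [Algebra R B] [IsAzumaya S (S ⊗[R] B)] : IsAzumaya R B := by
  haveI : Module.FinitePresentation S (S ⊗[R] B) := Module.finitePresentation_of_projective _ _
  haveI := finitePresentation_descent S B (R := R)
  haveI : Module.Finite R B := inferInstance
  haveI : Module.Flat R B := Module.Flat.of_flat_tensorProduct R B S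
  haveI : Module.Projective R B := Module.Flat.projective_of_finitePresentation
  haveI : FaithfulSMul R B := by
    rw [faithfulSMul_iff_algebraMap_injective]
    intro r s hrs
    refine FaithfulSMul.algebraMap_injective R S (FaithfulSMul.algebraMap_injective S (S ⊗[R] B) ?_)
    rw [← IsScalarTower.algebraMap_apply, ← IsScalarTower.algebraMap_apply]
    have h := congrArg (Algebra.TensorProduct.includeRight : B →ₐ[R] S ⊗[R] B) hrs
    rwa [AlgHom.commutes, AlgHom.commutes] at h
  have h := (bijective_iff (R := R) S B).mp IsAzumaya.bij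
  exact { bij := ⟨(Module.FaithfullyFlat.lTensor_injective_iff_injective R S _).mp h.1,
    (Module.FaithfullyFlat.lTensor_surjective_iff_surjective R S _).mp h.2⟩ }

theorem subsingleton_of_baseChange (S : Type w) [CommRing S] [Algebra R S]
    (hS : Function.Surjective (PrimeSpectrum.comap (algebraMap R S)))
    (Q : Type v) [AddCommGroup Q] [Module R Q] [Module.Finite R Q] [Subsingleton (S ⊗[R] Q)] :
    Subsingleton Q := by
  by_contra hQ
  haveI := not_subsingleton_iff_nontrivial.mp hQ
  obtain ⟨N, hN, -⟩ := (eq_top_or_exists_le_coatom (⊥ : Submodule R Q)).resolve_left bot_ne_top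
  haveI : IsSimpleModule R (Q ⧸ N) := isSimpleModule_iff_isCoatom.mpr hN
  obtain ⟨m, hm, ⟨e⟩⟩ := isSimpleModule_iff_quot_maximal.mp ‹IsSimpleModule R (Q ⧸ N)›
  obtain ⟨q, hq⟩ := hS ⟨m, hm.isPrime⟩
  let π : Q →ₗ[R] R ⧸ m := e.toLinearMap.comp N.mkQ
  let ψ : R ⧸ m →ₗ[R] S ⧸ q.asIdeal := Submodule.liftQ m (Algebra.linearMap R (S ⧸ q.asIdeal)) fun r hr => by
    rw [LinearMap.mem_ker, Algebra.linearMap_apply, IsScalarTower.algebraMap_apply R S (S ⧸ q.asIdeal),
      Ideal.Quotient.algebraMap_eq, Ideal.Quotient.eq_zero_iff_mem]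
    rw [show m = (PrimeSpectrum.comap (algebraMap R S) q).asIdeal by rw [hq]] at hr
    exact hr
  obtain ⟨x, hx⟩ := e.surjective 1
  obtain ⟨y, rfl⟩ := N.mkQ_surjective x
  have h0 : LinearMap.liftBaseChange S (ψ.comp π) ((1 : S) ⊗ₜ y) = 0 := by
    rw [Subsingleton.elim ((1 : S) ⊗ₜ[R] y) 0, map_zero]
  rw [LinearMap.liftBaseChange_tmul, one_smul, LinearMap.comp_apply, show π y = Submodule.Quotient.mk 1 from hx] at h0
  rw [Submodule.liftQ_apply, Algebra.linearMap_apply, map_one] at h0
  exact q.isPrime.ne_top ((Ideal.eq_top_iff_one _).mpr (Ideal.Quotient.eq_zero_iff_mem.mp (by simpa using h0)))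

theorem isAzumaya_of_comap_surjective (S : Type w) [CommRing S] [Algebra R S]
    (hS : Function.Surjective (PrimeSpectrum.comap (algebraMap R S)))
    (B : Type v) [Ring B] [Algebra R B] [Module.Finite R B] [Module.Projective R B]
    [IsAzumaya S (S ⊗[R] B)] : IsAzumaya R B := by
  haveI : FaithfulSMul R B := by
    let ev : Module.Dual R B →ₗ[R] R := LinearMap.applyₗ (1 : B)
    set I : Ideal R := LinearMap.range ev with hI
    suffices h : I = ⊤ by
      obtain ⟨f, hf⟩ : (1 : R) ∈ I := h ▸ trivial
      exact faithfulSMul_of_retraction f hf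
    by_contra hne
    obtain ⟨m, hm, hIm⟩ := Ideal.exists_le_maximal I hne
    obtain ⟨q, hq⟩ := hS ⟨m, hm.isPrime⟩
    obtain ⟨n, p, i, -, -, hpi⟩ := Module.Finite.exists_comp_eq_id_of_projective R B
    obtain ⟨ρ, hρ⟩ := exists_retraction (R := S) (S ⊗[R] B)
    have h1 : (1 : S ⊗[R] B) = ∑ j, algebraMap R S (i 1 j) • ((1 : S) ⊗ₜ[R] p (Pi.single j 1)) := by
      conv_lhs => rw [Algebra.TensorProduct.one_def, show (1 : B) = p (i 1) from (DFunLike.congr_fun hpi 1).symm,
        pi_eq_sum_univ' (i 1), map_sum, TensorProduct.tmul_sum]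
      refine Finset.sum_congr rfl fun j _ => ?_
      rw [map_smul, TensorProduct.tmul_smul, algebraMap_smul]
    have h2 := congrArg ρ h1
    rw [hρ, map_sum] at h2
    refine q.isPrime.ne_top ((Ideal.eq_top_iff_one _).mpr (h2 ▸ Ideal.sum_mem _ fun j _ => ?_))
    rw [map_smul, smul_eq_mul]
    refine Ideal.mul_mem_right _ _ ?_
    have : i 1 j ∈ m := hIm ⟨(LinearMap.proj j).comp i, rfl⟩
    rw [show m = (PrimeSpectrum.comap (algebraMap R S) q).asIdeal by rw [hq]] at this
    exact this
  have h := (bijective_iff (R := R) S B).mp IsAzumaya.bij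
  set f := (AlgHom.mulLeftRight R B).toLinearMap
  obtain ⟨_, _⟩ := projective_end (R := R) B
  haveI : Module.Finite R (B ⊗[R] Bᵐᵒᵖ) := inferInstance
  have hsurj : Function.Surjective f := by
    rw [← LinearMap.range_eq_top, ← Submodule.Quotient.subsingleton_iff]
    haveI : Subsingleton (S ⊗[R] (Module.End R B ⧸ LinearMap.range f)) := by
      refine subsingleton_of_forall_eq 0 fun x => ?_
      obtain ⟨y, rfl⟩ := LinearMap.lTensor_surjective S (LinearMap.range f).mkQ_surjective x
      obtain ⟨z, rfl⟩ := h.2 y
      rw [← LinearMap.baseChange_eq_ltensor (A := S), ← LinearMap.comp_apply, ← LinearMap.baseChange_comp,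
        LinearMap.range_mkQ_comp, LinearMap.baseChange_zero, LinearMap.zero_apply]
    exact subsingleton_of_baseChange S hS _
  obtain ⟨g, hg⟩ := Module.projective_lifting_property f LinearMap.id hsurj
  have hinj : Function.Injective f := by
    haveI : Subsingleton (S ⊗[R] LinearMap.ker f) := by
      let P : (B ⊗[R] Bᵐᵒᵖ) →ₗ[R] LinearMap.ker f := (LinearMap.id - g.comp f).codRestrict _ fun x => by
        simp [← LinearMap.comp_apply f g, hg]
      have hP : P.comp (LinearMap.ker f).subtype = LinearMap.id :=
        LinearMap.ext fun x => Subtype.ext (by simp [P])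
      refine subsingleton_of_forall_eq 0 fun x => ?_
      have h0 : (LinearMap.ker f).subtype.baseChange S x = 0 := h.1 (by
        rw [← LinearMap.comp_apply, ← LinearMap.baseChange_comp, LinearMap.comp_ker_subtype,
          LinearMap.baseChange_zero, LinearMap.zero_apply, map_zero])
      rw [← LinearMap.id_apply (R := S) x, ← LinearMap.baseChange_id, ← hP, LinearMap.baseChange_comp,
        LinearMap.comp_apply, h0, map_zero]
    haveI : Module.Finite R (LinearMap.ker f) := Module.Finite.of_surjective
      ((LinearMap.id - g.comp f).codRestrict (LinearMap.ker f) fun x => by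
        simp [← LinearMap.comp_apply f g, hg]) fun x => ⟨x.1, Subtype.ext (by simp)⟩
    haveI := subsingleton_of_baseChange S hS (LinearMap.ker f)
    exact LinearMap.ker_eq_bot.mp (Submodule.eq_bot_of_subsingleton)
  exact { bij := ⟨hinj, hsurj⟩ }

end Groth.L11.Az
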