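import Groth.Agent.L11.Az.Basic
import Mathlib.RingTheory.PicardGroup
import Mathlib.RingTheory.Flat.FaithfullyFlat.Basic
import Mathlib.RingTheory.OrzechProperty
import Mathlib.LinearAlgebra.Matrix.Charpoly.Basic

/-!
Isomorphisms of endomorphism algebras of projective modules (Morita), automorphisms of Azumaya algebras.
-/

set_option autoImplicit false
universe u v w

open scoped TensorProduct

namespace Groth.L11.Az

variable {R : Type u} [CommRing R]

section Lifts

variable {F : Type v} [AddCommGroup F] [Module R F] {G : Type w} [AddCommGroup G] [Module R G]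
  (φ : Module.End R F ≃ₐ[R] Module.End R G)

/-- Linear maps `F → G` intertwining `φ`. -/
def lifts : Submodule R (F →ₗ[R] G) where
  carrier := {l | ∀ f, φ f ∘ₗ l = l ∘ₗ f}
  zero_mem' f := by simp
  add_mem' {l l'} h h' f := by rw [LinearMap.comp_add, LinearMap.add_comp, h f, h' f]
  smul_mem' r l h f := by rw [LinearMap.comp_smul, LinearMap.smul_comp, h f]

theorem lifts_apply (l : lifts φ) (f : Module.End R F) (x : F) : φ f (l.1 x) = l.1 (f x) :=
  LinearMap.congr_fun (l.2 f) x

/-- `x ⊗ l ↦ l x`. -/
noncomputable def evalLifts : F ⊗[R] lifts φ →ₗ[R] G :=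
  TensorProduct.lift ((LinearMap.applyₗ (R := R) (M := F) (M₂ := G)).compl₂ (lifts φ).subtype)

@[simp] theorem evalLifts_tmul (x : F) (l : lifts φ) : evalLifts φ (x ⊗ₜ l) = l.1 x := rfl

theorem evalLifts_rTensor (f : Module.End R F) (t : F ⊗[R] lifts φ) :
    evalLifts φ (f.rTensor _ t) = φ f (evalLifts φ t) := by
  induction t using TensorProduct.induction_on with
  | zero => simp
  | add a b ha hb => simp [ha, hb]
  | tmul x l => simp [lifts_apply]

/-- `g ↦ (x ↦ φ(w ⊗ x) g)`. -/
def mkLift (w : Module.Dual R F) : G →ₗ[R] lifts φ where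
  toFun g := ⟨{ toFun := fun x => φ (w.smulRight x) g
                map_add' := fun x y => by
                  rw [← LinearMap.add_apply, ← map_add]
                  congr 2
                  ext z
                  simp
                map_smul' := fun r x => by
                  rw [RingHom.id_apply, ← LinearMap.smul_apply, ← map_smul]
                  congr 2
                  ext z
                  simp [smul_comm r] },
    fun f => LinearMap.ext fun x => by
      simp only [LinearMap.comp_apply, LinearMap.coe_mk, AddHom.coe_mk]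
      rw [← Module.End.mul_apply, ← map_mul]
      congr 2
      ext z
      simp⟩
  map_add' g g' := Subtype.ext (LinearMap.ext fun x => map_add (φ (w.smulRight x)) g g')
  map_smul' r g := Subtype.ext (LinearMap.ext fun x => map_smul (φ (w.smulRight x)) r g)

@[simp] theorem mkLift_apply (w : Module.Dual R F) (g : G) (x : F) :
    (mkLift φ w g).1 x = φ (w.smulRight x) g := rfl

theorem evalLifts_bijective [Module.Finite R F] [Module.Projective R F] : Function.Bijective (evalLifts φ) := by
  obtain ⟨n, p, i, -, -, hpi⟩ := Module.Finite.exists_comp_eq_id_of_projective R F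
  let e : Fin n → F := fun j => p (Pi.single j 1)
  let c : Fin n → Module.Dual R F := fun j => (LinearMap.proj j).comp i
  have he : ∀ x, ∑ j, c j x • e j = x := fun x => by
    conv_rhs => rw [show x = p (i x) from (DFunLike.congr_fun hpi x).symm, pi_eq_sum_univ' (i x), map_sum]
    simp [c, e]
  have hid : ∑ j, (c j).smulRight (e j) = (LinearMap.id : Module.End R F) :=
    LinearMap.ext fun x => by simpa using he x
  let inv : G →ₗ[R] F ⊗[R] lifts φ := ∑ j, (TensorProduct.mk R F (lifts φ) (e j)).comp (mkLift φ (c j))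
  refine Function.bijective_iff_has_inverse.mpr ⟨inv, fun t => ?_, fun g => ?_⟩
  · induction t using TensorProduct.induction_on with
    | zero => simp
    | add a b ha hb => rw [map_add, map_add, ha, hb]
    | tmul x l =>
      have : ∀ j, mkLift φ (c j) (l.1 x) = c j x • l := fun j => Subtype.ext (LinearMap.ext fun y => by
        simp [lifts_apply])
      simp only [inv, evalLifts_tmul, LinearMap.sum_apply, LinearMap.comp_apply, TensorProduct.mk_apply, this,
        TensorProduct.tmul_smul]
      simp only [TensorProduct.smul_tmul', ← TensorProduct.sum_tmul, he]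
  · simp only [inv, LinearMap.sum_apply, map_sum, LinearMap.comp_apply, TensorProduct.mk_apply, evalLifts_tmul,
      mkLift_apply]
    rw [← LinearMap.sum_apply, ← map_sum, hid, ← Module.End.one_eq_id, map_one, Module.End.one_apply]

/-- A faithfully flat module has trace ideal `⊤`. -/
theorem exists_trace_one (R : Type u) [CommRing R] (F : Type v) [AddCommGroup F] [Module R F] [Module.Finite R F]
    [Module.Projective R F] [Module.FaithfullyFlat R F] :
    ∃ τ : Module.End R F →ₗ[R] R, ∀ h : Module.End R F, (∀ f, h * f = f * h) → ∀ x, h x = τ h • x := by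
  obtain ⟨n, p, i, -, -, hpi⟩ := Module.Finite.exists_comp_eq_id_of_projective R F
  let I : Ideal R := LinearMap.range (contractLeft R F)
  obtain ⟨t, ht⟩ : (1 : R) ∈ I := by
    by_contra h
    obtain ⟨m, hm, hIm⟩ := Ideal.exists_le_maximal I fun hI => h (hI ▸ trivial)
    refine Module.FaithfullyFlat.submodule_ne_top (M := F) hm (Submodule.eq_top_iff'.mpr fun x => ?_)
    rw [show x = p (i x) from (DFunLike.congr_fun hpi x).symm, pi_eq_sum_univ' (i x), map_sum]
    refine Submodule.sum_mem _ fun j _ => ?_
    rw [map_smul]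
    exact Submodule.smul_mem_smul (hIm ⟨((LinearMap.proj j).comp i) ⊗ₜ x, by simp⟩) trivial
  obtain ⟨S, rfl⟩ := TensorProduct.exists_finset t
  rw [map_sum] at ht
  refine ⟨∑ k ∈ S, k.1 ∘ₗ LinearMap.applyₗ k.2, fun h hh x => ?_⟩
  have key : ∀ k : Module.Dual R F × F, k.1 k.2 • h x = k.1 (h k.2) • x := fun k => by
    simpa using LinearMap.congr_fun (hh (k.1.smulRight x)) k.2
  calc h x = (∑ k ∈ S, k.1 k.2) • h x := by
        rw [show (∑ k ∈ S, k.1 k.2) = 1 from ht, one_smul]
    _ = _ := by simp [Finset.sum_smul, key]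

variable [Module.Finite R F] [Module.Projective R F] [Module.FaithfullyFlat R F]

theorem exists_pairing [Module.Finite R G] [Module.Projective R G] :
    ∃ c : lifts φ ⊗[R] lifts φ.symm →ₗ[R] R, Function.Bijective c ∧
      ∀ (l : lifts φ) (l' : lifts φ.symm) (x : F), l'.1 (l.1 x) = c (l ⊗ₜ l') • x := by
  obtain ⟨τ, hτ⟩ := exists_trace_one R F
  let c : lifts φ ⊗[R] lifts φ.symm →ₗ[R] R :=
    TensorProduct.lift (((LinearMap.llcomp R F G F).flip.compl₁₂ (lifts φ).subtype (lifts φ.symm).subtype).compr₂ τ)
  have hc : ∀ (l : lifts φ) (l' : lifts φ.symm) (x : F), l'.1 (l.1 x) = c (l ⊗ₜ l') • x := fun l l' x => by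
    refine hτ (l'.1 ∘ₗ l.1) (fun f => LinearMap.ext fun y => ?_) x
    simp only [Module.End.mul_apply, LinearMap.comp_apply]
    rw [← lifts_apply φ l f y, ← lifts_apply φ.symm l' (φ f), AlgEquiv.symm_apply_apply]
  refine ⟨c, (Module.FaithfullyFlat.lTensor_bijective_iff_bijective R F (N := ↥(lifts φ) ⊗[R] ↥(lifts φ.symm))
    (N' := R) c).mp ?_, hc⟩
  let Z := (TensorProduct.assoc R F (lifts φ) (lifts φ.symm)).symm.trans
    (((TensorProduct.congr (LinearEquiv.ofBijective _ (evalLifts_bijective φ)) (LinearEquiv.refl R _)).trans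
      (LinearEquiv.ofBijective _ (evalLifts_bijective φ.symm))).trans (TensorProduct.rid R F).symm)
  have : c.lTensor F = Z.toLinearMap := by
    refine TensorProduct.ext_threefold' fun x l l' => ?_
    apply (TensorProduct.rid R F).injective
    simp [Z, hc l l' x]
  rw [this]
  exact Z.bijective

theorem lifts_invertible [Module.Finite R G] [Module.Projective R G] : Module.Invertible R (lifts φ) :=
  let ⟨c, hc, _⟩ := exists_pairing φ
  Module.Invertible.left (LinearEquiv.ofBijective c hc)

theorem exists_pairing_notMem [Module.Finite R G] [Module.Projective R G] (p : Ideal R) (hp : p ≠ ⊤) :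
    ∃ (l : lifts φ) (l' : lifts φ.symm) (f : R), f ∉ p ∧ ∀ x : F, l'.1 (l.1 x) = f • x := by
  obtain ⟨c, hc, hx⟩ := exists_pairing φ
  by_contra h
  push Not at h
  obtain ⟨t, ht⟩ := hc.2 1
  have : c t ∈ p := by
    clear ht
    induction t using TensorProduct.induction_on with
    | zero => simp
    | add a b ha hb => rw [map_add]; exact add_mem ha hb
    | tmul l l' =>
      by_contra hmem
      obtain ⟨x, hxne⟩ := h l l' _ hmem
      exact hxne (hx l l' x)
  exact hp ((Ideal.eq_top_iff_one p).mpr (ht ▸ this))

end Lifts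

section Auto

variable {A : Type v} [Ring A] [Algebra R A]

theorem faithfullyFlat_of_isAzumaya [IsAzumaya R A] : Module.FaithfullyFlat R A where
  submodule_ne_top m hm htop := by
    obtain ⟨ρ, hρ⟩ := exists_retraction (R := R) A
    refine hm.ne_top ((Ideal.eq_top_iff_one m).mpr (hρ ▸ ?_))
    refine Submodule.smul_induction_on (show (1 : A) ∈ m • (⊤ : Submodule R A) by rw [htop]; trivial)
      (fun r hr a _ => ?_) (fun x y hx hy => ?_)
    · rw [map_smul, smul_eq_mul]; exact m.mul_mem_right _ hr
    · rw [map_add]; exact m.add_mem hx hy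

/-- Left inverses are inverses in module-finite algebras. -/
theorem mul_eq_one_symm [Module.Finite R A] {a b : A} (h : b * a = 1) : a * b = 1 :=
  OrzechProperty.injective_of_surjective_endomorphism (LinearMap.mulLeft R b)
    (fun y => ⟨a * y, by simp [← mul_assoc, h]⟩) (by simp [← mul_assoc, h])

/-- Every automorphism of an Azumaya algebra is inner near every prime. -/
theorem exists_conj [IsAzumaya R A] (u : A ≃ₐ[R] A) (p : Ideal R) (hp : p ≠ ⊤) :
    ∃ (a a' : A) (f : R), f ∉ p ∧ a' * a = algebraMap R A f ∧ ∀ x, u x * a = a * x := by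
  haveI := faithfullyFlat_of_isAzumaya (R := R) (A := A)
  let μ := AlgEquiv.ofBijective (AlgHom.mulLeftRight R A) IsAzumaya.bij
  let Φ := μ.symm.trans ((Algebra.TensorProduct.congr u AlgEquiv.refl).trans μ)
  have hΦ : ∀ b c : A, Φ (AlgHom.mulLeftRight R A (b ⊗ₜ MulOpposite.op c)) =
      AlgHom.mulLeftRight R A (u b ⊗ₜ MulOpposite.op c) := fun b c => by
    change μ ((Algebra.TensorProduct.congr u AlgEquiv.refl) (μ.symm (μ _))) = _
    rw [AlgEquiv.symm_apply_apply]
    rfl
  obtain ⟨l, l', f, hf, hll⟩ := exists_pairing_notMem Φ p hp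
  have h1 : ∀ b c x, u b * l.1 x * c = l.1 (b * x * c) := fun b c x => by
    have := lifts_apply Φ l (AlgHom.mulLeftRight R A (b ⊗ₜ MulOpposite.op c)) x
    rw [hΦ] at this
    simpa using this
  have h2 : ∀ c, l'.1 c = l'.1 1 * c := fun c => by
    have := lifts_apply Φ.symm l' (Φ (AlgHom.mulLeftRight R A (1 ⊗ₜ MulOpposite.op c))) 1
    rw [AlgEquiv.symm_apply_apply, hΦ, map_one u] at this
    simpa using this.symm
  refine ⟨l.1 1, l'.1 1, f, hf, ?_, fun x => ?_⟩
  · rw [← h2, hll, Algebra.algebraMap_eq_smul_one]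
  · have e1 := h1 x 1 1
    have e2 := h1 1 x 1
    simp only [mul_one, one_mul, map_one] at e1 e2
    rw [e1, e2]

/-- Over a local ring every automorphism of an Azumaya algebra is inner. -/
theorem exists_inner [IsLocalRing R] [IsAzumaya R A] (u : A ≃ₐ[R] A) :
    ∃ a : Aˣ, ∀ x, u x = a * x * (a⁻¹ : Aˣ) := by
  obtain ⟨a, a', f, hf, ha, hu⟩ :=
    exists_conj u (IsLocalRing.maximalIdeal R) (IsLocalRing.maximalIdeal.isMaximal R).ne_top
  obtain ⟨v, rfl⟩ : IsUnit f := by simpa using hf
  have h1 : ((v⁻¹ : Rˣ) : R) • a' * a = 1 := by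
    rw [smul_mul_assoc, ha, Algebra.algebraMap_eq_smul_one, smul_smul, Units.inv_mul, one_smul]
  refine ⟨⟨a, ((v⁻¹ : Rˣ) : R) • a', mul_eq_one_symm (R := R) h1, h1⟩, fun x => ?_⟩
  change u x = a * x * (((v⁻¹ : Rˣ) : R) • a')
  rw [← hu x, mul_assoc, mul_eq_one_symm (R := R) h1, mul_one]

end Auto

section Charpoly

variable {n : Type v} [Fintype n] [DecidableEq n]

open Matrix Polynomial in
/-- The characteristic polynomial is invariant under algebra automorphisms of a matrix algebra. -/
theorem charpoly_algEquiv {S : Type u} [CommRing S] (α : Matrix n n S ≃ₐ[S] Matrix n n S) (N : Matrix n n S) :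
    (α N).charpoly = N.charpoly := by
  rcases isEmpty_or_nonempty n with h | h
  · rw [Subsingleton.elim (α N) N]
  haveI := IsAzumaya.matrix S n
  ext i
  rw [← sub_eq_zero]
  set d := (α N).charpoly.coeff i - N.charpoly.coeff i with hd
  by_contra hne
  obtain ⟨p, hp, hdp⟩ := Ideal.exists_le_maximal (LinearMap.ker (LinearMap.toSpanSingleton S S d))
    fun htop => hne (by simpa using (htop ▸ trivial : (1 : S) ∈ LinearMap.ker (LinearMap.toSpanSingleton S S d)))
  obtain ⟨a, a', f, hf, ha, hu⟩ := exists_conj α p hp.ne_top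
  have h1 : charmatrix (α N) * a.map C = a.map C * charmatrix N := by
    simp only [charmatrix, RingHom.mapMatrix_apply, sub_mul, mul_sub, Matrix.scalar_apply, ← Matrix.map_mul, hu N]
    congr 1
    refine Matrix.ext fun i j => ?_
    simp only [Matrix.diagonal_mul, Matrix.mul_diagonal]
    exact _root_.mul_comm _ _
  have h2 : (a.map C).det * (α N).charpoly = (a.map C).det * N.charpoly := by
    calc (a.map C).det * (α N).charpoly = (charmatrix (α N) * a.map C).det := by rw [det_mul, Matrix.charpoly]; ring
      _ = _ := by rw [h1, det_mul, Matrix.charpoly]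
  have h3 : (a'.map C).det * (a.map C).det = C (f ^ Fintype.card n) := by
    rw [← det_mul, ← Matrix.map_mul, ha, ← RingHom.mapMatrix_apply, ← RingHom.map_det, Matrix.algebraMap_eq_diagonal]
    simp [det_diagonal]
  have h4 : f ^ Fintype.card n * d = 0 := by
    have h5 := congrArg (fun q => ((a'.map C).det * q).coeff i) h2
    simp only [← mul_assoc, h3, coeff_C_mul] at h5
    rw [hd, mul_sub, h5, sub_self]
  exact hf (hp.isPrime.mem_of_pow_mem _ (hdp (by simpa using h4)))

end Charpoly

end Groth.L11.Az
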