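import Groth.Agent.L11.Az.Cover
import Groth.Agent.L11.Az.Morita
import Mathlib.RingTheory.TensorProduct.IncludeLeftSubRight
import Mathlib.LinearAlgebra.Matrix.Adjugate

/-!
`A^{⊗ n}` is a split Azumaya algebra when `A` has rank `n²`: the descended antisymmetriser.
-/

set_option autoImplicit false
universe u v w w'

open scoped TensorProduct

namespace Groth.L11.Az

variable {R : Type u} [CommRing R] {A : Type v} [Ring A] [Algebra R A] {n : ℕ}

section Theta

variable {T : Type w} [CommRing T] [Algebra R T] (φ : (T ⊗[R] A) ≃ₐ[T] Matrix (Fin n) (Fin n) T)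

/-- A splitting of `A` induces one of `A^{⊗ n}`. -/
noncomputable def thetaR : (⨂[R] _ : Fin n, A) →ₐ[R] Matrix (Fin n → Fin n) (Fin n → Fin n) T :=
  PiTensorProduct.liftAlgHom
    (((kron (T := T) (n := n)).restrictScalars R).compLinearMap fun _ =>
      (φ.toLinearMap.restrictScalars R).comp (TensorProduct.mk R T A 1))
    (by
      change kron (fun _ => φ ((1 : T) ⊗ₜ[R] (1 : A))) = 1
      rw [← Algebra.TensorProduct.one_def, map_one]
      exact kron_one)
    fun x y => by
      change kron (fun i => φ ((1 : T) ⊗ₜ[R] (x i * y i))) =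
        kron (fun i => φ ((1 : T) ⊗ₜ[R] x i)) * kron (fun i => φ ((1 : T) ⊗ₜ[R] y i))
      rw [← kron_mul]
      congr 1
      funext i
      rw [Pi.mul_apply, ← map_mul, Algebra.TensorProduct.tmul_mul_tmul, mul_one]

theorem thetaR_tprod (a : Fin n → A) :
    thetaR φ (PiTensorProduct.tprod R a) = kron fun i => φ ((1 : T) ⊗ₜ[R] a i) :=
  PiTensorProduct.lift.tprod a

/-- The same, base changed. -/
noncomputable def theta : T ⊗[R] (⨂[R] _ : Fin n, A) →ₐ[T] Matrix (Fin n → Fin n) (Fin n → Fin n) T :=
  Algebra.TensorProduct.lift (Algebra.ofId T _) (thetaR φ) fun c _ => Algebra.commutes c _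

theorem theta_tmul (c : T) (a : ⨂[R] _ : Fin n, A) : theta φ (c ⊗ₜ a) = c • thetaR φ a := by
  simp [theta, Algebra.smul_def]

theorem theta_bijective [IsAzumaya R A] : Function.Bijective (theta φ) := by
  classical
  haveI := isAzumaya_piTensor (R := R) A n
  haveI : IsAzumaya T (T ⊗[R] (⨂[R] _ : Fin n, A)) := isAzumaya_baseChange (R := R) T _
  refine ⟨injective_algHom (theta φ) fun a b h => ?_, fun X => ?_⟩
  · simpa [Matrix.algebraMap_matrix_apply] using congrFun (congrFun h id) id
  · suffices h : ∀ f g, Matrix.single f g (1 : T) ∈ (theta φ).toLinearMap.range by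
      change X ∈ (theta φ).toLinearMap.range
      rw [Matrix.matrix_eq_sum_single X]
      refine Submodule.sum_mem _ fun f _ => Submodule.sum_mem _ fun g _ => ?_
      rw [show Matrix.single f g (X f g) = X f g • Matrix.single f g (1 : T) by simp [Matrix.smul_single]]
      exact Submodule.smul_mem _ _ (h f g)
    intro f g
    choose S hS using fun i => TensorProduct.exists_finset (φ.symm (Matrix.single (f i) (g i) (1 : T)))
    have h1 : ∀ i, Matrix.single (f i) (g i) (1 : T) = ∑ j ∈ S i, j.1 • φ ((1 : T) ⊗ₜ[R] j.2) := fun i => by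
      rw [← φ.apply_symm_apply (Matrix.single (f i) (g i) (1 : T)), hS i, map_sum]
      refine Finset.sum_congr rfl fun j _ => ?_
      rw [← map_smul, TensorProduct.smul_tmul', smul_eq_mul, mul_one]
    rw [← kron_single, show (fun i => Matrix.single (f i) (g i) (1 : T)) =
      fun i => ∑ j ∈ S i, j.1 • φ ((1 : T) ⊗ₜ[R] j.2) from funext h1, MultilinearMap.map_sum_finset]
    refine Submodule.sum_mem _ fun r _ => ?_
    rw [MultilinearMap.map_smul_univ]
    refine Submodule.smul_mem _ _ ⟨(1 : T) ⊗ₜ PiTensorProduct.tprod R fun i => (r i).2, ?_⟩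
    rw [AlgHom.toLinearMap_apply, theta_tmul, one_smul, thetaR_tprod]

/-- The antisymmetriser does not depend on the splitting. -/
theorem theta_antisym_unique [IsAzumaya R A] (φ' : (T ⊗[R] A) ≃ₐ[T] Matrix (Fin n) (Fin n) T)
    (z : T ⊗[R] (⨂[R] _ : Fin n, A)) (hz : theta φ z = antisym) : theta φ' z = antisym := by
  classical
  rcases isEmpty_or_nonempty (Fin n) with h | h
  · have : φ = φ' := AlgEquiv.ext fun a => Subsingleton.elim _ _
    exact this ▸ hz
  haveI : IsAzumaya T (Matrix (Fin n) (Fin n) T) := IsAzumaya.matrix T (Fin n)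
  let I : Ideal T :=
    { carrier := {c | c • (theta φ' z - antisym) = (0 : Matrix (Fin n → Fin n) (Fin n → Fin n) T)}
      add_mem' := fun {a b} ha hb => by
        simp only [Set.mem_setOf_eq, add_smul] at ha hb ⊢
        rw [ha, hb, add_zero]
      zero_mem' := zero_smul T _
      smul_mem' := fun c x hx => by
        simp only [Set.mem_setOf_eq, smul_eq_mul, mul_smul] at hx ⊢
        rw [hx, smul_zero] }
  suffices hI : I = ⊤ by
    have h1 : (1 : T) ∈ I := hI ▸ trivial
    exact sub_eq_zero.mp ((one_smul T _).symm.trans h1)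
  by_contra hne
  obtain ⟨p, hp, hle⟩ := Ideal.exists_le_maximal I hne
  obtain ⟨a, a', f, hf, ha, hu⟩ := exists_conj (φ.symm.trans φ') p hp.ne_top
  have hint : ∀ w, theta φ' w * (kron fun _ => a) = (kron fun _ => a) * theta φ w := fun w => by
    induction w using TensorProduct.induction_on with
    | zero => simp
    | add w w' hw hw' => rw [map_add, map_add, add_mul, mul_add, hw, hw']
    | tmul c b =>
      rw [theta_tmul, theta_tmul, smul_mul_assoc, mul_smul_comm]
      congr 1
      induction b using PiTensorProduct.induction_on with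
      | smul_tprod r x =>
        rw [map_smul, map_smul, smul_mul_assoc, mul_smul_comm, thetaR_tprod, thetaR_tprod, ← kron_mul, ← kron_mul]
        congr 2
        funext i
        have := hu (φ ((1 : T) ⊗ₜ[R] x i))
        simpa using this
      | add b b' hb hb' => rw [map_add, map_add, add_mul, mul_add, hb, hb']
  have h1 : theta φ' z * (kron fun _ => a) = a.det • antisym := by
    rw [hint z, hz, kron_const_mul_antisym]
  have h2 : (kron fun _ => a) * (kron fun _ => a.adjugate) = (a.det ^ n) • (1 : Matrix (Fin n → Fin n) (Fin n → Fin n) T) := by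
    have e1 : (fun _ : Fin n => a * a.adjugate) = fun i : Fin n => a.det • (1 : Fin n → Matrix (Fin n) (Fin n) T) i :=
      funext fun i => by rw [Matrix.mul_adjugate]; rfl
    rw [← kron_mul]
    change kron (fun _ : Fin n => a * a.adjugate) = _
    rw [e1, MultilinearMap.map_smul_univ, kron_one]
    simp
  have h3 : (a.det ^ n) • theta φ' z = (a.det ^ n) • antisym := by
    have := congrArg (· * (kron fun _ => a.adjugate)) h1
    simp only [mul_assoc, h2, mul_smul_comm, mul_one, smul_mul_assoc, antisym_mul_kron_const, smul_smul] at this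
    rw [this]
    congr 1
    rw [← Matrix.det_mul, Matrix.mul_adjugate, Matrix.det_smul, Matrix.det_one, mul_one, Fintype.card_fin]
  have h4 : a.det ^ n ∈ I := by
    change (a.det ^ n) • (theta φ' z - antisym) = (0 : Matrix (Fin n → Fin n) (Fin n → Fin n) T)
    rw [smul_sub, h3, sub_self]
  refine hf (hp.isPrime.mem_of_pow_mem n ?_)
  have h5 : f ^ n = a'.det * a.det := by
    rw [← Matrix.det_mul, ha, Algebra.algebraMap_eq_smul_one, Matrix.det_smul, Matrix.det_one, mul_one, Fintype.card_fin]
  rw [h5]
  exact p.mul_mem_left _ (hp.isPrime.mem_of_pow_mem n (hle h4))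

theorem theta_natural {T' : Type w'} [CommRing T'] [Algebra R T'] (f : T →ₐ[R] T')
    (φ' : (T' ⊗[R] A) ≃ₐ[T'] Matrix (Fin n) (Fin n) T')
    (h : ∀ a, φ' ((1 : T') ⊗ₜ[R] a) = (φ ((1 : T) ⊗ₜ[R] a)).map f) (z : T ⊗[R] (⨂[R] _ : Fin n, A)) :
    theta φ' (TensorProduct.map f.toLinearMap LinearMap.id z) = (theta φ z).map f := by
  have hmap : ∀ X : Matrix (Fin n → Fin n) (Fin n → Fin n) T, X.map f = (f.toRingHom.mapMatrix X) := fun X => rfl
  induction z using TensorProduct.induction_on with
  | zero => simp
  | add a b ha hb => rw [map_add, map_add, map_add, ha, hb, hmap, hmap, hmap, map_add]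
  | tmul c b =>
    rw [TensorProduct.map_tmul, LinearMap.id_apply, theta_tmul, theta_tmul]
    induction b using PiTensorProduct.induction_on with
    | smul_tprod r x =>
      rw [map_smul, map_smul, thetaR_tprod, thetaR_tprod]
      ext i j
      simp only [Matrix.map_apply, Matrix.smul_apply, smul_eq_mul, kron_apply, h, LinearMap.id_apply, AlgHom.toLinearMap_apply]
      simp [Algebra.smul_def, map_prod, AlgHom.commutes]
    | add b b' hb hb' => rw [map_add, map_add, smul_add, smul_add, hb, hb', hmap, hmap, hmap, map_add]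

theorem exists_baseChange_split {T' : Type w'} [CommRing T'] [Algebra R T'] (f : T →ₐ[R] T') :
    ∃ φ' : (T' ⊗[R] A) ≃ₐ[T'] Matrix (Fin n) (Fin n) T',
      ∀ a, φ' ((1 : T') ⊗ₜ[R] a) = (φ ((1 : T) ⊗ₜ[R] a)).map f := by
  letI := f.toRingHom.toAlgebra
  haveI : IsScalarTower R T T' := IsScalarTower.of_algebraMap_eq fun r => (f.commutes r).symm
  refine ⟨((Groth.L21.CSA.cancelEquiv R A T T').trans
    (Algebra.TensorProduct.congr AlgEquiv.refl φ)).trans (Groth.L21.CSA.matrixBaseChange T T' (Fin n)), fun a => ?_⟩
  simp [Groth.L21.CSA.cancelEquiv, Groth.L21.CSA.matrixBaseChange]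
  rfl

end Theta

theorem bijective_of_baseChange {S : Type w'} [CommRing S] [Algebra R S] [Module.FaithfullyFlat R S]
    {M : Type w} [Ring M] [Algebra R M] {N : Type v} [AddCommGroup N] [Module R N] (f : M →ₐ[R] Module.End R N)
    (h : Function.Bijective (f.toLinearMap.baseChange S)) : Function.Bijective f := by
  have h' : Function.Bijective (f.toLinearMap.lTensor S) := h
  exact (Module.FaithfullyFlat.lTensor_bijective_iff_bijective R S f.toLinearMap).mp h'

open Algebra in
theorem exists_descended {M : Type w} [AddCommGroup M] [Module R M] [Module.Flat R M] {S : Type w'} [CommRing S]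
    [Algebra R S] [Module.FaithfullyFlat R S] (z : S ⊗[R] M)
    (h : TensorProduct.map (Algebra.TensorProduct.includeLeft : S →ₐ[R] S ⊗[R] S).toLinearMap LinearMap.id z =
      TensorProduct.map (Algebra.TensorProduct.includeRight : S →ₐ[R] S ⊗[R] S).toLinearMap LinearMap.id z) :
    ∃ m : M, (1 : S) ⊗ₜ[R] m = z := by
  have hex := Module.Flat.rTensor_exact M (Algebra.IsEffective.of_faithfullyFlat R S)
  have hz : (Algebra.TensorProduct.includeLeftSubRight R S).rTensor M z = 0 := by
    rw [show (Algebra.TensorProduct.includeLeftSubRight R S) =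
        (Algebra.TensorProduct.includeLeft : S →ₐ[R] S ⊗[R] S).toLinearMap -
          (Algebra.TensorProduct.includeRight : S →ₐ[R] S ⊗[R] S).toLinearMap from
      LinearMap.ext fun s => by simp, LinearMap.rTensor_sub, LinearMap.sub_apply]
    exact sub_eq_zero.mpr h
  obtain ⟨w, hw⟩ := (hex z).mp hz
  refine ⟨TensorProduct.lid R M w, ?_⟩
  rw [← hw]
  clear hw
  induction w using TensorProduct.induction_on with
  | zero => simp
  | add a b ha hb => simp [TensorProduct.tmul_add, ha, hb]
  | tmul r m => simp [Algebra.algebraMap_eq_smul_one, TensorProduct.smul_tmul]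

/-- Descent of a rank one element: `B` is the endomorphism algebra of `B s`. -/
theorem end_equiv_of_rankOne {B : Type v} [Ring B] [Algebra R B] [Module.Finite R B] [Module.Projective R B]
    (S : Type w) [CommRing S] [Algebra R S] [Module.FaithfullyFlat R S] {I : Type w'} [Fintype I] [DecidableEq I]
    (θ : (S ⊗[R] B) ≃ₐ[S] Matrix I I S) (v : I → S) (i₀ : I) (hv : v i₀ = 1) (s : B)
    (hθs : θ ((1 : S) ⊗ₜ[R] s) = Matrix.vecMulVec v v) :
    ∃ (E : Submodule R B), Module.Finite R E ∧ Module.Projective R E ∧
      (∀ p : PrimeSpectrum R, Module.rankAtStalk (R := R) E p = Fintype.card I) ∧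
      Nonempty (B ≃ₐ[R] Module.End R E) := by
  let m : B →ₗ[R] B := LinearMap.mulRight R s
  let E := LinearMap.range m
  let V : (I → S) →ₗ[S] Matrix I I S :=
    { toFun := fun w => Matrix.vecMulVec w v
      map_add' := fun w w' => Matrix.add_vecMulVec w w' v
      map_smul' := fun c w => Matrix.smul_vecMulVec c w v }
  let col : Matrix I I S →ₗ[S] (I → S) :=
    { toFun := fun X f => X f i₀
      map_add' := fun X Y => rfl
      map_smul' := fun c X => rfl }
  have hcolV : ∀ w, col (V w) = w := fun w => funext fun f => by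
    change Matrix.vecMulVec w v f i₀ = w f
    rw [Matrix.vecMulVec_apply, hv, mul_one]
  have hmS : ∀ y, θ (m.baseChange S y) = V ((θ y).mulVec v) := fun y => by
    have h0 : θ (m.baseChange S y) = θ y * Matrix.vecMulVec v v := by
      induction y using TensorProduct.induction_on with
      | zero => simp
      | add a b ha hb => rw [map_add, map_add, map_add, ha, hb, add_mul]
      | tmul c b =>
        rw [LinearMap.baseChange_tmul, ← hθs, ← map_mul]
        congr 1
        simp [m, Algebra.TensorProduct.tmul_mul_tmul]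
    rw [h0]
    exact Matrix.mul_vecMulVec _ _ _
  have hsec : ∀ w : I → S, (Matrix.vecMulVec w (Pi.single i₀ 1)).mulVec v = w := fun w => by
    rw [Matrix.vecMulVec_mulVec]
    simp [single_dotProduct, hv]
  have hQ : Module.Projective R (B ⧸ E) := by
    let P : Matrix I I S →ₗ[S] Matrix I I S := LinearMap.id - V.comp col
    let q : (S ⊗[R] B) →ₗ[S] (S ⊗[R] (B ⧸ E)) := E.mkQ.baseChange S
    have hq : Function.Surjective q := LinearMap.lTensor_surjective S E.mkQ_surjective
    let j : (S ⊗[R] B) →ₗ[S] Matrix I I S := P.comp θ.toLinearMap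
    have hker : LinearMap.ker q = LinearMap.ker j := by
      ext y
      constructor
      · intro hy
        obtain ⟨y', rfl⟩ := ((lTensor_exact S (LinearMap.exact_map_mkQ_range m) (Submodule.mkQ_surjective _)) y).mp hy
        change θ (m.baseChange S y') - V (col (θ (m.baseChange S y'))) = 0
        rw [hmS, hcolV, sub_self]
      · intro hy
        have h1 : θ y = V (col (θ y)) := sub_eq_zero.mp hy
        refine ((lTensor_exact S (LinearMap.exact_map_mkQ_range m) (Submodule.mkQ_surjective _)) y).mpr ?_
        refine ⟨θ.symm (Matrix.vecMulVec (col (θ y)) (Pi.single i₀ 1)), θ.injective ?_⟩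
        change θ (m.baseChange S _) = _
        rw [hmS, AlgEquiv.apply_symm_apply, hsec]
        exact h1.symm
    haveI : Module.Projective S (S ⊗[R] (B ⧸ E)) := by
      have e1 : (S ⊗[R] (B ⧸ E)) ≃ₗ[S] LinearMap.range j :=
        (LinearMap.quotKerEquivOfSurjective q hq).symm.trans ((Submodule.quotEquivOfEq _ _ hker).trans j.quotKerEquivRange)
      haveI : Module.Projective S (LinearMap.range j) := by
        refine Module.Projective.of_split (LinearMap.range j).subtype
          (P.codRestrict _ fun X => ⟨θ.symm X, by simp [j]⟩) (LinearMap.ext fun x => Subtype.ext ?_)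
        obtain ⟨y, hy⟩ := x.2
        change P x.1 = x.1
        rw [← hy]
        change P (P (θ y)) = P (θ y)
        simp [P, hcolV]
      exact Module.Projective.of_equiv e1.symm
    haveI : Module.FinitePresentation S (S ⊗[R] (B ⧸ E)) := Module.finitePresentation_of_projective _ _
    haveI := finitePresentation_descent (R := R) S (B ⧸ E)
    haveI : Module.Flat R (B ⧸ E) := Module.Flat.of_flat_tensorProduct R (B ⧸ E) S
    exact Module.Flat.projective_of_finitePresentation
  obtain ⟨σ, hσ⟩ := Module.projective_lifting_property E.mkQ LinearMap.id E.mkQ_surjective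
  let π : B →ₗ[R] E := (LinearMap.id - σ ∘ₗ E.mkQ).codRestrict E fun b => by
    rw [← Submodule.Quotient.mk_eq_zero, ← Submodule.mkQ_apply]
    simp [show ∀ q, Submodule.Quotient.mk (σ q) = q from fun q => LinearMap.congr_fun hσ q]
  have hπ : π ∘ₗ E.subtype = LinearMap.id := LinearMap.ext fun x => Subtype.ext (by
    simp [π, (Submodule.Quotient.mk_eq_zero E).mpr x.2])
  haveI : Module.Finite R E := Module.Finite.of_surjective π fun x => ⟨x.1, LinearMap.congr_fun hπ x⟩
  haveI : Module.Projective R E := Module.Projective.of_split E.subtype π hπ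
  let ι : (S ⊗[R] E) →ₗ[S] Matrix I I S := θ.toLinearMap.comp (E.subtype.baseChange S)
  have hι : Function.Injective ι := θ.injective.comp (fun x y hxy => by
    have := congrArg (π.baseChange S) hxy
    rwa [← LinearMap.comp_apply, ← LinearMap.comp_apply, ← LinearMap.baseChange_comp, hπ, LinearMap.baseChange_id,
      LinearMap.id_apply, LinearMap.id_apply] at this)
  have hιm : ∀ y, ι (m.rangeRestrict.baseChange S y) = V ((θ y).mulVec v) := fun y => by
    rw [← hmS]
    simp only [ι, LinearMap.comp_apply]
    rw [← LinearMap.comp_apply (E.subtype.baseChange S), ← LinearMap.baseChange_comp]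
    rfl
  have hιrange : ∀ y, ι y = V (col (ι y)) := fun y => by
    obtain ⟨y', rfl⟩ := LinearMap.lTensor_surjective S (g := m.rangeRestrict) m.surjective_rangeRestrict y
    change ι (m.rangeRestrict.baseChange S y') = V (col (ι (m.rangeRestrict.baseChange S y')))
    rw [hιm, hcolV]
  let eE : (S ⊗[R] E) ≃ₗ[S] (I → S) := LinearEquiv.ofBijective (col.comp ι)
    ⟨fun x y h => hι (by rw [hιrange x, hιrange y]; exact congrArg V h), fun w => by
      obtain ⟨y, hy⟩ := θ.surjective (Matrix.vecMulVec w (Pi.single i₀ 1))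
      exact ⟨m.rangeRestrict.baseChange S y, by rw [LinearMap.comp_apply, hιm, hcolV, hy, hsec]⟩⟩
  refine ⟨E, inferInstance, inferInstance, fun p => ?_, ?_⟩
  · obtain ⟨q, rfl⟩ := PrimeSpectrum.comap_surjective_of_faithfullyFlat (A := R) (B := S) p
    haveI : Nontrivial S := ⟨⟨0, 1, fun h => q.isPrime.ne_top ((Ideal.eq_top_iff_one _).mpr (h ▸ q.asIdeal.zero_mem))⟩⟩
    rw [← Module.rankAtStalk_baseChange, Module.rankAtStalk_eq_of_equiv eE, Module.rankAtStalk_eq_finrank_of_free,
      Pi.natCast_apply, Module.finrank_pi, Nat.cast_id]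
  have hmem : ∀ (b : B) (x : E), b * x.1 ∈ E := fun b x => by
    obtain ⟨c, hc⟩ := x.2
    exact ⟨b * c, by rw [← hc]; simp [m, mul_assoc]⟩
  let lam : B →ₐ[R] Module.End R E :=
    { toFun := fun b =>
        { toFun := fun x => ⟨b * x.1, hmem b x⟩
          map_add' := fun x y => Subtype.ext (mul_add b x.1 y.1)
          map_smul' := fun r x => Subtype.ext (mul_smul_comm r b x.1) }
      map_one' := LinearMap.ext fun x => Subtype.ext (one_mul x.1)
      map_mul' := fun b c => LinearMap.ext fun x => Subtype.ext (mul_assoc b c x.1)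
      map_zero' := LinearMap.ext fun x => Subtype.ext (zero_mul x.1)
      map_add' := fun b c => LinearMap.ext fun x => Subtype.ext (add_mul b c x.1)
      commutes' := fun r => LinearMap.ext fun x => Subtype.ext (Algebra.smul_def r x.1).symm }
  have hbc : Function.Bijective (lam.toLinearMap.baseChange S) := by
    let L := (endBC (R := R) S E).comp (lam.toLinearMap.baseChange S)
    have hL : ∀ y x, ι (L y x) = θ y * ι x := fun y x => by
      induction y using TensorProduct.induction_on with
      | zero => simp
      | add a b ha hb => simp [ha, hb, add_mul]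
      | tmul c b =>
        induction x using TensorProduct.induction_on with
        | zero => simp
        | add x x' hx hx' => rw [map_add, map_add, map_add, hx, hx', mul_add]
        | tmul d x =>
          simp only [L, LinearMap.comp_apply, LinearMap.baseChange_tmul, endBC_tmul, LinearMap.smul_apply, ι]
          rw [map_smul]
          change θ (c • (d ⊗ₜ[R] (b * x.1))) = θ (c ⊗ₜ[R] b) * θ (d ⊗ₜ[R] x.1)
          rw [← map_mul, Algebra.TensorProduct.tmul_mul_tmul, TensorProduct.smul_tmul', smul_eq_mul]
    have hvec : ∀ y x, eE (L y x) = (θ y).mulVec (eE x) := fun y x => by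
      change col (ι (L y x)) = (θ y).mulVec (col (ι x))
      rw [hL]
      rfl
    have hLbij : Function.Bijective L := by
      have h1 : (fun y => (eE.conj (L y))) = fun y => Matrix.toLin' (θ y) := funext fun y => LinearMap.ext fun w => by
        rw [LinearEquiv.conj_apply_apply, hvec, LinearEquiv.apply_symm_apply, Matrix.toLin'_apply]
      have h2 : Function.Bijective fun y => (eE.conj (L y)) := h1 ▸ Matrix.toLin'.bijective.comp θ.bijective
      exact (Function.Bijective.of_comp_iff' eE.conj.bijective L).mp h2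
    exact (Function.Bijective.of_comp_iff' (endBC_bijective (R := R) S E) _).mp hLbij
  have hb : Function.Bijective lam := bijective_of_baseChange lam hbc
  exact ⟨AlgEquiv.ofBijective lam hb⟩

/-- `A^{⊗ n}` is split for an Azumaya algebra of rank `n²`. -/
theorem exists_end_equiv [IsAzumaya R A]
    (hrk : ∀ p : PrimeSpectrum R, Module.rankAtStalk (R := R) A p = n ^ 2) :
    ∃ (E : Submodule R (⨂[R] _ : Fin n, A)), Module.Finite R E ∧ Module.Projective R E ∧
      (∀ p : PrimeSpectrum R, Module.rankAtStalk (R := R) E p = n ^ n) ∧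
      Nonempty ((⨂[R] _ : Fin n, A) ≃ₐ[R] Module.End R E) := by
  classical
  obtain ⟨S, _, _, _, ⟨φ⟩⟩ := exists_ff_splitting A n hrk
  haveI : IsAzumaya R (⨂[R] _ : Fin n, A) := isAzumaya_piTensor A n
  obtain ⟨z, hz⟩ := (theta_bijective φ).2 antisym
  obtain ⟨s, hs⟩ : ∃ s : (⨂[R] _ : Fin n, A), (1 : S) ⊗ₜ[R] s = z := by
    refine exists_descended z ?_
    obtain ⟨φ₁, h₁⟩ := exists_baseChange_split φ (Algebra.TensorProduct.includeLeft : S →ₐ[R] S ⊗[R] S)
    obtain ⟨φ₂, h₂⟩ := exists_baseChange_split φ (Algebra.TensorProduct.includeRight : S →ₐ[R] S ⊗[R] S)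
    refine (theta_bijective φ₁).1 ?_
    rw [theta_natural φ _ φ₁ h₁, hz]
    refine ((map_antisym _).trans (theta_antisym_unique φ₂ φ₁ _ ?_).symm)
    rw [theta_natural φ _ φ₂ h₂, hz]
    exact map_antisym _
  obtain ⟨E, h1, h2, h3, h4⟩ := end_equiv_of_rankOne S (AlgEquiv.ofBijective (theta φ) (theta_bijective φ))
    signVec id signVec_id s (by rw [hs]; exact hz)
  exact ⟨E, h1, h2, fun p => by rw [h3 p, Fintype.card_fun, Fintype.card_fin], h4⟩

end Groth.L11.Az
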