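import Groth.Agent.L11.Az.NFForm
import Mathlib.RingTheory.MatrixAlgebra

/-!
Comparison of algebras with involution through their signs.
-/

set_option autoImplicit false
universe u v w w'

open scoped TensorProduct Matrix
open Groth.L09.RInvBranch (lamT)

noncomputable section

namespace Groth.L11.Az

variable {S : Type u} [CommRing S] {R : Type v} [CommRing R] [Algebra S R] {lam : R ≃ₐ[S] R}
  {A : Type w} [Ring A] [Algebra S A] [Algebra R A] [IsScalarTower S R A] {t : AzInv.LamInv R A lam}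
  {A' : Type w'} [Ring A'] [Algebra S A'] [Algebra R A'] [IsScalarTower S R A'] {t' : AzInv.LamInv R A' lam}

/-- The base change of an isomorphism. -/
theorem exists_bc_iso {T T' : Type*} [CommRing T] [Algebra S T] [CommRing T'] [Algebra S T'] (φ : T →ₐ[S] T')
    (f : T ⊗[S] A ≃ₐ[T] T ⊗[S] A')
    (hf : ∀ (r : R) (x : T ⊗[S] A),
      f (((1 : T) ⊗ₜ[S] algebraMap R A r) * x) = ((1 : T) ⊗ₜ[S] algebraMap R A' r) * f x)
    (hft : ∀ x : T ⊗[S] A, f (t.bc S lam T x) = t'.bc S lam T (f x)) :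
    ∃ g : T' ⊗[S] A ≃ₐ[T'] T' ⊗[S] A',
      (∀ (r : R) (x : T' ⊗[S] A),
        g (((1 : T') ⊗ₜ[S] algebraMap R A r) * x) = ((1 : T') ⊗ₜ[S] algebraMap R A' r) * g x) ∧
      ∀ x : T' ⊗[S] A, g (t.bc S lam T' x) = t'.bc S lam T' (g x) := by
  let mA : T ⊗[S] A →ₐ[S] T' ⊗[S] A := Algebra.TensorProduct.map φ (AlgHom.id S A)
  let mA' : T ⊗[S] A' →ₐ[S] T' ⊗[S] A' := Algebra.TensorProduct.map φ (AlgHom.id S A')
  let F : T' ⊗[S] A →ₐ[T'] T' ⊗[S] A' := Algebra.TensorProduct.lift (Algebra.ofId T' _)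
    (mA'.comp ((f.toAlgHom.restrictScalars S).comp Algebra.TensorProduct.includeRight)) fun c _ => Algebra.commutes c _
  let G : T' ⊗[S] A' →ₐ[T'] T' ⊗[S] A := Algebra.TensorProduct.lift (Algebra.ofId T' _)
    (mA.comp ((f.symm.toAlgHom.restrictScalars S).comp Algebra.TensorProduct.includeRight)) fun c _ => Algebra.commutes c _
  have hF : ∀ x, F (mA x) = mA' (f x) := fun x => by
    induction x using TensorProduct.induction_on with
    | zero => simp
    | add y z hy hz => simp only [map_add, hy, hz]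
    | tmul c a =>
      rw [show c ⊗ₜ[S] a = (c ⊗ₜ[S] (1 : A)) * ((1 : T) ⊗ₜ[S] a) by simp, map_mul mA, map_mul F, map_mul f,
        map_mul mA']
      congr 1
      · rw [show f (c ⊗ₜ[S] (1 : A)) = c ⊗ₜ[S] (1 : A') from f.commutes c]
        simp [F, mA, mA', ← Algebra.TensorProduct.one_def]
      · simp [F, mA, ← Algebra.TensorProduct.one_def]
  have hG : ∀ x, G (mA' x) = mA (f.symm x) := fun x => by
    induction x using TensorProduct.induction_on with
    | zero => simp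
    | add y z hy hz => simp only [map_add, hy, hz]
    | tmul c a =>
      rw [show c ⊗ₜ[S] a = (c ⊗ₜ[S] (1 : A')) * ((1 : T) ⊗ₜ[S] a) by simp, map_mul mA', map_mul G, map_mul f.symm,
        map_mul mA]
      congr 1
      · rw [show f.symm (c ⊗ₜ[S] (1 : A')) = c ⊗ₜ[S] (1 : A) from f.symm.commutes c]
        simp [G, mA, mA', ← Algebra.TensorProduct.one_def]
      · simp [G, mA', ← Algebra.TensorProduct.one_def]
  have hdec : ∀ (c : T') (a : A), c ⊗ₜ[S] a = algebraMap T' _ c * mA ((1 : T) ⊗ₜ[S] a) := fun c a => by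
    simp [mA, Algebra.TensorProduct.algebraMap_apply]
  have hdec' : ∀ (c : T') (a : A'), c ⊗ₜ[S] a = algebraMap T' _ c * mA' ((1 : T) ⊗ₜ[S] a) := fun c a => by
    simp [mA', Algebra.TensorProduct.algebraMap_apply]
  have hGF : ∀ x, G (F x) = x := fun x => by
    induction x using TensorProduct.induction_on with
    | zero => simp
    | add y z hy hz => simp only [map_add, hy, hz]
    | tmul c a => rw [hdec, map_mul, map_mul, AlgHom.commutes, AlgHom.commutes, hF, hG, AlgEquiv.symm_apply_apply]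
  have hFG : ∀ x, F (G x) = x := fun x => by
    induction x using TensorProduct.induction_on with
    | zero => simp
    | add y z hy hz => simp only [map_add, hy, hz]
    | tmul c a => rw [hdec', map_mul, map_mul, AlgHom.commutes, AlgHom.commutes, hG, hF, AlgEquiv.apply_symm_apply]
  refine ⟨AlgEquiv.ofBijective F ⟨fun x y h => by rw [← hGF x, ← hGF y, h], fun y => ⟨G y, hFG y⟩⟩,
    fun r x => ?_, fun x => ?_⟩
  · show F _ = _ * F x
    rw [map_mul, show (1 : T') ⊗ₜ[S] algebraMap R A r = mA (((1 : T) ⊗ₜ[S] algebraMap R A r) * 1) by simp [mA], hF,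
      hf, map_one, mul_one]
    congr 1
    simp [mA']
  · show F _ = t'.bc S lam T' (F x)
    induction x using TensorProduct.induction_on with
    | zero => simp
    | add y z hy hz => simp only [map_add, hy, hz]
    | tmul c a =>
      have e1 : ∀ z, t'.bc S lam T' (mA' z) = mA' (t'.bc S lam T z) := fun z => by
        induction z using TensorProduct.induction_on with
        | zero => simp
        | add y z hy hz => simp only [map_add, hy, hz]
        | tmul d b => simp [mA', AzInv.LamInv.bc_tmul]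
      rw [AzInv.LamInv.bc_tmul, hdec, hdec c a, ← Algebra.smul_def, ← Algebra.smul_def, map_smul, map_smul, hF, hF,
        map_smul, e1, ← hft, AzInv.LamInv.bc_tmul]

/-- A presentation of matrices with the transpose. -/
theorem exists_pres_transpose (hlam : ∀ r, lam (lam r) = r) (T : Type*) [CommRing T] [Algebra S T] (ι : Type)
    [Fintype ι] [DecidableEq ι] :
    ∃ P : Pres T (AzInv.LamInv.transpose lam ι hlam) ι (1 : Matrix ι ι (T ⊗[S] R)),
      ∀ M : Matrix ι ι R, P.equiv ((1 : T) ⊗ₜ[S] M) = M.map fun r => (1 : T) ⊗ₜ[S] r := by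
  classical
  let θ : Matrix ι ι R →ₐ[S] Matrix ι ι (T ⊗[S] R) :=
    (Algebra.TensorProduct.includeRight : R →ₐ[S] T ⊗[S] R).mapMatrix
  let Φ : T ⊗[S] Matrix ι ι R →ₐ[T] Matrix ι ι (T ⊗[S] R) :=
    Algebra.TensorProduct.lift (Algebra.ofId T _) θ fun c a => Algebra.commutes c _
  have hΦ : ∀ (c : T) (M : Matrix ι ι R), Φ (c ⊗ₜ[S] M) = M.map fun r => c ⊗ₜ[S] r := fun c M => by
    rw [show Φ (c ⊗ₜ[S] M) = c • θ M by simp [Φ, Algebra.smul_def]]
    ext i j
    simp [θ, TensorProduct.smul_tmul']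
  let G : Matrix ι ι (T ⊗[S] R) → T ⊗[S] Matrix ι ι R := fun Y =>
    ∑ i, ∑ j, LinearMap.lTensor T (Matrix.singleLinearMap S i j) (Y i j)
  have hGΦ : ∀ x, G (Φ x) = x := fun x => by
    induction x using TensorProduct.induction_on with
    | zero => simp [G]
    | add y z hy hz =>
      simp only [G, map_add, Matrix.add_apply, Finset.sum_add_distrib] at hy hz ⊢
      rw [hy, hz]
    | tmul c M =>
      simp only [G, hΦ, Matrix.map_apply, LinearMap.lTensor_tmul, ← TensorProduct.tmul_sum]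
      congr 1
      exact (Matrix.matrix_eq_sum_single M).symm
  have hΦG : ∀ Y, Φ (G Y) = Y := fun Y => by
    have e : ∀ i j (z : T ⊗[S] R),
        Φ (LinearMap.lTensor T (Matrix.singleLinearMap S i j) z) = Matrix.single i j z := fun i j z => by
      induction z using TensorProduct.induction_on with
      | zero => simp
      | add y z hy hz => rw [map_add, map_add, hy, hz, ← Matrix.single_add]
      | tmul c a =>
        rw [LinearMap.lTensor_tmul, hΦ]
        ext i' j'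
        by_cases h : i = i' ∧ j = j'
        · obtain ⟨rfl, rfl⟩ := h; simp
        · simp [Matrix.single_apply, h]
    simp only [G, map_sum, e]
    exact (Matrix.matrix_eq_sum_single Y).symm
  refine ⟨⟨AlgEquiv.ofBijective Φ ⟨fun x y h => by rw [← hGΦ x, ← hGΦ y, h], fun Y => ⟨G Y, hΦG Y⟩⟩,
    fun r x => ?_, fun x => ?_, isUnit_one⟩, fun M => hΦ 1 M⟩
  · show Φ _ = _ • Φ x
    rw [map_mul, hΦ, Matrix.smul_eq_diagonal_mul]
    congr 1
    ext i j
    rw [Matrix.map_apply, Matrix.algebraMap_matrix_apply, Matrix.diagonal_apply]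
    split_ifs <;> simp
  · show Φ _ * 1 = 1 * star' T lam (Φ x)
    rw [mul_one, one_mul]
    induction x using TensorProduct.induction_on with
    | zero => ext i j; simp
    | add y z hy hz => rw [map_add, map_add, map_add, hy, hz]; ext i j; simp
    | tmul c M =>
      rw [AzInv.LamInv.bc_tmul, hΦ, hΦ]
      ext i j
      simp [Groth.L09.RInvBranch.lamT_tmul]

/-- Twisting by a unit. -/
theorem Pres.exists_conj' {T : Type*} [CommRing T] [Algebra S T] {ι : Type*} [Fintype ι] [DecidableEq ι]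
    {W : Matrix ι ι (T ⊗[S] R)} (P : Pres T t ι W) (u : Aˣ) (e : R) (hu : t ↑u = e • (↑u : A)) (he : lam e * e = 1) :
    Nonempty (Pres T (t.conj u e hu he) ι (P.equiv ((1 : T) ⊗ₜ[S] (↑u : A)) * W)) := by
  have h1 : ((1 : T) ⊗ₜ[S] (↑u⁻¹ : A)) * ((1 : T) ⊗ₜ[S] (↑u : A)) = 1 := by simp [Algebra.TensorProduct.one_def]
  have h2 : ((1 : T) ⊗ₜ[S] (↑u : A)) * ((1 : T) ⊗ₜ[S] (↑u⁻¹ : A)) = 1 := by simp [Algebra.TensorProduct.one_def]
  have hu' : IsUnit (P.equiv ((1 : T) ⊗ₜ[S] (↑u : A))) := (show IsUnit _ from ⟨⟨_, _, h2, h1⟩, rfl⟩).map P.equiv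
  refine ⟨{ equiv := P.equiv, map_scalar := P.map_scalar, map_bc := fun x => ?_, isUnit := hu'.mul P.isUnit }⟩
  have e1 : (t.conj u e hu he).bc S lam T x =
      ((1 : T) ⊗ₜ[S] (↑u : A)) * t.bc S lam T x * ((1 : T) ⊗ₜ[S] (↑u⁻¹ : A)) := by
    induction x using TensorProduct.induction_on with
    | zero => simp
    | add y z hy hz => simp only [map_add, hy, hz, mul_add, add_mul]
    | tmul c a => simp [AzInv.LamInv.bc_tmul, AzInv.LamInv.conj_apply]
  rw [e1, map_mul P.equiv, map_mul P.equiv]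
  calc _ = P.equiv ((1 : T) ⊗ₜ[S] (↑u : A)) * P.equiv (t.bc S lam T x) *
        (P.equiv ((1 : T) ⊗ₜ[S] (↑u⁻¹ : A)) * P.equiv ((1 : T) ⊗ₜ[S] (↑u : A))) * W := by simp only [mul_assoc]
    _ = _ := by
      rw [← map_mul P.equiv ((1 : T) ⊗ₜ[S] (↑u⁻¹ : A)), h1, map_one, mul_one, mul_assoc, P.map_bc, mul_assoc]

section Points

variable {p : PrimeSpectrum S}

/-- Two algebras agree near a point. -/
def IsoAt (t : AzInv.LamInv R A lam) (t' : AzInv.LamInv R A' lam) (p : PrimeSpectrum S) : Prop :=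
  ∃ (T : Type u) (_ : CommRing T) (_ : Algebra S T) (_ : Algebra.Etale S T),
    p ∈ Set.range (PrimeSpectrum.comap (algebraMap S T)) ∧
    ∃ f : T ⊗[S] A ≃ₐ[T] T ⊗[S] A',
      (∀ (r : R) (x : T ⊗[S] A),
        f (((1 : T) ⊗ₜ[S] algebraMap R A r) * x) = ((1 : T) ⊗ₜ[S] algebraMap R A' r) * f x) ∧
      ∀ x : T ⊗[S] A, f (t.bc S lam T x) = t'.bc S lam T (f x)

theorem map_one_mapR {T T' : Type*} [CommRing T] [Algebra S T] [CommRing T'] [Algebra S T'] (φ : T →ₐ[S] T')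
    (ι : Type*) [DecidableEq ι] : (1 : Matrix ι ι (T ⊗[S] R)).map (mapR φ) = 1 :=
  Matrix.map_one _ (map_zero _) (map_one _)

theorem map_stdAlt_mapR {T T' : Type*} [CommRing T] [Algebra S T] [CommRing T'] [Algebra S T'] (φ : T →ₐ[S] T')
    (m : ℕ) : (stdAlt (T ⊗[S] R) m).map (mapR φ) = stdAlt (T' ⊗[S] R) m :=
  map_stdAlt (mapR φ).toRingHom m

theorem IsoAt.of_sym {n : ℕ} (h : HasSym t n p) (h' : HasSym t' n p) : IsoAt t t' p := by
  obtain ⟨N₁, ⟨P⟩⟩ := h
  obtain ⟨N₂, ⟨Q⟩⟩ := h'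
  obtain ⟨N, ⟨φ₁⟩, ⟨φ₂⟩⟩ := Nbhd.exists_common N₁ N₂
  obtain ⟨P', -⟩ := P.exists_baseChange φ₁
  obtain ⟨Q', -⟩ := Q.exists_baseChange φ₂
  obtain ⟨f, hf, hft⟩ := (P'.ofEq (map_one_mapR φ₁ _)).exists_iso (Q'.ofEq (map_one_mapR φ₂ _))
  exact ⟨N.T, inferInstance, inferInstance, inferInstance, N.mem_range, f, hf, hft⟩

theorem IsoAt.of_alt {n : ℕ} (h : HasAlt t n p) (h' : HasAlt t' n p) : IsoAt t t' p := by
  obtain ⟨N₁, m, hm, ⟨P⟩⟩ := h
  obtain ⟨N₂, m', hm', ⟨Q⟩⟩ := h'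
  obtain rfl : m = m' := by omega
  obtain ⟨N, ⟨φ₁⟩, ⟨φ₂⟩⟩ := Nbhd.exists_common N₁ N₂
  obtain ⟨P', -⟩ := P.exists_baseChange φ₁
  obtain ⟨Q', -⟩ := Q.exists_baseChange φ₂
  obtain ⟨f, hf, hft⟩ := (P'.ofEq (map_stdAlt_mapR φ₁ _)).exists_iso (Q'.ofEq (map_stdAlt_mapR φ₂ _))
  exact ⟨N.T, inferInstance, inferInstance, inferInstance, N.mem_range, f, hf, hft⟩

/-- The signs pass through local isomorphisms. -/
theorem HasSym.of_locIso {n : ℕ} (h : HasSym t' n p) (hi : AzInv.LocIsoEt S lam t t') : HasSym t n p := by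
  obtain ⟨T, _, _, _, _, f, hf, hft⟩ := hi
  obtain ⟨q, hq⟩ := PrimeSpectrum.comap_surjective_of_faithfullyFlat (A := S) (B := T) p
  obtain ⟨N₂, ⟨Q⟩⟩ := h
  obtain ⟨N, ⟨φ₁⟩, ⟨φ₂⟩⟩ := Nbhd.exists_common (⟨T, q, hq⟩ : Nbhd p) N₂
  obtain ⟨g, hg, hgt⟩ := exists_bc_iso φ₁ f hf hft
  obtain ⟨Q', -⟩ := Q.exists_baseChange φ₂
  exact ⟨N, ⟨(Q'.ofEq (map_one_mapR φ₂ _)).ofIso g hg hgt⟩⟩

theorem HasAlt.of_locIso {n : ℕ} (h : HasAlt t' n p) (hi : AzInv.LocIsoEt S lam t t') : HasAlt t n p := by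
  obtain ⟨T, _, _, _, _, f, hf, hft⟩ := hi
  obtain ⟨q, hq⟩ := PrimeSpectrum.comap_surjective_of_faithfullyFlat (A := S) (B := T) p
  obtain ⟨N₂, m, hm, ⟨Q⟩⟩ := h
  obtain ⟨N, ⟨φ₁⟩, ⟨φ₂⟩⟩ := Nbhd.exists_common (⟨T, q, hq⟩ : Nbhd p) N₂
  obtain ⟨g, hg, hgt⟩ := exists_bc_iso φ₁ f hf hft
  obtain ⟨Q', -⟩ := Q.exists_baseChange φ₂
  exact ⟨N, m, hm, ⟨(Q'.ofEq (map_stdAlt_mapR φ₂ _)).ofIso g hg hgt⟩⟩

/-- Signs of matrix algebras. -/
theorem HasSym.matrix {n : ℕ} (h : HasSym t n p) (k : ℕ) : HasSym (t.matrix (Fin k)) (k * n) p := by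
  obtain ⟨N, ⟨P⟩⟩ := h
  obtain ⟨Q⟩ := P.exists_matrix (Fin k)
  refine ⟨N, ⟨(Q.reindex finProdFinEquiv).ofEq ?_⟩⟩
  rw [show (Matrix.diagonal fun _ : Fin k => (1 : Matrix (Fin n) (Fin n) (N.T ⊗[S] R))) = 1 from Matrix.diagonal_one,
    map_one, Matrix.reindex_apply, Matrix.submatrix_one_equiv]

theorem HasAlt.matrix {n : ℕ} (h : HasAlt t n p) (k : ℕ) : HasAlt (t.matrix (Fin k)) (k * n) p := by
  obtain ⟨N, m, hm, ⟨P⟩⟩ := h
  obtain ⟨Q⟩ := P.exists_matrix (Fin k)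
  refine ⟨N, k * m, by rw [hm, mul_assoc], ⟨(Q.reindex ((Equiv.prodAssoc (Fin k) (Fin m) (Fin 2)).symm.trans
    (Equiv.prodCongr finProdFinEquiv (Equiv.refl _)))).ofEq ?_⟩⟩
  ext ⟨a, i⟩ ⟨b, j⟩
  obtain ⟨⟨a₁, a₂⟩, rfl⟩ := finProdFinEquiv.surjective a
  obtain ⟨⟨b₁, b₂⟩, rfl⟩ := finProdFinEquiv.surjective b
  rw [Matrix.reindex_apply, Matrix.submatrix_apply, show stdAlt (N.T ⊗[S] R) (k * m) (finProdFinEquiv (a₁, a₂), i)
    (finProdFinEquiv (b₁, b₂), j) = if finProdFinEquiv (a₁, a₂) = finProdFinEquiv (b₁, b₂) then J2 _ i j else 0 from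
    blk_apply _ _ _ _ _]
  simp only [Equiv.symm_trans_apply, Equiv.prodCongr_symm, Equiv.prodCongr_apply, Prod.map_apply, Equiv.symm_symm,
    Equiv.symm_apply_apply, Equiv.refl_symm, Equiv.refl_apply, Equiv.prodAssoc_apply, EmbeddingLike.apply_eq_iff_eq,
    Prod.mk.injEq]
  show Matrix.diagonal (fun _ : Fin k => blk fun _ : Fin m => J2 (N.T ⊗[S] R)) a₁ b₁ (a₂, i) (b₂, j) = _
  rw [Matrix.diagonal_apply]
  by_cases h : a₁ = b₁
  · simp [h, blk_apply]
  · simp [h]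

theorem HasSym.pos_iso {n : ℕ} (h : HasSym t n p) :
    ∀ r : PrimeSpectrum S, (∃ N : Nbhd p, r ∈ Set.range (PrimeSpectrum.comap (algebraMap S N.T)) ∧
      Nonempty (Pres N.T t (Fin n) 1)) → HasSym t n r := by
  rintro r ⟨N, ⟨y, rfl⟩, hP⟩
  exact ⟨N.move y, hP⟩

theorem isOpen_hasSym (t : AzInv.LamInv R A lam) (n : ℕ) : IsOpen {p | HasSym t n p} := by
  rw [isOpen_iff_forall_mem_open]
  rintro p ⟨N, hP⟩
  exact ⟨_, fun r hr => HasSym.pos_iso ⟨N, hP⟩ r ⟨N, hr, hP⟩, N.range_isOpen, N.mem_range⟩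

theorem isOpen_hasAlt (t : AzInv.LamInv R A lam) (n : ℕ) : IsOpen {p | HasAlt t n p} := by
  rw [isOpen_iff_forall_mem_open]
  rintro p ⟨N, m, hm, hP⟩
  refine ⟨_, ?_, N.range_isOpen, N.mem_range⟩
  rintro _ ⟨y, rfl⟩
  exact ⟨N.move y, m, hm, hP⟩

/-- Both signs do not occur at a ramified point where two is invertible. -/
theorem not_sym_and_alt (hlam : ∀ r, lam (lam r) = r) (hfix : RInv.IsFixedRing S R lam.toRingEquiv)
    (hram : Ram lam p) (h2 : (2 : S) ∉ p.asIdeal) {n n' : ℕ} (hn : 0 < n) (h : HasSym t n p) (h' : HasAlt t n' p) :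
    False := by
  obtain ⟨N₁, ⟨P⟩⟩ := h
  obtain ⟨N₂, m, hm, ⟨Q⟩⟩ := h'
  obtain ⟨N, ⟨φ₁⟩, ⟨φ₂⟩⟩ := Nbhd.exists_common N₁ N₂
  obtain ⟨P', -⟩ := P.exists_baseChange φ₁
  obtain ⟨Q', -⟩ := Q.exists_baseChange φ₂
  obtain ⟨M, hM, hMq, hMp⟩ := N.exists_prime hlam hfix
  let π : N.T ⊗[S] R →+* M.ResidueField := algebraMap (N.T ⊗[S] R) M.ResidueField
  letI : Algebra R M.ResidueField :=
    (π.comp (Algebra.TensorProduct.includeRight : R →ₐ[S] N.T ⊗[S] R).toRingHom).toAlgebra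
  have hπl : ∀ x, π (lamT N.T lam x) = π x := fun x => by
    rw [← sub_eq_zero, ← map_sub]
    exact Ideal.algebraMap_residueField_eq_zero.2 (hram.sub_mem hlam hfix M hMp x)
  have h2K : (2 : M.ResidueField) ≠ 0 := fun h => h2 (by
    rw [← map_ofNat π, Ideal.algebraMap_residueField_eq_zero] at h
    rwa [← hMp, Ideal.mem_comap, map_ofNat])
  haveI : Nonempty (Fin n) := ⟨⟨0, hn⟩⟩
  refine Pres.sign_unique (P'.ofEq (map_one_mapR φ₁ _)) π (Q'.ofEq (map_stdAlt_mapR φ₂ _)) (fun _ => rfl) hπl h2K ?_ ?_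
  · rw [Matrix.map_one _ (map_zero π) (map_one π), Matrix.transpose_one]
  · rw [map_stdAlt π, stdAlt_transpose]

/-- The dimension of symmetric elements reads off the sign. -/
theorem finrank_of_sign (hlam : ∀ r, lam (lam r) = r) (hfix : RInv.IsFixedRing S R lam.toRingEquiv)
    (q : PrimeSpectrum R) (hq : ∀ r, lam r - r ∈ q.asIdeal)
    (h2 : (2 : S) ∉ (PrimeSpectrum.comap (algebraMap S R) q).asIdeal) {n : ℕ} (hn : 0 < n) :
    (HasSym t n (PrimeSpectrum.comap (algebraMap S R) q) →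
      Module.finrank q.asIdeal.ResidueField (symSpan t q.asIdeal.ResidueField) = (n + 1).choose 2) ∧
    (HasAlt t n (PrimeSpectrum.comap (algebraMap S R) q) →
      Module.finrank q.asIdeal.ResidueField (symSpan t q.asIdeal.ResidueField) ≠ (n + 1).choose 2) := by
  have key : ∀ N : Nbhd (PrimeSpectrum.comap (algebraMap S R) q),
      ∃ (K : Type (max u v)) (_ : Field K) (_ : Algebra R K) (_ : Algebra q.asIdeal.ResidueField K)
        (_ : IsScalarTower R q.asIdeal.ResidueField K) (π : N.T ⊗[S] R →+* K),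
        (∀ r : R, π ((1 : N.T) ⊗ₜ[S] r) = algebraMap R K r) ∧ (∀ x, π (lamT N.T lam x) = π x) ∧ (2 : K) ≠ 0 := by
    intro N
    obtain ⟨M, hM, hMq, hMp⟩ := N.exists_prime hlam hfix
    let π : N.T ⊗[S] R →+* M.ResidueField := algebraMap (N.T ⊗[S] R) M.ResidueField
    let inc : R →+* N.T ⊗[S] R := (Algebra.TensorProduct.includeRight : R →ₐ[S] N.T ⊗[S] R).toRingHom
    have hsub := (ram_of_fix (lam := lam) q hq).sub_mem hlam hfix M hMp
    have hcomap : q.asIdeal = M.comap inc := by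
      refine Groth.L09.RInvBranch.eq_of_forall_mem (lam := lam.toRingEquiv) hlam hfix ?_ hq fun r => ?_
      · rw [Ideal.comap_comap, show inc.comp (algebraMap S R) = algebraMap S (N.T ⊗[S] R) from
          (Algebra.TensorProduct.includeRight : R →ₐ[S] N.T ⊗[S] R).comp_algebraMap, hMp]
        rfl
      · have := hsub ((1 : N.T) ⊗ₜ[S] r)
        rw [Groth.L09.RInvBranch.lamT_tmul, ← TensorProduct.tmul_sub] at this
        exact this
    letI : Algebra R M.ResidueField := (π.comp inc).toAlgebra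
    letI : Algebra q.asIdeal.ResidueField M.ResidueField :=
      (Ideal.ResidueField.map q.asIdeal M inc hcomap).toAlgebra
    haveI : IsScalarTower R q.asIdeal.ResidueField M.ResidueField :=
      IsScalarTower.of_algebraMap_eq fun r => (Ideal.ResidueField.map_algebraMap q.asIdeal M inc hcomap r).symm
    refine ⟨M.ResidueField, inferInstance, inferInstance, inferInstance, inferInstance, π, fun _ => rfl, fun x => ?_,
      fun h => h2 ?_⟩
    · rw [← sub_eq_zero, ← map_sub]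
      exact Ideal.algebraMap_residueField_eq_zero.2 (hsub x)
    · rw [← map_ofNat π, Ideal.algebraMap_residueField_eq_zero] at h
      rwa [← hMp, Ideal.mem_comap, map_ofNat]
  refine ⟨?_, ?_⟩
  · rintro ⟨N, ⟨P⟩⟩
    obtain ⟨K, _, _, _, _, π, hπ, hπl, h2K⟩ := key N
    rw [← finrank_symSpan_ext (t := t) q.asIdeal.ResidueField K,
      (P.finrank_symSpan π hπ hπl h2K 1 (by rw [Matrix.map_one _ (map_zero π) (map_one π), Matrix.transpose_one, one_smul])).1,
      finrank_symmetric, Fintype.card_fin]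
  · rintro ⟨N, m, hm, ⟨P⟩⟩
    obtain ⟨K, _, _, _, _, π, hπ, hπl, h2K⟩ := key N
    rw [← finrank_symSpan_ext (t := t) q.asIdeal.ResidueField K,
      (P.finrank_symSpan π hπ hπl h2K (-1) (by rw [map_stdAlt π, stdAlt_transpose, neg_one_smul])).1,
      finrank_alternating _ h2K, Fintype.card_prod, Fintype.card_fin, Fintype.card_fin, ← hm,
      Nat.choose_succ_succ n 1, Nat.choose_one_right]
    intro h
    simp only [Nat.succ_eq_add_one, show (1 : ℕ) + 1 = 2 from rfl] at h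
    omega

end Points

/-- Local isomorphism from local isomorphisms at all points. -/
theorem locIsoEt_of_isoAt (h : ∀ p, IsoAt t t' p) : AzInv.LocIsoEt S lam t t' := locIsoEt_of_local h

/-- Equal signs give the same type. -/
theorem sameType_of_signs {n n' : ℕ} (hn : 0 < n) (hn' : 0 < n')
    (h : ∀ p, (HasSym t n p ∧ HasSym t' n' p) ∨ (HasAlt t n p ∧ HasAlt t' n' p)) : AzInv.SameType S lam t t' := by
  refine ⟨n', n, hn', hn, locIsoEt_of_isoAt fun p => ?_⟩
  rcases h p with ⟨h1, h2⟩ | ⟨h1, h2⟩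
  · exact IsoAt.of_sym (h1.matrix n') (mul_comm n n' ▸ h2.matrix n)
  · exact IsoAt.of_alt (h1.matrix n') (mul_comm n n' ▸ h2.matrix n)

/-- Algebras of the same type have no opposite signs at ramified points. -/
theorem not_sym_alt_of_sameType (hlam : ∀ r, lam (lam r) = r) (hfix : RInv.IsFixedRing S R lam.toRingEquiv)
    {p : PrimeSpectrum S} (hram : Ram lam p) (h2 : (2 : S) ∉ p.asIdeal) (hst : AzInv.SameType S lam t t') {n n' : ℕ}
    (hn : 0 < n) (hn' : 0 < n') :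
    ¬ (HasSym t n p ∧ HasAlt t' n' p) ∧ ¬ (HasAlt t n p ∧ HasSym t' n' p) := by
  obtain ⟨k, k', hk, hk', hi⟩ := hst
  refine ⟨fun ⟨h1, h2'⟩ => not_sym_and_alt hlam hfix hram h2 (Nat.mul_pos hk hn) (h1.matrix k) ((h2'.matrix k').of_locIso hi),
    fun ⟨h1, h2'⟩ => not_sym_and_alt hlam hfix hram h2 (Nat.mul_pos hk' hn') ((h2'.matrix k').of_locIso hi) (h1.matrix k)⟩

end Groth.L11.Az
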