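import Groth.Agent.L11.Az.Basic
import Mathlib.RingTheory.PiTensorProduct
import Mathlib.LinearAlgebra.Multilinear.Basic
import Mathlib.LinearAlgebra.PiTensorProduct.Basic
import Mathlib.Data.Fintype.BigOperators

/-!
Tensor powers of Azumaya algebras and Kronecker products of matrices indexed by functions.
-/

set_option autoImplicit false
universe u v w

open scoped TensorProduct

namespace Groth.L11.Az

/-- An algebra map out of an Azumaya algebra is injective if it is injective on scalars. -/
theorem injective_algHom {R : Type u} [CommRing R] {B : Type v} [Ring B] [Algebra R B] [IsAzumaya R B]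
    {C : Type w} [Ring C] [Algebra R C] (φ : B →ₐ[R] C) (h : Function.Injective (algebraMap R C)) :
    Function.Injective φ := by
  refine (injective_iff_map_eq_zero φ).mpr fun a ha => ?_
  obtain ⟨n, p, i, -, -, hpi⟩ := Module.Finite.exists_comp_eq_id_of_projective R B
  have key : ∀ x, φ (AlgHom.mulLeftRight R B x a) = 0 := fun x => by
    induction x using TensorProduct.induction_on with
    | zero => simp
    | add x y hx hy => simp [hx, hy]
    | tmul b c => simp [ha]
  rw [show a = p (i a) from (DFunLike.congr_fun hpi a).symm, pi_eq_sum_univ' (i a), map_sum]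
  refine Finset.sum_eq_zero fun j _ => ?_
  obtain ⟨x, hx⟩ := (IsAzumaya.bij (R := R) (A := B)).2 (((LinearMap.proj j).comp i).smulRight (1 : B))
  have h0 := key x
  rw [hx] at h0
  simp only [LinearMap.smulRight_apply, LinearMap.comp_apply, LinearMap.proj_apply, map_smul, map_one] at h0
  have : i a j = 0 := h (by rw [map_zero, Algebra.algebraMap_eq_smul_one, h0])
  rw [this, zero_smul, map_zero]

section PiTensor

variable {R : Type u} [CommRing R]

/-- The empty tensor product, as algebras. -/
noncomputable def piEmptyEquiv (A : Type v) [Ring A] [Algebra R A] : (⨂[R] _ : Fin 0, A) ≃ₐ[R] R :=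
  AlgEquiv.ofLinearEquiv (PiTensorProduct.isEmptyEquiv (Fin 0))
    (by rw [PiTensorProduct.one_def, PiTensorProduct.isEmptyEquiv_apply_tprod])
    (fun a b => by
      induction a using PiTensorProduct.induction_on with
      | smul_tprod r f =>
        induction b using PiTensorProduct.induction_on with
        | smul_tprod r' g =>
          simp only [smul_mul_assoc, mul_smul_comm, map_smul, PiTensorProduct.tprod_mul_tprod,
            PiTensorProduct.isEmptyEquiv_apply_tprod, smul_eq_mul]
          ring
        | add p q hp hq => simp only [mul_add, map_add, hp, hq]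
      | add p q hp hq => simp only [add_mul, map_add, hp, hq])

variable (A : Type v) [Ring A] [Algebra R A] (n : ℕ)

/-- Splitting off the last factor, linearly. -/
noncomputable def piLastLin : (⨂[R] _ : Fin (n + 1), A) ≃ₗ[R] (⨂[R] _ : Fin n, A) ⊗[R] A :=
  (PiTensorProduct.reindex R (fun _ => A) finSumFinEquiv.symm).trans
    ((PiTensorProduct.tmulEquiv R A).symm.trans
      (TensorProduct.congr (LinearEquiv.refl R _)
        (PiTensorProduct.subsingletonEquiv (s := fun _ : Fin 1 => A) (0 : Fin 1))))

theorem piLastLin_tprod (f : Fin (n + 1) → A) :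
    piLastLin A n (PiTensorProduct.tprod R f) = (PiTensorProduct.tprod R fun i : Fin n => f i.castSucc) ⊗ₜ f (Fin.last n) := by
  simp only [piLastLin, LinearEquiv.trans_apply, PiTensorProduct.reindex_tprod]
  erw [PiTensorProduct.tmulEquiv_symm_apply]
  erw [TensorProduct.congr_tmul, PiTensorProduct.subsingletonEquiv_apply_tprod]
  rfl

/-- Splitting off the last factor. -/
noncomputable def piLastEquiv : (⨂[R] _ : Fin (n + 1), A) ≃ₐ[R] (⨂[R] _ : Fin n, A) ⊗[R] A :=
  AlgEquiv.ofLinearEquiv (piLastLin A n)
    (by rw [PiTensorProduct.one_def, piLastLin_tprod]; rfl)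
    (fun a b => by
      induction a using PiTensorProduct.induction_on with
      | smul_tprod r f =>
        induction b using PiTensorProduct.induction_on with
        | smul_tprod r' g =>
          simp only [smul_mul_assoc, mul_smul_comm, map_smul, PiTensorProduct.tprod_mul_tprod, piLastLin_tprod,
            Algebra.TensorProduct.tmul_mul_tmul]
          rfl
        | add p q hp hq => simp only [mul_add, map_add, hp, hq]
      | add p q hp hq => simp only [add_mul, map_add, hp, hq])

theorem isAzumaya_piTensor [IsAzumaya R A] : IsAzumaya R (⨂[R] _ : Fin n, A) := by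
  induction n with
  | zero => exact IsAzumaya.of_AlgEquiv R R _ (piEmptyEquiv A).symm
  | succ n ih =>
    haveI := isAzumaya_tensor (R := R) (⨂[R] _ : Fin n, A) A
    exact IsAzumaya.of_AlgEquiv R _ _ (piLastEquiv A n).symm

end PiTensor

section Kron

variable {T : Type u} [CommRing T] {n : ℕ}

/-- The Kronecker product of `n` matrices, indexed by functions. -/
noncomputable def kron : MultilinearMap T (fun _ : Fin n => Matrix (Fin n) (Fin n) T)
    (Matrix (Fin n → Fin n) (Fin n → Fin n) T) :=
  MultilinearMap.pi fun f => MultilinearMap.pi fun g =>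
    (MultilinearMap.mkPiAlgebra T (Fin n) T).compLinearMap fun i => Matrix.entryLinearMap T T (f i) (g i)

theorem kron_apply (m : Fin n → Matrix (Fin n) (Fin n) T) (f g : Fin n → Fin n) :
    kron m f g = ∏ i, m i (f i) (g i) := rfl

theorem kron_one : kron (1 : Fin n → Matrix (Fin n) (Fin n) T) = 1 := by
  ext f g
  rw [kron_apply]
  simp only [Pi.one_apply, Matrix.one_apply]
  rw [Fintype.prod_ite_zero]
  simp [funext_iff]

theorem kron_mul (m m' : Fin n → Matrix (Fin n) (Fin n) T) : kron (m * m') = kron m * kron m' := by
  classical
  ext f g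
  simp only [kron_apply, Pi.mul_apply, Matrix.mul_apply, Fintype.prod_sum, Finset.prod_mul_distrib]

theorem kron_single (f g : Fin n → Fin n) :
    kron (fun i => Matrix.single (f i) (g i) (1 : T)) = Matrix.single f g 1 := by
  classical
  ext f' g'
  simp only [kron_apply, Matrix.single_apply, Fintype.prod_ite_zero, Finset.prod_const_one]
  refine if_congr ⟨fun h => ⟨funext fun i => (h i).1, funext fun i => (h i).2⟩, ?_⟩ rfl rfl
  rintro ⟨rfl, rfl⟩ i
  exact ⟨rfl, rfl⟩

/-- The sign vector: sign on permutations, zero elsewhere. -/
noncomputable def signVec (f : Fin n → Fin n) : T :=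
  open scoped Classical in
  if h : Function.Bijective f then ((Equiv.Perm.sign (Equiv.ofBijective f h) : ℤ) : T) else 0

theorem signVec_id : signVec (T := T) (n := n) id = 1 := by
  rw [signVec, dif_pos Function.bijective_id]
  rw [show Equiv.ofBijective id Function.bijective_id = (1 : Equiv.Perm (Fin n)) from Equiv.ext fun _ => rfl]
  simp

theorem det_submatrix_eq (M : Matrix (Fin n) (Fin n) T) (f : Fin n → Fin n) :
    (M.submatrix f id).det = signVec f * M.det := by
  classical
  by_cases h : Function.Bijective f
  · rw [signVec, dif_pos h, ← Matrix.det_permute (Equiv.ofBijective f h) M]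
    rfl
  · rw [signVec, dif_neg h, zero_mul]
    have hni : ¬ Function.Injective f := fun hi => h (Finite.injective_iff_bijective.mp hi)
    obtain ⟨i, j, hij, hne⟩ := Function.not_injective_iff.mp hni
    exact Matrix.det_zero_of_row_eq hne (funext fun k => by simp [hij])

theorem sum_prod_signVec (M : Matrix (Fin n) (Fin n) T) (f : Fin n → Fin n) :
    ∑ g : Fin n → Fin n, (∏ i, M (f i) (g i)) * signVec g = signVec f * M.det := by
  classical
  rw [← det_submatrix_eq, ← Matrix.det_transpose, Matrix.det_apply']
  refine (Finset.sum_of_injOn (fun σ : Equiv.Perm (Fin n) => (σ : Fin n → Fin n)) (fun a _ b _ h => DFunLike.coe_injective h)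
    (fun σ _ => Finset.mem_coe.mpr (Finset.mem_univ _)) (fun g _ hg => ?_) fun σ _ => ?_).symm
  · rw [signVec, dif_neg fun h => hg ⟨Equiv.ofBijective g h, by simp, rfl⟩, mul_zero]
  · rw [signVec, dif_pos σ.bijective, show Equiv.ofBijective σ σ.bijective = σ from Equiv.ext fun _ => rfl, mul_comm]
    simp

theorem kron_const_mulVec (M : Matrix (Fin n) (Fin n) T) :
    (kron fun _ => M).mulVec signVec = M.det • signVec := by
  classical
  funext f
  simp only [Matrix.mulVec, dotProduct, kron_apply, Pi.smul_apply, smul_eq_mul]
  rw [sum_prod_signVec, mul_comm]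

theorem kron_const_vecMul (M : Matrix (Fin n) (Fin n) T) :
    Matrix.vecMul signVec (kron fun _ => M) = M.det • signVec := by
  classical
  funext g
  simp only [Matrix.vecMul, dotProduct, kron_apply, Pi.smul_apply, smul_eq_mul]
  have := sum_prod_signVec M.transpose g
  rw [Matrix.det_transpose, mul_comm (signVec g)] at this
  rw [← this]
  exact Finset.sum_congr rfl fun f _ => mul_comm _ _

/-- The antisymmetriser. -/
noncomputable def antisym : Matrix (Fin n → Fin n) (Fin n → Fin n) T :=
  Matrix.vecMulVec signVec signVec

theorem kron_const_mul_antisym (M : Matrix (Fin n) (Fin n) T) :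
    (kron fun _ => M) * antisym = M.det • antisym := by
  classical
  rw [antisym, Matrix.mul_vecMulVec, kron_const_mulVec, Matrix.smul_vecMulVec]

theorem antisym_mul_kron_const (M : Matrix (Fin n) (Fin n) T) :
    antisym * (kron fun _ => M) = M.det • antisym := by
  classical
  rw [antisym, Matrix.vecMulVec_mul, kron_const_vecMul, Matrix.vecMulVec_smul]

theorem map_signVec {T' : Type w} [CommRing T'] (f : T →+* T') (g : Fin n → Fin n) :
    f (signVec g) = signVec g := by
  simp only [signVec]
  split_ifs <;> simp

theorem map_antisym {T' : Type w} [CommRing T'] (f : T →+* T') :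
    (antisym (T := T) (n := n)).map f = antisym := by
  ext a b
  simp [antisym, Matrix.vecMulVec_apply, map_signVec]

theorem map_kron {T' : Type w} [CommRing T'] (f : T →+* T') (m : Fin n → Matrix (Fin n) (Fin n) T) :
    (kron m).map f = kron fun i => (m i).map f := by
  ext a b
  simp [kron_apply]

end Kron

end Groth.L11.Az
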