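import Groth.Agent.L11.Az.MaxEtale
import Mathlib.RingTheory.Spectrum.Maximal.Basic
import Mathlib.LinearAlgebra.FreeModule.Finite.Matrix

/-!
An Azumaya algebra over a local ring as a module over a maximal étale subalgebra; splitting.
-/

set_option autoImplicit false
universe u v w

open scoped TensorProduct
open IsLocalRing

namespace Groth.L11.Az

theorem finite_maximalSpectrum (R : Type u) [CommRing R] [IsLocalRing R] (E : Type w) [CommRing E] [Algebra R E]
    [Module.Finite R E] : Finite (MaximalSpectrum E) := by
  haveI : Finite ((maximalIdeal R).primesOver E) := (Algebra.QuasiFinite.finite_primesOver _).to_subtype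
  refine Finite.of_injective (fun P : MaximalSpectrum E =>
    (⟨P.asIdeal, ⟨P.isMaximal.isPrime, ⟨?_⟩⟩⟩ : (maximalIdeal R).primesOver E)) fun P Q h => ?_
  · haveI := P.isMaximal
    exact (IsLocalRing.eq_maximalIdeal (Ideal.isMaximal_comap_of_isIntegral_of_isMaximal (R := R) P.asIdeal)).symm
  · exact MaximalSpectrum.ext (congrArg Subtype.val h)

theorem split_by_maxEtale {R : Type u} [CommRing R] [IsLocalRing R] {A : Type v} [Ring A] [Algebra R A]
    [IsAzumaya R A] {r : ℕ} (hA : Module.finrank R A = r ^ 2) {E : Type w} [CommRing E] [Algebra R E]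
    [Algebra.Etale R E] [Module.Finite R E] [Module.Free R E] (hE : Module.finrank R E = r) (u : E →ₐ[R] A)
    (hu : Function.Injective (u.toLinearMap.lTensor (ResidueField R))) [Module E A]
    (hmod : ∀ (e : E) (a : A), e • a = a * u e) :
    Module.Free E A ∧ Module.finrank E A = r ∧ Nonempty ((E ⊗[R] A) ≃ₐ[E] Module.End E A) := by
  classical
  haveI : IsScalarTower R E A := ⟨fun c e a => by rw [hmod, hmod, map_smul, mul_smul_comm]⟩
  haveI : Module.Free R A := Module.free_of_flat_of_isLocalRing
  let g : A →ₐ[R] Module.End E A :=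
    { toFun := fun a =>
        { toFun := fun x => a * x
          map_add' := fun x y => mul_add a x y
          map_smul' := fun e x => by simp [hmod, mul_assoc] }
      map_one' := LinearMap.ext fun x => one_mul x
      map_mul' := fun a b => LinearMap.ext fun x => mul_assoc a b x
      map_zero' := LinearMap.ext fun x => zero_mul x
      map_add' := fun a b => LinearMap.ext fun x => add_mul a b x
      commutes' := fun c => LinearMap.ext fun x => by
        change algebraMap R A c * x = c • x
        rw [Algebra.smul_def] }
  let Φ : E ⊗[R] A →ₐ[E] Module.End E A :=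
    Algebra.TensorProduct.lift (Algebra.ofId E (Module.End E A)) g fun e a => Algebra.commutes e _
  have hΦ : ∀ (e : E) (a x : A), Φ (e ⊗ₜ a) x = a * x * u e := fun e a x => by
    simp [Φ, g, hmod, Algebra.algebraMap_eq_smul_one]
  -- `e ⊗ a ↦ a ⊗ op (u e)`
  let ι : E ⊗[R] A →ₗ[R] A ⊗[R] Aᵐᵒᵖ :=
    (TensorProduct.comm R Aᵐᵒᵖ A).toLinearMap ∘ₗ
      ((MulOpposite.opLinearEquiv R).toLinearMap ∘ₗ u.toLinearMap).rTensor A
  have hι : ∀ z, AlgHom.mulLeftRight R A (ι z) = (Φ z).restrictScalars R := fun z => by
    induction z using TensorProduct.induction_on with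
    | zero => simp
    | add a b ha hb => simp only [map_add, ha, hb, LinearMap.restrictScalars_add]
    | tmul e a => exact LinearMap.ext fun x => by simp [ι, hΦ]
  have hιinj : Function.Injective ι := by
    obtain ⟨s, hs⟩ := (split_injective_iff_lTensor_residueField_injective u.toLinearMap).mpr hu
    have hop : Function.Injective (((MulOpposite.opLinearEquiv R).toLinearMap ∘ₗ u.toLinearMap).rTensor A) :=
      Module.Flat.rTensor_preserves_injective_linearMap _
        ((MulOpposite.opLinearEquiv R).injective.comp (Function.HasLeftInverse.injective ⟨s, LinearMap.congr_fun hs⟩))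
    exact (TensorProduct.comm R Aᵐᵒᵖ A).injective.comp hop
  have hbij : Function.Bijective Φ := by
    refine ⟨fun z z' h => hιinj ((IsAzumaya.bij (R := R) (A := A)).1 (by rw [hι, hι, h])), fun T => ?_⟩
    obtain ⟨t, ht⟩ := (IsAzumaya.bij (R := R) (A := A)).2 (T.restrictScalars R)
    let b := Module.Free.chooseBasis R A
    let co := TensorProduct.equivFinsuppOfBasisLeft (N := Aᵐᵒᵖ) b
    have ht' : t = (co t).sum fun i c => b i ⊗ₜ c := by
      rw [← TensorProduct.equivFinsuppOfBasisLeft_symm_apply, LinearEquiv.symm_apply_apply]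
    have hcl : ∀ (e : E) (z : A ⊗[R] Aᵐᵒᵖ) i, co ((1 ⊗ₜ MulOpposite.op (u e)) * z) i = MulOpposite.op (u e) * co z i :=
      fun e z i => by
        induction z using TensorProduct.induction_on with
        | zero => simp
        | add a b ha hb => simp [mul_add, ha, hb]
        | tmul a c => simp [co, mul_smul_comm, TensorProduct.equivFinsuppOfBasisLeft_apply_tmul_apply]
    have hcr : ∀ (e : E) (z : A ⊗[R] Aᵐᵒᵖ) i, co (z * (1 ⊗ₜ MulOpposite.op (u e))) i = co z i * MulOpposite.op (u e) :=
      fun e z i => by
        induction z using TensorProduct.induction_on with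
        | zero => simp
        | add a b ha hb => simp [add_mul, ha, hb]
        | tmul a c => simp [co, smul_mul_assoc, TensorProduct.equivFinsuppOfBasisLeft_apply_tmul_apply]
    have hcomm : ∀ e, ((1 : A) ⊗ₜ[R] MulOpposite.op (u e)) * t = t * (1 ⊗ₜ MulOpposite.op (u e)) := fun e =>
      (IsAzumaya.bij (R := R) (A := A)).1 (LinearMap.ext fun x => by
        have := T.map_smul e x
        rw [hmod, hmod] at this
        simp only [map_mul, Module.End.mul_apply, ht, AlgHom.mulLeftRight_apply, one_mul, MulOpposite.unop_op,
          LinearMap.restrictScalars_apply, this])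
    have hc : ∀ i, ∃ e, u e = MulOpposite.unop (co t i) := fun i =>
      mem_range_of_commute_local hA hE u hu _ fun e => by
        have h := congrArg (fun z => MulOpposite.unop (co z i)) (hcomm e)
        simpa [hcl, hcr] using h
    choose c hc using hc
    refine ⟨∑ i ∈ (co t).support, c i ⊗ₜ b i, LinearMap.restrictScalars_injective R ?_⟩
    rw [← hι, ← ht]
    congr 1
    conv_rhs => rw [ht']
    simp [ι, map_sum, Finsupp.sum, hc]
  let e := AlgEquiv.ofBijective Φ hbij
  haveI : Module.Finite E A := Module.Finite.of_restrictScalars_finite R E A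
  haveI : Module.Projective E A := Algebra.FormallyUnramified.projective_of_restrictScalars R E A
  haveI := finite_maximalSpectrum R E
  haveI : Nontrivial A := (FaithfulSMul.algebraMap_injective R A).nontrivial
  haveI : Nontrivial E := Module.nontrivial_of_finrank_pos (R := R) (by
    rw [hE]
    refine Nat.pos_of_ne_zero fun h => ?_
    have hpos : 0 < Module.finrank R A := by
      haveI := (Module.Free.chooseBasis R A).index_nonempty
      rw [Module.finrank_eq_card_chooseBasisIndex]
      exact Fintype.card_pos
    rw [hA, h] at hpos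
    simp at hpos)
  have hrk : ∀ P : MaximalSpectrum E, Module.finrank (E ⧸ P.asIdeal) ((E ⧸ P.asIdeal) ⊗[E] A) = r := fun P => by
    haveI := P.isMaximal
    letI := Ideal.Quotient.field P.asIdeal
    have h1 := (LinearEquiv.ofBijective _ (endBC_bijective (R := E) (E ⧸ P.asIdeal) A)).finrank_eq
    rw [(e.symm.toLinearEquiv.baseChange E (E ⧸ P.asIdeal)).finrank_eq, Module.finrank_baseChange,
      Module.finrank_baseChange, hA, Module.finrank_linearMap, ← sq] at h1
    exact Nat.pow_left_injective two_ne_zero h1.symm
  haveI : Module.Free E A := Module.free_of_flat_of_finrank_eq E A r hrk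
  refine ⟨inferInstance, ?_, ⟨e⟩⟩
  obtain ⟨m, hm⟩ := Ideal.exists_maximal E
  haveI := hm
  letI := Ideal.Quotient.field m
  rw [← hrk ⟨m, hm⟩, Module.finrank_baseChange]

end Groth.L11.Az
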