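import Groth.Agent.L11.Az.Cover
import Mathlib.RingTheory.Etale.Pi
import Mathlib.RingTheory.Smooth.Flat

/-!
A single etale faithfully flat splitting algebra for an Azumaya algebra of constant rank.
-/

set_option autoImplicit false
universe u v w

open scoped TensorProduct

namespace Groth.L11.Az

/-- An Azumaya algebra of constant rank `n²` over a ring is split by a faithfully flat etale extension. -/
theorem exists_etale_splitting {R : Type u} [CommRing R] (A : Type v) [Ring A] [Algebra R A] [IsAzumaya R A] (n : ℕ)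
    (hrk : ∀ p : PrimeSpectrum R, Module.rankAtStalk (R := R) A p = n ^ 2) :
    ∃ (S : Type u) (_ : CommRing S) (_ : Algebra R S), Algebra.Etale R S ∧ Module.FaithfullyFlat R S ∧
      Nonempty ((S ⊗[R] A) ≃ₐ[S] Matrix (Fin n) (Fin n) S) := by
  classical
  have hloc : ∀ p : PrimeSpectrum R, ∃ f : R, f ∉ p.asIdeal ∧ ∃ (R' : Type u) (_ : CommRing R') (_ : Algebra R R'),
      Algebra.Etale R R' ∧ (∀ q : PrimeSpectrum R, f ∉ q.asIdeal → q ∈ Set.range (PrimeSpectrum.comap (algebraMap R R'))) ∧
        Nonempty ((R' ⊗[R] A) ≃ₐ[R'] Matrix (Fin n) (Fin n) R') := fun p => by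
    obtain ⟨f, hf, R', _, _, _, _, _, _, _, r, hr, ⟨e⟩⟩ := exists_split_etale A p.asIdeal
    haveI : Algebra.Etale R (Localization.Away f) := Algebra.Etale.of_isLocalizationAway f
    haveI : Algebra.Etale R R' := Algebra.Etale.comp R (Localization.Away f) R'
    have hrange : ∀ q : PrimeSpectrum R, f ∉ q.asIdeal → q ∈ Set.range (PrimeSpectrum.comap (algebraMap R R')) := fun q hq => by
      obtain ⟨q₁, rfl⟩ : q ∈ Set.range (PrimeSpectrum.comap (algebraMap R (Localization.Away f))) := by
        rw [PrimeSpectrum.localization_away_comap_range (Localization.Away f) f]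
        exact hq
      obtain ⟨q₂, rfl⟩ := PrimeSpectrum.comap_surjective_of_faithfullyFlat (A := Localization.Away f) (B := R') q₁
      exact ⟨q₂, by rw [IsScalarTower.algebraMap_eq R (Localization.Away f) R', PrimeSpectrum.comap_comp_apply]⟩
    obtain ⟨P, hP⟩ := hrange p hf
    haveI : Nontrivial R' := ⟨⟨0, 1, fun h => P.isPrime.ne_top ((Ideal.eq_top_iff_one _).mpr (h ▸ P.asIdeal.zero_mem))⟩⟩
    have h1 := Module.rankAtStalk_baseChange (R := R) (M := A) (S := R') P
    rw [hrk, Module.rankAtStalk_eq_of_equiv e.toLinearEquiv, Module.rankAtStalk_eq_finrank_of_free, Pi.natCast_apply,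
      Module.finrank_matrix, Module.finrank_self, Fintype.card_fin, mul_one, ← sq, Nat.cast_id] at h1
    obtain rfl : r = n := Nat.pow_left_injective two_ne_zero h1
    exact ⟨f, hf, R', inferInstance, inferInstance, inferInstance, hrange, ⟨e⟩⟩
  choose f hf R' iR iA het hrange he using hloc
  have htop : Ideal.span (Set.range f) = ⊤ := by
    by_contra hne
    obtain ⟨m, hm, hle⟩ := Ideal.exists_le_maximal _ hne
    exact hf ⟨m, hm.isPrime⟩ (hle (Ideal.subset_span ⟨_, rfl⟩))
  obtain ⟨t, htr, ht⟩ := Submodule.mem_span_finite_of_mem_span ((Ideal.eq_top_iff_one _).mp htop)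
  choose g hg using fun x : t => htr x.2
  haveI : ∀ x : t, Algebra.Etale R (R' (g x)) := fun x => het (g x)
  haveI : Algebra.Etale R (Π x : t, R' (g x)) := inferInstance
  have hff : Module.FaithfullyFlat R (Π x : t, R' (g x)) := Module.FaithfullyFlat.of_comap_surjective fun q => by
    obtain ⟨x, hx⟩ : ∃ x : t, f (g x) ∉ q.asIdeal := by
      by_contra! h
      exact q.isPrime.ne_top ((Ideal.eq_top_iff_one _).mpr (Submodule.span_le.mpr (fun y hy => by
        have := h ⟨y, hy⟩
        rwa [hg ⟨y, hy⟩] at this) ht))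
    obtain ⟨Q, hQ⟩ := hrange (g x) q hx
    exact ⟨PrimeSpectrum.comap (Pi.evalRingHom _ x) Q, by rw [← PrimeSpectrum.comap_comp_apply]; exact hQ⟩
  refine ⟨(Π x : t, R' (g x)), inferInstance, inferInstance, inferInstance, hff, ?_⟩
  let φ : ∀ x : t, (R' (g x) ⊗[R] A) ≃ₐ[R' (g x)] Matrix (Fin n) (Fin n) (R' (g x)) := fun x => Classical.choice (he (g x))
  let θ : A →ₐ[R] Matrix (Fin n) (Fin n) (Π x : t, R' (g x)) :=
    { toFun := fun a => Matrix.of fun i j x => φ x ((1 : R' (g x)) ⊗ₜ[R] a) i j
      map_one' := by
        ext i j x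
        simp [← Algebra.TensorProduct.one_def, Matrix.one_apply]
        split_ifs <;> simp
      map_mul' := fun a b => by
        ext i j x
        rw [Matrix.mul_apply, Matrix.of_apply, Finset.sum_apply,
          show (1 : R' (g x)) ⊗ₜ[R] (a * b) = (1 ⊗ₜ a) * (1 ⊗ₜ b) by simp [Algebra.TensorProduct.tmul_mul_tmul],
          map_mul, Matrix.mul_apply]
        rfl
      map_zero' := by ext i j x; simp
      map_add' := fun a b => by ext i j x; simp [TensorProduct.tmul_add]
      commutes' := fun r => by
        ext i j x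
        change φ x ((1 : R' (g x)) ⊗ₜ[R] algebraMap R A r) i j = _
        rw [show (1 : R' (g x)) ⊗ₜ[R] algebraMap R A r = algebraMap (R' (g x)) _ (algebraMap R (R' (g x)) r) by
            rw [← IsScalarTower.algebraMap_apply,
              ← (Algebra.TensorProduct.includeRight : A →ₐ[R] R' (g x) ⊗[R] A).commutes r]
            rfl,
          AlgEquiv.commutes]
        simp [Matrix.algebraMap_matrix_apply]
        split_ifs <;> simp }
  let Θ : (Π x : t, R' (g x)) ⊗[R] A →ₐ[(Π x : t, R' (g x))] Matrix (Fin n) (Fin n) (Π x : t, R' (g x)) :=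
    Algebra.TensorProduct.lift (Algebra.ofId (Π x : t, R' (g x)) _) θ fun c _ => Algebra.commutes c _
  haveI : IsAzumaya (Π x : t, R' (g x)) ((Π x : t, R' (g x)) ⊗[R] A) := isAzumaya_baseChange (R := R) (Π x : t, R' (g x)) A
  have hcoord : ∀ (z : (Π x : t, R' (g x)) ⊗[R] A) x i j,
      Θ z i j x = φ x (Algebra.TensorProduct.map (Pi.evalAlgHom R (fun x : t => R' (g x)) x) (AlgHom.id R A) z) i j :=
    fun z x i j => by
      induction z using TensorProduct.induction_on with
      | zero => simp
      | add a b ha hb => simp [ha, hb]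
      | tmul c a =>
        have e1 : (Algebra.TensorProduct.map (Pi.evalAlgHom R (fun x : t => R' (g x)) x) (AlgHom.id R A)) (c ⊗ₜ[R] a) =
            c x • ((1 : R' (g x)) ⊗ₜ[R] a) := by simp [TensorProduct.smul_tmul']
        rw [e1, map_smul]
        simp [Θ, θ, Algebra.algebraMap_eq_smul_one]
  refine ⟨AlgEquiv.ofBijective Θ ⟨fun z z' h => ?_, fun X => ?_⟩⟩
  · rcases Nat.eq_zero_or_pos n with rfl | hn
    · haveI : Subsingleton ((Π x : t, R' (g x)) ⊗[R] A) := by
        haveI : Subsingleton A := (Module.rankAtStalk_eq_zero_iff_subsingleton (R := R)).mp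
          (funext fun p => by rw [hrk]; rfl)
        exact ⟨fun z z' => by rw [show z = 0 from ?_, show z' = 0 from ?_] <;> exact TensorProduct.induction_on (motive := fun w => w = 0) _ rfl (fun c a => by rw [Subsingleton.elim a 0, TensorProduct.tmul_zero]) (fun u v hu hv => by rw [hu, hv, add_zero])⟩
      exact Subsingleton.elim _ _
    · haveI : Nonempty (Fin n) := ⟨⟨0, hn⟩⟩
      exact injective_algHom Θ (fun a b hab => by
        have := congrFun (congrFun hab ⟨0, hn⟩) ⟨0, hn⟩
        simpa [Matrix.algebraMap_matrix_apply] using this) h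
  · have hpre : ∀ x : t, ∃ z : (Π x : t, R' (g x)) ⊗[R] A, ∀ i j y, Θ z i j y = if y = x then X i j y else 0 := fun x => by
      let w := (φ x).symm (Matrix.of fun i j => X i j x)
      refine ⟨TensorProduct.map (LinearMap.single R (fun x : t => R' (g x)) x) LinearMap.id w, fun i j y => ?_⟩
      rw [hcoord]
      have e1 : Algebra.TensorProduct.map (Pi.evalAlgHom R (fun x : t => R' (g x)) y) (AlgHom.id R A)
          (TensorProduct.map (LinearMap.single R (fun x : t => R' (g x)) x) LinearMap.id w) =
          TensorProduct.map ((LinearMap.proj y).comp (LinearMap.single R (fun x : t => R' (g x)) x)) LinearMap.id w := by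
        clear_value w
        induction w using TensorProduct.induction_on with
        | zero => simp
        | add a b ha hb => simp only [map_add, ha, hb]
        | tmul c a => simp
      rw [e1]
      split_ifs with hy
      · subst hy
        rw [LinearMap.proj_comp_single_same, TensorProduct.map_id, LinearMap.id_apply, AlgEquiv.apply_symm_apply,
          Matrix.of_apply]
      · rw [LinearMap.proj_comp_single_ne R _ _ _ hy, TensorProduct.map_zero_left, LinearMap.zero_apply, map_zero]
        rfl
    choose z hz using hpre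
    refine ⟨∑ x, z x, ?_⟩
    ext i j y
    rw [map_sum, Matrix.sum_apply, Finset.sum_apply]
    simp [hz]

end Groth.L11.Az
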