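import Groth.Agent.L27.EtSite.SplitCover
import Mathlib.RingTheory.Etale.Pi
import Mathlib.RingTheory.Flat.FaithfullyFlat.Algebra
import Mathlib.RingTheory.Smooth.Flat
import Mathlib.RingTheory.TensorProduct.Pi
import Mathlib.RingTheory.Spectrum.Prime.Chevalley
import Mathlib.RingTheory.Ideal.GoingDown
import Mathlib.RingTheory.IntegralClosure.IsIntegral.Basic
import Mathlib.Algebra.Ring.ULift

/-!
Etale covers of integral algebras are refined by etale covers of the base.
-/

set_option autoImplicit false
universe u v w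

open scoped TensorProduct

noncomputable section

namespace Groth.L11.Az

/-- An etale cover of an integral algebra is refined by a single etale cover of the base. -/
theorem exists_refine_cover_same (A B C : Type w) [CommRing A] [CommRing B] [Algebra A B]
    [Algebra.IsIntegral A B] [CommRing C] [Algebra B C] [Algebra.Etale B C] [Module.FaithfullyFlat B C] :
    ∃ (T : Type w) (_ : CommRing T) (_ : Algebra A T) (_ : Algebra.Etale A T) (_ : Module.FaithfullyFlat A T),
      Nonempty (C →ₐ[B] B ⊗[A] T) := by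
  classical
  choose A' i1 i2 i3 q hq g using fun p => Groth.L27.EtSite.exists_etale_splitting A B C p
  have hopen : ∀ p, IsOpen (Set.range (PrimeSpectrum.comap (algebraMap A (A' p)))) := fun p =>
    (PrimeSpectrum.isOpenMap_comap_of_hasGoingDown_of_finitePresentation (R := A) (S := A' p)).isOpen_range
  obtain ⟨t, ht⟩ := CompactSpace.isCompact_univ.elim_finite_subcover
    (fun p => Set.range (PrimeSpectrum.comap (algebraMap A (A' p)))) hopen
    (fun p _ => Set.mem_iUnion.2 ⟨p, q p, hq p⟩)
  let T := Π p : t, A' p.1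
  have : Algebra.Etale A T := inferInstance
  have hff : Module.FaithfullyFlat A T := Module.FaithfullyFlat.of_comap_surjective fun p => by
    obtain ⟨i, hi, y, hy⟩ := Set.mem_iUnion₂.1 (ht (Set.mem_univ p))
    exact ⟨PrimeSpectrum.comap (Pi.evalRingHom _ (⟨i, hi⟩ : t)) y, by rw [← PrimeSpectrum.comap_comp_apply]; exact hy⟩
  let e : B ⊗[A] T ≃ₐ[B] Π p : t, B ⊗[A] A' p.1 := Algebra.TensorProduct.piRight A B B fun p : t => A' p.1
  exact ⟨T, inferInstance, inferInstance, inferInstance, hff, ⟨e.symm.toAlgHom.comp (AlgHom.pi fun p : t => (g p.1).some)⟩⟩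

/-- Ring maps out of a tensor product. -/
theorem exists_tensor_ringHom {A B T W : Type*} [CommRing A] [CommRing B] [CommRing T] [CommRing W]
    [Algebra A B] [Algebra A T] (f : B →+* W) (g : T →+* W)
    (h : ∀ a, f (algebraMap A B a) = g (algebraMap A T a)) :
    ∃ ψ : B ⊗[A] T →+* W, ∀ b t, ψ (b ⊗ₜ[A] t) = f b * g t := by
  letI : Algebra A W := (f.comp (algebraMap A B)).toAlgebra
  let f' : B →ₐ[A] W := { f with commutes' := fun _ => rfl }
  let g' : T →ₐ[A] W := { g with commutes' := fun a => (h a).symm }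
  exact ⟨(Algebra.TensorProduct.lift f' g' fun _ _ => Commute.all _ _).toRingHom, fun b t => rfl⟩

attribute [local instance] Algebra.TensorProduct.rightAlgebra

attribute [-instance] ULift.smulLeft ULift.module ULift.mulAction ULift.smulZeroClass ULift.distribSMul ULift.distribMulAction ULift.mulDistribMulAction ULift.smulWithZero ULift.mulActionWithZero ULift.isScalarTower in
/-- An etale cover of an integral algebra in any universe is refined by an etale cover of the base. -/
theorem exists_refine_cover (S : Type u) (R : Type v) [CommRing S] [CommRing R] [Algebra S R]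
    [Algebra.IsIntegral S R] (C : Type v) [CommRing C] [Algebra R C] [Algebra.Etale R C]
    [Module.FaithfullyFlat R C] :
    ∃ (T : Type u) (_ : CommRing T) (_ : Algebra S T) (_ : Algebra.Etale S T) (_ : Module.FaithfullyFlat S T),
      Nonempty (C →ₐ[R] T ⊗[S] R) := by
  let A0 := ULift.{v} S
  let B0 := ULift.{u} R
  let εA : A0 ≃+* S := ULift.ringEquiv
  let εB : B0 ≃+* R := ULift.ringEquiv
  letI : Algebra A0 B0 := (εB.symm.toRingHom.comp ((algebraMap S R).comp εA.toRingHom)).toAlgebra
  haveI : Algebra.IsIntegral A0 B0 := ⟨fun x => by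
    obtain ⟨p, hp, hpx⟩ := Algebra.IsIntegral.isIntegral (R := S) (εB x)
    refine ⟨p.map εA.symm.toRingHom, hp.map _, εB.injective ?_⟩
    rw [Polynomial.eval₂_map, map_zero]
    show εB.toRingHom _ = 0
    rw [Polynomial.hom_eval₂]
    exact hpx⟩
  obtain ⟨T', _, _, _, _, ⟨g⟩⟩ := exists_refine_cover_same A0 B0 (B0 ⊗[R] C)
  letI iA : Algebra A0 S := εA.toRingHom.toAlgebra
  let T0 := S ⊗[A0] T'
  haveI hfp : Algebra.FinitePresentation S T0 := inferInstance
  obtain ⟨k, f, hf, -⟩ := hfp.out
  let T := MvPolynomial (Fin k) S ⧸ RingHom.ker f.toRingHom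
  let e : T ≃ₐ[S] T0 := Ideal.quotientKerAlgEquivOfSurjective hf
  haveI : Algebra.Etale S T := Algebra.Etale.of_equiv e.symm
  haveI : Module.FaithfullyFlat S T := Module.FaithfullyFlat.of_linearEquiv S T0 e.toLinearEquiv
  let W := T ⊗[S] R
  obtain ⟨ψ, hψ⟩ := exists_tensor_ringHom (A := A0) (B := B0) (T := T') (W := T ⊗[S] R)
    ((Algebra.TensorProduct.includeRight : R →ₐ[S] W).toRingHom.comp εB.toRingHom)
    ((Algebra.TensorProduct.includeLeft : T →ₐ[S] W).toRingHom.comp (e.symm.toRingEquiv.toRingHom.comp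
      (Algebra.TensorProduct.includeRight : T' →ₐ[A0] T0).toRingHom)) fun s => by
    show (Algebra.TensorProduct.includeRight : R →ₐ[S] W) (algebraMap S R (εA s)) =
      (Algebra.TensorProduct.includeLeft : T →ₐ[S] W)
        (e.symm ((Algebra.TensorProduct.includeRight : T' →ₐ[A0] T0) (algebraMap A0 T' s)))
    rw [AlgHom.commutes, AlgHom.commutes, show algebraMap A0 T0 s = algebraMap S T0 (εA s) from rfl, AlgEquiv.commutes,
      AlgHom.commutes]
  refine ⟨T, inferInstance, inferInstance, inferInstance, inferInstance,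
    ⟨{ toRingHom := ψ.comp (g.toRingHom.comp
        (Algebra.TensorProduct.includeRight : C →ₐ[R] B0 ⊗[R] C).toRingHom), commutes' := fun r => ?_ }⟩⟩
  show ψ (g ((Algebra.TensorProduct.includeRight : C →ₐ[R] B0 ⊗[R] C) (algebraMap R C r))) = _
  rw [AlgHom.commutes, IsScalarTower.algebraMap_apply R B0 (B0 ⊗[R] C), g.commutes]
  show ψ ((algebraMap R B0 r) ⊗ₜ[A0] (1 : T')) = _
  rw [hψ, map_one, mul_one]
  rfl

end Groth.L11.Az
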