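import Groth.Agent.L11.Az.Fibre
import Groth.Agent.L11.CSA.Split
import Mathlib.RingTheory.Etale.Field
import Mathlib.RingTheory.Etale.StandardEtale
import Mathlib.RingTheory.LocalRing.Module
import Mathlib.RingTheory.AdjoinRoot
import Mathlib.FieldTheory.IsAlgClosed.AlgebraicClosure
import Mathlib.LinearAlgebra.Matrix.ToLin

/-!
Étale subalgebras of maximal rank in Azumaya algebras are their own commutants.
-/

set_option autoImplicit false
universe u v w

open scoped TensorProduct

namespace Groth.L11.Az

/-- `AdjoinRoot f` is étale when `f` is monic and separable. -/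
theorem etale_adjoinRoot {R : Type u} [CommRing R] {f : Polynomial R} (hf : f.Monic) (hs : f.Separable) :
    Algebra.Etale R (AdjoinRoot f) := by
  obtain ⟨a, b, hab⟩ := hs
  let P : StandardEtalePair R :=
    { f := f, monic_f := hf, g := 1, cond := ⟨b, a, 0, by rw [pow_zero, ← hab]; ring⟩ }
  have hg : IsUnit (AdjoinRoot.mk P.f P.g) := by simp [P]
  exact Algebra.Etale.of_equiv (P.equivAwayAdjoinRoot.trans
    ((IsLocalization.atUnits (AdjoinRoot P.f) (Submonoid.powers (AdjoinRoot.mk P.f P.g))
      (by rintro _ ⟨k, rfl⟩; exact hg.pow k)).symm.restrictScalars R))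

section Field

variable {k : Type u} [Field k] {B : Type v} [Ring B] [Algebra k B]

/-- The commutant of a maximal étale subalgebra of a CSA is the subalgebra itself. -/
theorem mem_range_of_commute [Algebra.IsCentral k B] [IsSimpleRing B] [FiniteDimensional k B] {r : ℕ}
    (hB : Module.finrank k B = r ^ 2) {K : Type w} [CommRing K] [Algebra k K] [Module.Finite k K]
    [Algebra.FormallyEtale k K] (hK : Module.finrank k K = r) (u : K →ₐ[k] B) (hu : Function.Injective u)
    (b : B) (hb : ∀ x, b * u x = u x * b) : b ∈ u.range := by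
  classical
  let L := AlgebraicClosure k
  obtain ⟨n, hn, ⟨e⟩⟩ := CSA.exists_algEquiv_matrix_baseChange k B L
  have hnr : n = r := by
    have := e.toLinearEquiv.finrank_eq
    rw [Module.finrank_baseChange, hB, Module.finrank_matrix, Module.finrank_self, Fintype.card_fin, mul_one] at this
    exact (Nat.pow_left_injective two_ne_zero (by rw [this]; ring : r ^ 2 = n ^ 2)).symm
  let π := Algebra.FormallyEtale.equivPiOfIsSepClosed L (L ⊗[k] K)
  haveI : IsArtinianRing (L ⊗[k] K) := isArtinian_of_tower L inferInstance
  haveI : Fintype (PrimeSpectrum (L ⊗[k] K)) := Fintype.ofFinite _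
  have hcard : Fintype.card (PrimeSpectrum (L ⊗[k] K)) = n := by
    rw [hnr, ← hK, ← Module.finrank_baseChange (R := L) (S := k) (M' := K), π.toLinearEquiv.finrank_eq,
      Module.finrank_pi]
  let ubar : L ⊗[k] K →ₐ[L] Matrix (Fin n) (Fin n) L :=
    e.toAlgHom.comp (Algebra.TensorProduct.map (AlgHom.id L L) u)
  have hubar : Function.Injective ubar := e.injective.comp
    (Module.Flat.lTensor_preserves_injective_linearMap (M := L) u.toLinearMap hu)
  let ε : PrimeSpectrum (L ⊗[k] K) → Matrix (Fin n) (Fin n) L := fun i => ubar (π.symm (Pi.single i 1))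
  have hεmul : ∀ i j, ε i * ε j = if i = j then ε i else 0 := fun i j => by
    simp only [ε, ← map_mul]
    split_ifs with h
    · subst h; congr 2; ext a; rcases eq_or_ne a i with rfl | ha <;> simp [*]
    · rw [show (Pi.single i 1 * Pi.single j 1 : PrimeSpectrum (L ⊗[k] K) → L) = 0 by
        ext a; rcases eq_or_ne a i with rfl | ha <;> simp [*], map_zero, map_zero]
  have hεne : ∀ i, ∃ w : Fin n → L, (ε i).mulVec w ≠ 0 := fun i => by
    by_contra! h
    have h0 : ε i = 0 := Matrix.ext_of_mulVec_single fun j => by rw [h, Matrix.zero_mulVec]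
    have := π.symm.injective ((hubar (h0.trans (map_zero _).symm)).trans (map_zero _).symm)
    simpa using congrFun this i
  choose w hw using hεne
  let v : PrimeSpectrum (L ⊗[k] K) → Fin n → L := fun i => (ε i).mulVec (w i)
  have hεv : ∀ i j, (ε i).mulVec (v j) = if i = j then v j else 0 := fun i j => by
    change Matrix.mulVec (ε i) (Matrix.mulVec (ε j) (w j)) = if i = j then Matrix.mulVec (ε j) (w j) else 0
    rw [Matrix.mulVec_mulVec, hεmul]
    split_ifs with h
    · subst h; rfl
    · rw [Matrix.zero_mulVec]
  have hli : LinearIndependent L v := by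
    rw [Fintype.linearIndependent_iff]
    intro g hg i
    have := congrArg (ε i).mulVec hg
    rw [Matrix.mulVec_sum, Matrix.mulVec_zero] at this
    simp only [Matrix.mulVec_smul, hεv, smul_ite, smul_zero, Finset.sum_ite_eq, Finset.mem_univ, if_true] at this
    exact (smul_eq_zero.mp this).resolve_right (hw i)
  haveI : Nonempty (PrimeSpectrum (L ⊗[k] K)) := Fintype.card_pos_iff.mp (by rw [hcard]; exact Nat.pos_of_ne_zero hn)
  let bv := basisOfLinearIndependentOfCardEqFinrank hli
    (by rw [hcard, Module.finrank_pi, Fintype.card_fin])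
  have hbv : ⇑bv = v := coe_basisOfLinearIndependentOfCardEqFinrank hli _
  -- the commutant
  let C : Submodule k B := (Subalgebra.centralizer k (Set.range u)).toSubmodule
  let c : L ⊗[k] C →ₗ[L] Matrix (Fin n) (Fin n) L := e.toLinearMap.comp (C.subtype.baseChange L)
  have hc : Function.Injective c := e.injective.comp
    (Module.Flat.lTensor_preserves_injective_linearMap (M := L) C.subtype Subtype.val_injective)
  have hcomm : ∀ z y, c z * ubar y = ubar y * c z := fun z y => by
    induction z using TensorProduct.induction_on with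
    | zero => simp
    | add z z' hz hz' => rw [map_add, add_mul, mul_add, hz, hz']
    | tmul s a =>
      induction y using TensorProduct.induction_on with
      | zero => simp
      | add y y' hy hy' => rw [map_add, add_mul, mul_add, hy, hy']
      | tmul t x =>
        simp only [c, ubar, LinearMap.comp_apply, LinearMap.baseChange_tmul, AlgHom.comp_apply,
          Algebra.TensorProduct.map_tmul, AlgHom.id_apply]
        change e (s ⊗ₜ[k] (a : B)) * e (t ⊗ₜ u x) = e (t ⊗ₜ u x) * e (s ⊗ₜ[k] (a : B))
        rw [← map_mul, ← map_mul, Algebra.TensorProduct.tmul_mul_tmul, Algebra.TensorProduct.tmul_mul_tmul,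
          mul_comm s t, Subalgebra.mem_centralizer_iff k |>.mp a.2 (u x) ⟨x, rfl⟩]
  have hvec : ∀ z i, (c z).mulVec (v i) = bv.repr ((c z).mulVec (v i)) i • v i := fun z i => by
    have h1 : (c z).mulVec (v i) = (ε i).mulVec ((c z).mulVec (v i)) := by
      conv_lhs => rw [show v i = (ε i).mulVec (v i) by rw [hεv, if_pos rfl]]
      rw [Matrix.mulVec_mulVec, hcomm, ← Matrix.mulVec_mulVec]
    conv_lhs => rw [h1, ← bv.sum_repr ((c z).mulVec (v i)), Matrix.mulVec_sum]
    simp [Matrix.mulVec_smul, hbv, hεv]
  let Φ : L ⊗[k] C →ₗ[L] (PrimeSpectrum (L ⊗[k] K) → L) := LinearMap.pi fun i =>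
    (bv.coord i).comp (((Matrix.mulVecBilin L L).flip (v i)).comp c)
  have hΦ : Function.Injective Φ := by
    refine (injective_iff_map_eq_zero _).mpr fun z hz => hc ?_
    rw [map_zero]
    refine Matrix.toLin'.injective (bv.ext fun i => ?_)
    rw [map_zero, LinearMap.zero_apply, Matrix.toLin'_apply, hbv, hvec z i,
      show bv.repr ((c z).mulVec (v i)) i = 0 from congrFun hz i, zero_smul]
  have hdim := LinearMap.finrank_le_finrank_of_injective hΦ
  rw [Module.finrank_baseChange, Module.finrank_pi, hcard, hnr] at hdim
  have hle : LinearMap.range u.toLinearMap ≤ C := by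
    rintro _ ⟨x, rfl⟩
    exact (Subalgebra.mem_centralizer_iff k).mpr fun _ ⟨y, hy⟩ => by
      rw [← hy]
      change u y * u x = u x * u y
      rw [← map_mul, ← map_mul, mul_comm]
  have heq := Submodule.eq_of_le_of_finrank_le hle (by
    rw [LinearMap.finrank_range_of_inj (f := u.toLinearMap) hu, hK]; exact hdim)
  have hbC : b ∈ C := (Subalgebra.mem_centralizer_iff k).mpr (by rintro _ ⟨x, rfl⟩; exact (hb x).symm)
  rw [← heq] at hbC
  exact hbC

end Field

section Local

variable {R : Type u} [CommRing R] [IsLocalRing R]

open IsLocalRing in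
/-- A complex of finite free modules over a local ring which is exact on the special fibre at a split
injection is exact. -/
theorem mem_range_of_fibre {M : Type*} [AddCommGroup M] [Module R M] [Module.Finite R M]
    {A : Type*} [AddCommGroup A] [Module R A] [Module.Finite R A] [Module.Free R A]
    {H : Type*} [AddCommGroup H] [Module R H] [Module.Finite R H] [Module.Free R H]
    (f : M →ₗ[R] A) (g : A →ₗ[R] H) (hgf : g ∘ₗ f = 0) (hf : Function.Injective (f.lTensor (ResidueField R)))
    (hex : ∀ z, g.lTensor (ResidueField R) z = 0 → z ∈ LinearMap.range (f.lTensor (ResidueField R))) :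
    ∀ a, g a = 0 → a ∈ LinearMap.range f := by
  obtain ⟨s, hs⟩ := (split_injective_iff_lTensor_residueField_injective f).mpr hf
  let P : A →ₗ[R] LinearMap.ker s := (LinearMap.id - f ∘ₗ s).codRestrict _ fun a => by
    simp [← LinearMap.comp_apply s f, hs]
  have hP : P ∘ₗ (LinearMap.ker s).subtype = LinearMap.id := LinearMap.ext fun a => Subtype.ext (by simp [P])
  haveI : Module.Finite R (LinearMap.ker s) := Module.Finite.of_surjective P fun a => ⟨a.1, LinearMap.congr_fun hP a⟩
  obtain ⟨t, ht⟩ := (split_injective_iff_lTensor_residueField_injective (g ∘ₗ (LinearMap.ker s).subtype)).mpr (by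
    refine (injective_iff_map_eq_zero _).mpr fun z hz => ?_
    rw [LinearMap.lTensor_comp, LinearMap.comp_apply] at hz
    obtain ⟨y, hy⟩ := hex _ hz
    have hy0 : y = 0 := by
      have h1 := congrArg (s.lTensor (ResidueField R)) hy
      rw [← LinearMap.comp_apply, ← LinearMap.lTensor_comp, hs, LinearMap.lTensor_id, LinearMap.id_apply,
        ← LinearMap.comp_apply, ← LinearMap.lTensor_comp, LinearMap.comp_ker_subtype, LinearMap.lTensor_zero,
        LinearMap.zero_apply] at h1
      exact h1
    rw [hy0, map_zero] at hy
    rw [← LinearMap.id_apply (R := R) z, ← LinearMap.lTensor_id, ← hP, LinearMap.lTensor_comp, LinearMap.comp_apply,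
      ← hy, map_zero])
  intro a ha
  have h0 : P a = 0 := by
    rw [← LinearMap.id_apply (R := R) (P a), ← ht, LinearMap.comp_apply, LinearMap.comp_apply]
    have hga : g ((LinearMap.ker s).subtype (P a)) = 0 := by
      simp [P, ha, ← LinearMap.comp_apply g f, hgf]
    rw [hga, map_zero]
  refine ⟨s a, ?_⟩
  have := congrArg Subtype.val h0
  simp only [P, LinearMap.codRestrict_apply, LinearMap.sub_apply, LinearMap.id_apply, ZeroMemClass.coe_zero,
    LinearMap.comp_apply, sub_eq_zero] at this
  exact this.symm

variable {A : Type v} [Ring A] [Algebra R A]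

open IsLocalRing in
/-- The commutant of a maximal étale subalgebra of an Azumaya algebra over a local ring. -/
theorem mem_range_of_commute_local [IsAzumaya R A] {r : ℕ} (hA : Module.finrank R A = r ^ 2)
    {E : Type w} [CommRing E] [Algebra R E] [Module.Finite R E] [Module.Free R E]
    [Algebra.FormallyEtale R E] (hE : Module.finrank R E = r) (u : E →ₐ[R] A)
    (hu : Function.Injective (u.toLinearMap.lTensor (ResidueField R)))
    (a : A) (ha : ∀ x, a * u x = u x * a) : a ∈ u.range := by
  haveI : Module.Free R A := Module.free_of_flat_of_isLocalRing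
  haveI := isAzumaya_baseChange (R := R) (ResidueField R) A
  haveI := isSimpleRing_of_isAzumaya (k := ResidueField R) (A := ResidueField R ⊗[R] A)
  let g : A →ₗ[R] (E →ₗ[R] A) :=
    (LinearMap.mul R A).compl₂ u.toLinearMap - ((LinearMap.mul R A).flip).compl₂ u.toLinearMap
  have hg : ∀ b x, g b x = b * u x - u x * b := fun b x => rfl
  refine mem_range_of_fibre u.toLinearMap g (LinearMap.ext fun y => LinearMap.ext fun x => ?_) hu (fun z hz => ?_) a
    (LinearMap.ext fun x => by rw [hg, ha, sub_self]; rfl)
  · change g (u y) x = 0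
    rw [hg, ← map_mul, ← map_mul, mul_comm, sub_self]
  · let ubar : ResidueField R ⊗[R] E →ₐ[ResidueField R] ResidueField R ⊗[R] A :=
      Algebra.TensorProduct.map (AlgHom.id _ _) u
    have hcomm : ∀ w, z * ubar w = ubar w * z := fun w => by
      induction w using TensorProduct.induction_on with
      | zero => simp
      | add w w' hw hw' => rw [map_add, mul_add, add_mul, hw, hw']
      | tmul t x =>
        have key : ∀ z : ResidueField R ⊗[R] A,
            (LinearMap.applyₗ (R := R) x).lTensor (ResidueField R) (g.lTensor (ResidueField R) z) =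
              z * ((1 : ResidueField R) ⊗ₜ u x) - ((1 : ResidueField R) ⊗ₜ u x) * z := fun z => by
          induction z using TensorProduct.induction_on with
          | zero => simp
          | add z z' h h' => rw [map_add, map_add, h, h', add_mul, mul_add]; abel
          | tmul s b => simp [hg, TensorProduct.tmul_sub]
        have h0 := key z
        rw [hz, map_zero] at h0
        have h1 : ubar (t ⊗ₜ x) = t • ((1 : ResidueField R) ⊗ₜ[R] u x) := by
          simp [ubar, TensorProduct.smul_tmul']
        rw [h1, mul_smul_comm, smul_mul_assoc, sub_eq_zero.mp h0.symm]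
    obtain ⟨y, hy⟩ := mem_range_of_commute (r := r) (by rw [Module.finrank_baseChange, hA])
      (by rw [Module.finrank_baseChange, hE]) ubar hu z hcomm
    exact ⟨y, hy⟩

end Local

end Groth.L11.Az
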