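import Groth.Agent.L11.Az.Basic
import Groth.Agent.L11.CSA.Skolem
import Mathlib.RingTheory.LocalRing.ResidueField.Ideal
import Mathlib.LinearAlgebra.Dual.Lemmas

/-!
Azumaya algebras over fields and the fibrewise criterion.
-/

set_option autoImplicit false
universe u v w

open scoped TensorProduct

namespace Groth.L11.Az

section Field

variable {k : Type u} [Field k] {A : Type v} [Ring A] [Algebra k A]

theorem isSimpleRing_of_isAzumaya [IsAzumaya k A] : IsSimpleRing A := by
  haveI : Nontrivial A := (FaithfulSMul.algebraMap_injective k A).nontrivial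
  refine IsSimpleRing.of_eq_bot_or_eq_top fun I => or_iff_not_imp_left.mpr fun hI => ?_
  obtain ⟨a, ha, ha0⟩ : ∃ a ∈ I, a ≠ 0 := by
    by_contra h
    push Not at h
    exact hI (eq_bot_iff.mpr fun x hx => (TwoSidedIdeal.mem_bot A).mpr (h x hx))
  have hstab : ∀ x : A ⊗[k] Aᵐᵒᵖ, AlgHom.mulLeftRight k A x a ∈ I := fun x => by
    induction x using TensorProduct.induction_on with
    | zero => simpa using I.zero_mem
    | add x y hx hy => simpa using I.add_mem hx hy
    | tmul b c => simpa using I.mul_mem_right _ _ (I.mul_mem_left _ _ ha)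
  obtain ⟨φ, hφ⟩ := Module.Projective.exists_dual_ne_zero k ha0
  obtain ⟨x, hx⟩ := (IsAzumaya.bij (R := k) (A := A)).2 (LinearMap.smulRight ((φ a)⁻¹ • φ) (1 : A))
  have := hstab x
  rw [hx] at this
  rw [← TwoSidedIdeal.one_mem_iff]
  simpa [hφ] using this

theorem isAzumaya_of_csa [Algebra.IsCentral k A] [IsSimpleRing A] [FiniteDimensional k A] : IsAzumaya k A :=
  haveI : FaithfulSMul k A := (faithfulSMul_iff_algebraMap_injective k A).mpr (algebraMap k A).injective
  { eq_of_smul_eq_smul := FaithfulSMul.eq_of_smul_eq_smul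
    bij := CSA.mulLeftRight_bijective k A }

end Field

variable {R : Type u} [CommRing R]

/-- A finite module vanishes if its base changes to fields over all maximal ideals vanish. -/
theorem subsingleton_of_fields (Q : Type v) [AddCommGroup Q] [Module R Q] [Module.Finite R Q]
    (h : ∀ (m : Ideal R) [m.IsMaximal], ∃ (K : Type w) (_ : Field K) (_ : Algebra R K),
      RingHom.ker (algebraMap R K) = m ∧ Subsingleton (K ⊗[R] Q)) : Subsingleton Q := by
  by_contra hQ
  haveI := not_subsingleton_iff_nontrivial.mp hQ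
  obtain ⟨N, hN, -⟩ := (eq_top_or_exists_le_coatom (⊥ : Submodule R Q)).resolve_left bot_ne_top
  haveI : IsSimpleModule R (Q ⧸ N) := isSimpleModule_iff_isCoatom.mpr hN
  obtain ⟨m, hm, ⟨e⟩⟩ := isSimpleModule_iff_quot_maximal.mp ‹IsSimpleModule R (Q ⧸ N)›
  obtain ⟨K, _, _, hK, _⟩ := @h m hm
  let ψ : R ⧸ m →ₗ[R] K := Submodule.liftQ m (Algebra.linearMap R K) (le_of_eq hK.symm)
  let π : Q →ₗ[R] R ⧸ m := e.toLinearMap.comp N.mkQ
  obtain ⟨x, hx⟩ := e.surjective 1
  obtain ⟨y, rfl⟩ := N.mkQ_surjective x
  have h0 : LinearMap.liftBaseChange K (ψ.comp π) ((1 : K) ⊗ₜ y) = 0 := by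
    rw [Subsingleton.elim ((1 : K) ⊗ₜ[R] y) 0, map_zero]
  rw [LinearMap.liftBaseChange_tmul, one_smul, LinearMap.comp_apply, show π y = Submodule.Quotient.mk 1 from hx] at h0
  rw [Submodule.liftQ_apply, Algebra.linearMap_apply, map_one] at h0
  exact one_ne_zero h0

/-- Fibrewise criterion. -/
theorem isAzumaya_of_fields (B : Type v) [Ring B] [Algebra R B] [Module.Finite R B] [Module.Projective R B]
    (h : ∀ (m : Ideal R) [m.IsMaximal], ∃ (K : Type w) (_ : Field K) (_ : Algebra R K),
      RingHom.ker (algebraMap R K) = m ∧ IsAzumaya K (K ⊗[R] B)) : IsAzumaya R B := by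
  haveI : FaithfulSMul R B := by
    let ev : Module.Dual R B →ₗ[R] R := LinearMap.applyₗ (1 : B)
    set I : Ideal R := LinearMap.range ev with hI
    suffices h : I = ⊤ by
      obtain ⟨f, hf⟩ : (1 : R) ∈ I := h ▸ trivial
      exact faithfulSMul_of_retraction f hf
    by_contra hne
    obtain ⟨m, hm, hIm⟩ := Ideal.exists_le_maximal I hne
    obtain ⟨K, _, _, hK, _⟩ := @h m hm
    obtain ⟨n, p, i, -, -, hpi⟩ := Module.Finite.exists_comp_eq_id_of_projective R B
    have h1 : (1 : K ⊗[R] B) = 0 := by
      rw [Algebra.TensorProduct.one_def, show (1 : B) = p (i 1) from (DFunLike.congr_fun hpi 1).symm,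
        pi_eq_sum_univ' (i 1), map_sum, TensorProduct.tmul_sum]
      refine Finset.sum_eq_zero fun j _ => ?_
      have h2 : algebraMap R K (i 1 j) = 0 := by
        rw [← RingHom.mem_ker, hK]
        exact hIm ⟨(LinearMap.proj j).comp i, rfl⟩
      rw [map_smul, TensorProduct.tmul_smul, TensorProduct.smul_tmul', Algebra.smul_def, h2, zero_mul,
        TensorProduct.zero_tmul]
    haveI : Nontrivial (K ⊗[R] B) := (FaithfulSMul.algebraMap_injective K (K ⊗[R] B)).nontrivial
    exact one_ne_zero h1
  set f := (AlgHom.mulLeftRight R B).toLinearMap with hf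
  have hb : ∀ (m : Ideal R) [m.IsMaximal], ∃ (K : Type w) (_ : Field K) (_ : Algebra R K),
      RingHom.ker (algebraMap R K) = m ∧ Function.Bijective (f.baseChange K) := fun m _ => by
    obtain ⟨K, _, _, hK, _⟩ := h m
    exact ⟨K, _, _, hK, (bijective_iff (R := R) K B).mp IsAzumaya.bij⟩
  obtain ⟨_, _⟩ := projective_end (R := R) B
  haveI : Module.Finite R (B ⊗[R] Bᵐᵒᵖ) := inferInstance
  have hsurj : Function.Surjective f := by
    rw [← LinearMap.range_eq_top, ← Submodule.Quotient.subsingleton_iff]
    refine subsingleton_of_fields.{u, v, w} (R := R) _ fun m _ => ?_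
    obtain ⟨K, _, _, hK, hbij⟩ := hb m
    refine ⟨K, _, _, hK, subsingleton_of_forall_eq 0 fun x => ?_⟩
    obtain ⟨y, rfl⟩ := LinearMap.lTensor_surjective K (LinearMap.range f).mkQ_surjective x
    obtain ⟨z, rfl⟩ := hbij.2 y
    rw [← LinearMap.baseChange_eq_ltensor (A := K), ← LinearMap.comp_apply, ← LinearMap.baseChange_comp,
      LinearMap.range_mkQ_comp, LinearMap.baseChange_zero, LinearMap.zero_apply]
  obtain ⟨g, hg⟩ := Module.projective_lifting_property f LinearMap.id hsurj
  have hinj : Function.Injective f := by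
    let P : (B ⊗[R] Bᵐᵒᵖ) →ₗ[R] LinearMap.ker f := (LinearMap.id - g.comp f).codRestrict _ fun x => by
      simp [← LinearMap.comp_apply f g, hg]
    have hP : P.comp (LinearMap.ker f).subtype = LinearMap.id :=
      LinearMap.ext fun x => Subtype.ext (by simp [P])
    haveI : Module.Finite R (LinearMap.ker f) := Module.Finite.of_surjective P fun x => ⟨x.1, LinearMap.congr_fun hP x⟩
    haveI : Subsingleton (LinearMap.ker f) := by
      refine subsingleton_of_fields.{u, v, w} (R := R) _ fun m _ => ?_
      obtain ⟨K, _, _, hK, hbij⟩ := hb m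
      refine ⟨K, _, _, hK, subsingleton_of_forall_eq 0 fun x => ?_⟩
      have h0 : (LinearMap.ker f).subtype.baseChange K x = 0 := hbij.1 (by
        rw [← LinearMap.comp_apply, ← LinearMap.baseChange_comp, LinearMap.comp_ker_subtype,
          LinearMap.baseChange_zero, LinearMap.zero_apply, map_zero])
      rw [← LinearMap.id_apply (R := K) x, ← LinearMap.baseChange_id, ← hP, LinearMap.baseChange_comp,
        LinearMap.comp_apply, h0, map_zero]
    exact LinearMap.ker_eq_bot.mp (Submodule.eq_bot_of_subsingleton)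
  exact { bij := ⟨hinj, hsurj⟩ }

theorem isAzumaya_iff_residueField (B : Type v) [Ring B] [Algebra R B] [Module.Finite R B] [Module.Projective R B] :
    IsAzumaya R B ↔ ∀ (p : Ideal R) [p.IsPrime],
      Algebra.IsCentral p.ResidueField (p.ResidueField ⊗[R] B) ∧ IsSimpleRing (p.ResidueField ⊗[R] B) := by
  constructor
  · intro _ p _
    haveI := isAzumaya_baseChange (R := R) p.ResidueField B
    exact ⟨inferInstance, isSimpleRing_of_isAzumaya (k := p.ResidueField)⟩
  · intro h
    refine isAzumaya_of_fields.{u, v, u} B fun m _ => ?_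
    obtain ⟨_, _⟩ := h m
    exact ⟨m.ResidueField, inferInstance, inferInstance, Ideal.ker_algebraMap_residueField m, isAzumaya_of_csa⟩

theorem isAzumaya_iff_residueField_local [IsLocalRing R] (B : Type v) [Ring B] [Algebra R B] [Module.Finite R B]
    [Module.Projective R B] :
    IsAzumaya R B ↔ Algebra.IsCentral (IsLocalRing.ResidueField R) (IsLocalRing.ResidueField R ⊗[R] B) ∧
      IsSimpleRing (IsLocalRing.ResidueField R ⊗[R] B) := by
  constructor
  · intro _
    haveI := isAzumaya_baseChange (R := R) (IsLocalRing.ResidueField R) B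
    exact ⟨inferInstance, isSimpleRing_of_isAzumaya (k := IsLocalRing.ResidueField R)⟩
  · rintro ⟨_, _⟩
    refine isAzumaya_of_fields.{u, v, u} B fun m hm => ?_
    refine ⟨IsLocalRing.ResidueField R, inferInstance, inferInstance, ?_, isAzumaya_of_csa⟩
    rw [IsLocalRing.eq_maximalIdeal hm]
    exact IsLocalRing.ker_residue

end Groth.L11.Az
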