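import Groth.Prelude.Def_W4c4lgringredgrpLG
import Groth.Agent.L11.Az.Fibre
import Mathlib.RingTheory.Spectrum.Prime.FreeLocus
import Mathlib.RingTheory.LocalRing.ResidueField.Ideal
import Mathlib.RingTheory.SimpleModule.Isotypic
import Mathlib.RingTheory.SimpleRing.Matrix
import Mathlib.LinearAlgebra.Matrix.Determinant.Basic
import Mathlib.RingTheory.OrzechProperty

/-!
Projective modules over Azumaya algebras over LG-rings.
-/

set_option autoImplicit false
universe u v w w'

open scoped TensorProduct

namespace Groth.L11.LG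

variable {R : Type u} [CommRing R]

theorem residue_surjective (m : Ideal R) [m.IsMaximal] : Function.Surjective (algebraMap R m.ResidueField) := by
  intro x
  obtain ⟨y, hy⟩ := m.bijective_algebraMap_quotient_residueField.surjective x
  obtain ⟨r, rfl⟩ := Ideal.Quotient.mk_surjective y
  exact ⟨r, hy⟩

/-- In an LG-ring a linearly parametrised family of maps contains a surjection as soon as it does at every
maximal ideal. -/
theorem exists_surjective (hR : LGRing.IsLGRing R) {M : Type v} [AddCommGroup M] [Module R M] [Module.Finite R M]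
    {N : Type w} [AddCommGroup N] [Module R N] [Module.Finite R N] [Module.Projective R N]
    {τ : Type w'} [Fintype τ] (ρ : (τ → R) →ₗ[R] (M →ₗ[R] N))
    (h : ∀ (m : Ideal R) [m.IsMaximal], ∃ s, Function.Surjective ((ρ s).baseChange m.ResidueField)) :
    ∃ s, Function.Surjective (ρ s) := by
  classical
  obtain ⟨a, pM, hpM⟩ := Module.Finite.exists_fin' R M
  obtain ⟨q, π, ι, -, -, hπι⟩ := Module.Finite.exists_comp_eq_id_of_projective R N
  have hπι' : ∀ y, π (ι y) = y := fun y => DFunLike.congr_fun hπι y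
  -- `G s b = ι (ρ s (pM b.1)) + (b.2 - ι (π b.2))`
  let G : (τ → R) → ((Fin a → R) × (Fin q → R)) →ₗ[R] (Fin q → R) := fun s =>
    (ι ∘ₗ ρ s ∘ₗ pM).coprod (LinearMap.id - ι ∘ₗ π)
  let c₁ : τ → Fin a → Fin q → R := fun t l i => ι (ρ (Pi.single t 1) (pM (Pi.single l 1))) i
  let c₀ : Fin q → Fin q → R := fun l i => (Pi.single l (1 : R) : Fin q → R) i - ι (π (Pi.single l 1)) i
  have hG : ∀ s b i, G s b i =
      ∑ t, ∑ l, s t * b.1 l * c₁ t l i + ∑ l, b.2 l * c₀ l i := by
    intro s b i
    simp only [G, LinearMap.coprod_apply, LinearMap.comp_apply, Pi.add_apply, LinearMap.sub_apply,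
      LinearMap.id_apply, Pi.sub_apply]
    congr 1
    · conv_lhs => rw [pi_eq_sum_univ' s, pi_eq_sum_univ' b.1]
      simp only [map_sum, map_smul, LinearMap.sum_apply, LinearMap.smul_apply, Finset.sum_apply, Pi.smul_apply,
        smul_eq_mul, c₁]
      rw [Finset.sum_comm]
      exact Finset.sum_congr rfl fun t _ => by rw [Finset.mul_sum]; exact Finset.sum_congr rfl fun l _ => by ring
    · conv_lhs => rw [pi_eq_sum_univ' b.2]
      simp only [map_sum, map_smul, Finset.sum_apply, Pi.smul_apply, smul_eq_mul, c₀, mul_sub, Finset.sum_sub_distrib]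
  -- the determinant polynomial
  let σ := τ ⊕ ((Fin a ⊕ Fin q) × Fin q)
  let M' : Matrix (Fin q) (Fin q) (MvPolynomial σ R) := fun i j =>
    ∑ t, ∑ l, MvPolynomial.X (Sum.inl t) * MvPolynomial.X (Sum.inr (Sum.inl l, j)) * MvPolynomial.C (c₁ t l i) +
      ∑ l, MvPolynomial.X (Sum.inr (Sum.inr l, j)) * MvPolynomial.C (c₀ l i)
  let col : (σ → R) → Fin q → (Fin a → R) × (Fin q → R) := fun v j =>
    (fun l => v (Sum.inr (Sum.inl l, j)), fun l => v (Sum.inr (Sum.inr l, j)))
  have hev : ∀ v : σ → R, MvPolynomial.aeval v M'.det =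
      (Matrix.of fun i j => G (v ∘ Sum.inl) (col v j) i).det := fun v => by
    rw [AlgHom.map_det]
    congr 1
    ext i j
    simp [M', hG, col]
  let n := Fintype.card σ
  let eσ : σ ≃ Fin n := Fintype.equivFin σ
  obtain ⟨w, hw⟩ := hR n (MvPolynomial.rename eσ M'.det) fun m hm => by
    haveI := hm
    obtain ⟨s, hs⟩ := h m
    let κ := m.ResidueField
    have hcol : ∀ j : Fin q, ∃ b : (Fin a → R) × (Fin q → R),
        ∀ i, algebraMap R κ (G s b i) = algebraMap R κ ((Pi.single j 1 : Fin q → R) i) := fun j => by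
      obtain ⟨z, hz⟩ := hs ((1 : κ) ⊗ₜ[R] π (Pi.single j 1))
      obtain ⟨x, rfl⟩ := TensorProduct.mk_surjective R M κ (residue_surjective m) z
      obtain ⟨y, rfl⟩ := hpM x
      refine ⟨(y, Pi.single j 1), fun i => ?_⟩
      have := congrArg (fun u => TensorProduct.AlgebraTensorModule.rid R κ κ
        (((LinearMap.proj i) ∘ₗ ι).baseChange κ u)) hz
      simp only [TensorProduct.mk_apply, LinearMap.baseChange_tmul, LinearMap.comp_apply, LinearMap.proj_apply,
        TensorProduct.AlgebraTensorModule.rid_tmul, ← Algebra.algebraMap_eq_smul_one] at this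
      simp only [G, LinearMap.coprod_apply, LinearMap.comp_apply, Pi.add_apply, LinearMap.sub_apply,
        LinearMap.id_apply, Pi.sub_apply, map_add, map_sub, this]
      ring
    choose b hb using hcol
    let v : σ → R := Sum.elim s fun x => Sum.elim (fun l => (b x.2).1 l) (fun l => (b x.2).2 l) x.1
    refine ⟨fun i => Ideal.Quotient.mk m (v (eσ.symm i)), ?_⟩
    rw [MvPolynomial.aeval_rename]
    have e1 : ((fun i => Ideal.Quotient.mk m (v (eσ.symm i))) ∘ eσ) = fun x => algebraMap R (R ⧸ m) (v x) :=
      funext fun x => by simp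
    rw [e1, show (fun x => algebraMap R (R ⧸ m) (v x)) = (algebraMap R (R ⧸ m)) ∘ v from rfl,
      MvPolynomial.aeval_algebraMap_apply, hev]
    letI := Ideal.Quotient.field m
    refine isUnit_iff_ne_zero.mpr fun h0 => ?_
    have h1 : (Matrix.of fun i j => G (v ∘ Sum.inl) (col v j) i).det ∈ m := Ideal.Quotient.eq_zero_iff_mem.mp h0
    rw [← Ideal.ker_algebraMap_residueField m, RingHom.mem_ker, RingHom.map_det] at h1
    have e2 : (algebraMap R κ).mapMatrix (Matrix.of fun i j => G (v ∘ Sum.inl) (col v j) i) = 1 := by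
      ext i j
      rw [RingHom.mapMatrix_apply, Matrix.map_apply, Matrix.of_apply]
      change algebraMap R κ (G s (b j) i) = _
      rw [hb]
      simp [Matrix.one_apply, Pi.single_apply, apply_ite (algebraMap R κ)]
    rw [e2, Matrix.det_one] at h1
    exact one_ne_zero h1
  rw [MvPolynomial.aeval_rename, hev] at hw
  set v := w ∘ eσ
  refine ⟨v ∘ Sum.inl, fun y => ?_⟩
  obtain ⟨Binv, hB⟩ := (Matrix.isUnit_iff_isUnit_det _).mpr hw
  obtain ⟨c, hc⟩ : ∃ c : Fin q → R, ∀ i, ι y i = ∑ j, G (v ∘ Sum.inl) (col v j) i * c j :=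
    ⟨((Binv⁻¹ : (Matrix (Fin q) (Fin q) R)ˣ) : Matrix (Fin q) (Fin q) R).mulVec (ι y), fun i => by
      have : (Binv : Matrix (Fin q) (Fin q) R).mulVec
          (((Binv⁻¹ : (Matrix (Fin q) (Fin q) R)ˣ) : Matrix (Fin q) (Fin q) R).mulVec (ι y)) = ι y := by
        rw [Matrix.mulVec_mulVec, Units.mul_inv, Matrix.one_mulVec]
      conv_lhs => rw [← this, hB]
      rfl⟩
  have hy : ι y = G (v ∘ Sum.inl) (∑ j, c j • col v j) := funext fun i => by
    rw [hc, map_sum, Finset.sum_apply]
    exact Finset.sum_congr rfl fun j _ => by rw [map_smul, Pi.smul_apply, smul_eq_mul, mul_comm]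
  have := congrArg π hy
  simp only [G, LinearMap.coprod_apply, LinearMap.comp_apply, LinearMap.sub_apply, LinearMap.id_apply, map_add, map_sub,
    hπι', sub_self, add_zero] at this
  exact ⟨_, this.symm⟩

/-- Over a simple artinian algebra, dimension decides quotients. -/
theorem exists_surjective_of_finrank_le {k : Type u} [Field k] {B : Type v} [Ring B] [Algebra k B] [IsSimpleRing B]
    [FiniteDimensional k B] {M : Type w} [AddCommGroup M] [Module k M] [Module B M] [IsScalarTower k B M]
    [FiniteDimensional k M] {N : Type w'} [AddCommGroup N] [Module k N] [Module B N] [IsScalarTower k B N]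
    [FiniteDimensional k N] (h : Module.finrank k N ≤ Module.finrank k M) :
    ∃ f : M →ₗ[B] N, Function.Surjective f := by
  haveI : IsArtinianRing B := isArtinian_of_tower k inferInstance
  haveI : Module.Finite B M := Module.Finite.of_restrictScalars_finite k B M
  haveI : Module.Finite B N := Module.Finite.of_restrictScalars_finite k B N
  rcases subsingleton_or_nontrivial N with hN | hN
  · exact ⟨0, fun y => ⟨0, Subsingleton.elim _ _⟩⟩
  haveI : Nontrivial M := Module.nontrivial_of_finrank_pos (R := k) (lt_of_lt_of_le Module.finrank_pos h)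
  have hiso := IsSimpleRing.isIsotypic B B
  obtain ⟨m, _, S, _, ⟨e⟩⟩ := (IsIsotypic.of_self (M := M) hiso).linearEquiv_fun
  obtain ⟨n, _, T, _, ⟨f⟩⟩ := (IsIsotypic.of_self (M := N) hiso).linearEquiv_fun
  haveI : IsSemisimpleRing B := inferInstance
  obtain ⟨T', hT⟩ : ∃ T' : Submodule B B, Nonempty (T ≃ₗ[B] T') := by
    haveI := IsSimpleModule.nontrivial B T
    obtain ⟨x, hx⟩ := exists_ne (0 : T)
    exact LinearMap.linearEquiv_of_ne_zero (f := LinearMap.toSpanSingleton B T x) fun h0 => hx (by
      simpa using DFunLike.congr_fun h0 1)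
  obtain ⟨S', hS⟩ : ∃ S' : Submodule B B, Nonempty (S ≃ₗ[B] S') := by
    haveI := IsSimpleModule.nontrivial B S
    obtain ⟨x, hx⟩ := exists_ne (0 : S)
    exact LinearMap.linearEquiv_of_ne_zero (f := LinearMap.toSpanSingleton B S x) fun h0 => hx (by
      simpa using DFunLike.congr_fun h0 1)
  obtain ⟨eS⟩ := hS
  obtain ⟨eT⟩ := hT
  haveI : IsSimpleModule B S' := IsSimpleModule.congr eS.symm
  haveI : IsSimpleModule B T' := IsSimpleModule.congr eT.symm
  obtain ⟨eST⟩ := hiso S' T'
  haveI : FiniteDimensional k S := Module.Finite.equiv (eS.restrictScalars k).symm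
  haveI : FiniteDimensional k T := Module.Finite.equiv (eT.restrictScalars k).symm
  let g : T ≃ₗ[B] S := eT.trans (eST.trans eS.symm)
  have hd : n * Module.finrank k S ≤ m * Module.finrank k S := by
    rw [(e.restrictScalars k).finrank_eq, (f.restrictScalars k).finrank_eq, Module.finrank_pi_fintype,
      Module.finrank_pi_fintype, (g.restrictScalars k).finrank_eq] at h
    simpa using h
  haveI : Nontrivial S := IsSimpleModule.nontrivial B S
  have hnm : n ≤ m := Nat.le_of_mul_le_mul_right hd Module.finrank_pos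
  refine ⟨f.symm.toLinearMap ∘ₗ (LinearEquiv.piCongrRight fun _ => g.symm).toLinearMap ∘ₗ
    (LinearMap.funLeft B S (Fin.castLE hnm)) ∘ₗ e.toLinearMap, ?_⟩
  simp only [LinearMap.coe_comp, LinearEquiv.coe_coe]
  exact f.symm.surjective.comp ((LinearEquiv.surjective _).comp
    ((LinearMap.funLeft_surjective_of_injective B S _ (Fin.castLE_injective hnm)).comp e.surjective))

variable {A : Type v} [Ring A] [Algebra R A] [IsAzumaya R A]

/-- Over an LG-ring, rank decides quotients of projective modules over an Azumaya algebra. -/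
theorem exists_surjective_module (hR : LGRing.IsLGRing R)
    (M : Type w) (N : Type w') [AddCommGroup M] [Module A M] [Module R M] [IsScalarTower R A M] [Module.Finite A M]
    [Module.Projective A M] [AddCommGroup N] [Module A N] [Module R N] [IsScalarTower R A N] [Module.Finite A N]
    [Module.Projective A N] (h : ∀ p : PrimeSpectrum R, Module.rankAtStalk N p ≤ Module.rankAtStalk M p) :
    ∃ f : M →ₗ[A] N, Function.Surjective f := by
  classical
  haveI : Module.Finite R M := Module.Finite.trans A M
  haveI : Module.Finite R N := Module.Finite.trans A N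
  haveI : ∀ j : ℕ, Module.Projective R (Fin j → A) := fun j =>
    Module.Projective.of_equiv ((finsuppLEquivDirectSum R A (Fin j)).symm.trans
      (Finsupp.linearEquivFunOnFinite R A (Fin j)))
  obtain ⟨_, pA, iA, -, -, hA⟩ := Module.Finite.exists_comp_eq_id_of_projective A M
  haveI hMproj : Module.Projective R M := Module.Projective.of_split (iA.restrictScalars R) (pA.restrictScalars R)
    (LinearMap.ext fun x => DFunLike.congr_fun hA x)
  obtain ⟨_, pB, iB, -, -, hB⟩ := Module.Finite.exists_comp_eq_id_of_projective A N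
  haveI hNproj : Module.Projective R N := Module.Projective.of_split (iB.restrictScalars R) (pB.restrictScalars R)
    (LinearMap.ext fun x => DFunLike.congr_fun hB x)
  obtain ⟨k, gen, hgen⟩ := Module.Finite.exists_fin (R := R) (M := N)
  obtain ⟨q, pM, iM, -, -, hpi⟩ := Module.Finite.exists_comp_eq_id_of_projective A M
  let Ψ : (Fin q × Fin k → R) →ₗ[R] (M →ₗ[A] N) :=
    { toFun := fun s => (Fintype.linearCombination A fun j => ∑ l, s (j, l) • gen l) ∘ₗ iM
      map_add' := fun s s' => LinearMap.ext fun x => by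
        simp [Fintype.linearCombination_apply, add_smul, Finset.sum_add_distrib]
      map_smul' := fun r s => LinearMap.ext fun x => by
        simp [Fintype.linearCombination_apply, Finset.smul_sum, mul_smul, smul_comm r] }
  have hΨ : ∀ f : M →ₗ[A] N, ∃ s, Ψ s = f := fun f => by
    choose s hs using fun j : Fin q => (Submodule.mem_span_range_iff_exists_fun R).mp
      (show f (pM (Pi.single j 1)) ∈ Submodule.span R (Set.range gen) by rw [hgen]; trivial)
    refine ⟨fun x => s x.1 x.2, LinearMap.ext fun x => ?_⟩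
    change Fintype.linearCombination A _ (iM x) = f x
    conv_rhs => rw [show x = pM (iM x) from (DFunLike.congr_fun hpi x).symm, pi_eq_sum_univ' (iM x)]
    simp [Fintype.linearCombination_apply, hs]
  suffices hρ : ∀ (m : Ideal R) [m.IsMaximal], ∃ s, Function.Surjective
      ((((LinearMap.restrictScalarsₗ R A M N R).comp Ψ) s).baseChange m.ResidueField) by
    obtain ⟨s, hs⟩ := exists_surjective hR ((LinearMap.restrictScalarsₗ R A M N R).comp Ψ) hρ
    exact ⟨Ψ s, hs⟩
  intro m _
  let κ := m.ResidueField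
  haveI := Az.isAzumaya_baseChange (R := R) κ A
  haveI := Az.isSimpleRing_of_isAzumaya (k := κ) (A := κ ⊗[R] A)
  let actM : A →ₐ[R] Module.End κ (κ ⊗[R] M) :=
    { toFun := fun a => (Algebra.lsmul R R M a).baseChange κ
      map_one' := by rw [map_one, LinearMap.baseChange_one]
      map_mul' := fun a b => by rw [map_mul, LinearMap.baseChange_mul]
      map_zero' := by rw [map_zero, LinearMap.baseChange_zero]
      map_add' := fun a b => by rw [map_add, LinearMap.baseChange_add]
      commutes' := fun r => TensorProduct.AlgebraTensorModule.ext fun c x => by simp [TensorProduct.smul_tmul'] }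
  let actN : A →ₐ[R] Module.End κ (κ ⊗[R] N) :=
    { toFun := fun a => (Algebra.lsmul R R N a).baseChange κ
      map_one' := by rw [map_one, LinearMap.baseChange_one]
      map_mul' := fun a b => by rw [map_mul, LinearMap.baseChange_mul]
      map_zero' := by rw [map_zero, LinearMap.baseChange_zero]
      map_add' := fun a b => by rw [map_add, LinearMap.baseChange_add]
      commutes' := fun r => TensorProduct.AlgebraTensorModule.ext fun c x => by simp [TensorProduct.smul_tmul'] }
  let ΘM : κ ⊗[R] A →ₐ[κ] Module.End κ (κ ⊗[R] M) :=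
    Algebra.TensorProduct.lift (Algebra.ofId κ _) actM fun c _ => Algebra.commutes c _
  let ΘN : κ ⊗[R] A →ₐ[κ] Module.End κ (κ ⊗[R] N) :=
    Algebra.TensorProduct.lift (Algebra.ofId κ _) actN fun c _ => Algebra.commutes c _
  letI : Module (κ ⊗[R] A) (κ ⊗[R] M) := Module.compHom _ ΘM.toRingHom
  letI : Module (κ ⊗[R] A) (κ ⊗[R] N) := Module.compHom _ ΘN.toRingHom
  haveI : IsScalarTower κ (κ ⊗[R] A) (κ ⊗[R] M) := ⟨fun c z x => by
    change ΘM (c • z) x = c • ΘM z x
    rw [map_smul]; rfl⟩
  haveI : IsScalarTower κ (κ ⊗[R] A) (κ ⊗[R] N) := ⟨fun c z x => by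
    change ΘN (c • z) x = c • ΘN z x
    rw [map_smul]; rfl⟩
  obtain ⟨f, hf⟩ := exists_surjective_of_finrank_le (k := κ) (B := κ ⊗[R] A) (M := κ ⊗[R] M) (N := κ ⊗[R] N) (by
    have := h ⟨m, Ideal.IsMaximal.isPrime' m⟩
    rwa [Module.rankAtStalk_eq, Module.rankAtStalk_eq] at this)
  -- lift along `N → κ ⊗ N`
  letI : Module A (κ ⊗[R] N) := Module.compHom _ actN.toRingHom
  let mkN : N →ₗ[A] κ ⊗[R] N :=
    { toFun := fun y => (1 : κ) ⊗ₜ[R] y
      map_add' := fun y y' => TensorProduct.tmul_add _ _ _
      map_smul' := fun a y => by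
        change _ = ((Algebra.lsmul R R N a).baseChange κ) ((1 : κ) ⊗ₜ[R] y)
        simp }
  let fM : M →ₗ[A] κ ⊗[R] N :=
    { toFun := fun x => f ((1 : κ) ⊗ₜ[R] x)
      map_add' := fun x x' => by rw [TensorProduct.tmul_add, map_add]
      map_smul' := fun a x => by
        have h1 : ((1 : κ) ⊗ₜ[R] a : κ ⊗[R] A) • ((1 : κ) ⊗ₜ[R] x : κ ⊗[R] M) = (1 : κ) ⊗ₜ[R] (a • x) := by
          change ΘM _ _ = _
          simp [ΘM, actM]
        rw [← h1, map_smul]
        change ΘN _ _ = actN a _
        simp [ΘN] }
  obtain ⟨g, hg⟩ := Module.projective_lifting_property mkN fM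
    (TensorProduct.mk_surjective R N κ (residue_surjective m))
  obtain ⟨s, hs⟩ := hΨ g
  refine ⟨s, ?_⟩
  have heq : ∀ z, ((LinearMap.restrictScalarsₗ R A M N R).comp Ψ s).baseChange κ z = f z := fun z => by
    induction z using TensorProduct.induction_on with
    | zero => simp
    | add z z' h h' => rw [map_add, map_add, h, h']
    | tmul c x =>
      rw [show c ⊗ₜ[R] x = c • ((1 : κ) ⊗ₜ[R] x) by rw [TensorProduct.smul_tmul', smul_eq_mul, mul_one], map_smul,
        LinearMap.baseChange_tmul]
      rw [show (LinearMap.restrictScalarsₗ R A M N R).comp Ψ s x = g x by rw [← hs]; rfl,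
        show (1 : κ) ⊗ₜ[R] g x = f ((1 : κ) ⊗ₜ[R] x) from LinearMap.congr_fun hg x]
      exact (f.map_smul_of_tower c _).symm
  exact fun y => by
    obtain ⟨z, rfl⟩ := hf y
    exact ⟨z, heq z⟩

/-- Equal ranks give isomorphic modules. -/
theorem nonempty_linearEquiv (hR : LGRing.IsLGRing R)
    (M : Type w) (N : Type w') [AddCommGroup M] [Module A M] [Module R M] [IsScalarTower R A M] [Module.Finite A M]
    [Module.Projective A M] [AddCommGroup N] [Module A N] [Module R N] [IsScalarTower R A N] [Module.Finite A N]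
    [Module.Projective A N] (h : ∀ p : PrimeSpectrum R, Module.rankAtStalk N p = Module.rankAtStalk M p) :
    Nonempty (M ≃ₗ[A] N) := by
  obtain ⟨f, hf⟩ := exists_surjective_module (R := R) (A := A) hR M N fun p => (h p).le
  obtain ⟨g, hg⟩ := exists_surjective_module (R := R) (A := A) hR N M fun p => (h p).ge
  haveI : Module.Finite R M := Module.Finite.trans A M
  have := OrzechProperty.injective_of_surjective_endomorphism ((g ∘ₗ f).restrictScalars R) (hg.comp hf)
  exact ⟨LinearEquiv.ofBijective f ⟨Function.Injective.of_comp this, hf⟩⟩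

end Groth.L11.LG
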