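import Groth.Agent.L11.Az.LG
import Groth.Agent.L11.Az.Basic
import Mathlib.RingTheory.MatrixAlgebra
import Mathlib.LinearAlgebra.Contraction
import Mathlib.RingTheory.Support

/-!
Cancellation over LG-rings.
-/

set_option autoImplicit false
universe u v w w'

open scoped TensorProduct

namespace Groth.L11.LG

variable {R : Type u} [CommRing R]

theorem rankAtStalk_pos (M : Type v) [AddCommGroup M] [Module R M] [Module.Finite R M] [Module.Projective R M]
    [FaithfulSMul R M] (p : PrimeSpectrum R) : 0 < Module.rankAtStalk M p := by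
  rw [Module.rankAtStalk_pos_iff_mem_support, Module.support_eq_zeroLocus,
    Module.annihilator_eq_bot.mpr inferInstance]
  simp

/-- A faithfully projective module over an LG-ring has a unimodular element. -/
theorem exists_unimodular (hR : LGRing.IsLGRing R) (M : Type v) [AddCommGroup M] [Module R M] [Module.Finite R M]
    [Module.Projective R M] [FaithfulSMul R M] : ∃ (m : M) (f : Module.Dual R M), f m = 1 := by
  obtain ⟨f, hf⟩ := exists_surjective_module (R := R) (A := R) hR M R fun p => by
    haveI : Nontrivial R := ⟨⟨0, 1, fun h => p.2.ne_top (Ideal.eq_top_iff_one _ |>.mpr (h ▸ p.1.zero_mem))⟩⟩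
    rw [Module.rankAtStalk_self]
    exact rankAtStalk_pos M p
  obtain ⟨m, hm⟩ := hf 1
  exact ⟨m, f, hm⟩

theorem rankAtStalk_end (P : Type v) [AddCommGroup P] [Module R P] [Module.Finite R P] [Module.Projective R P]
    (p : PrimeSpectrum R) :
    Module.rankAtStalk (Module.End R P) p = Module.rankAtStalk P p * Module.rankAtStalk P p := by
  obtain ⟨_, _⟩ := Az.projective_end (R := R) P
  rw [Module.rankAtStalk_eq, Module.rankAtStalk_eq,
    (LinearEquiv.ofBijective _ (Az.endBC_bijective (R := R) p.asIdeal.ResidueField P)).finrank_eq,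
    Module.finrank_linearMap]

section main

variable (hR : LGRing.IsLGRing R) (A : Type v) (B : Type v) [Ring A] [Algebra R A] [IsAzumaya R A] [Ring B]
  [Algebra R B] [IsAzumaya R B]
  (P : Type w) [AddCommGroup P] [Module R P] [Module.Finite R P] [Module.Projective R P] [FaithfulSMul R P]
  (Q : Type w') [AddCommGroup Q] [Module R Q] [Module.Finite R Q] [Module.Projective R Q] [FaithfulSMul R Q]
  (e : A ⊗[R] Module.End R P ≃ₐ[R] B ⊗[R] Module.End R Q)

include e in
/-- The ranks in an isomorphism `A ⊗ End P ≃ B ⊗ End Q`. -/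
theorem rank_relation (p : PrimeSpectrum R) :
    Module.rankAtStalk A p * (Module.rankAtStalk P p * Module.rankAtStalk P p) =
      Module.rankAtStalk B p * (Module.rankAtStalk Q p * Module.rankAtStalk Q p) := by
  obtain ⟨_, _⟩ := Az.projective_end (R := R) P
  obtain ⟨_, _⟩ := Az.projective_end (R := R) Q
  have := congrFun (Module.rankAtStalk_eq_of_equiv e.toLinearEquiv) p
  rwa [Module.rankAtStalk_tensorProduct, Module.rankAtStalk_tensorProduct, Pi.mul_apply, Pi.mul_apply,
    rankAtStalk_end, rankAtStalk_end] at this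

include hR e in
/-- Brauer equivalent Azumaya algebras of the same degree over an LG-ring are isomorphic. -/
theorem nonempty_algEquiv (hdeg : ∀ p : PrimeSpectrum R, Module.rankAtStalk A p = Module.rankAtStalk B p) :
    Nonempty (A ≃ₐ[R] B) := by
  classical
  have hrank : ∀ p : PrimeSpectrum R, Module.rankAtStalk P p = Module.rankAtStalk Q p := fun p => by
    have := rank_relation A B P Q e p
    rw [hdeg] at this
    exact Nat.mul_self_inj.mp (Nat.eq_of_mul_eq_mul_left (rankAtStalk_pos B p) this)
  obtain ⟨_, _⟩ := Az.projective_end (R := R) P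
  obtain ⟨_, _⟩ := Az.projective_end (R := R) Q
  haveI := Az.isAzumaya_end (R := R) Q
  haveI := Az.isAzumaya_tensor (R := R) B (Module.End R Q)
  obtain ⟨mP, fP, hP⟩ := exists_unimodular hR P
  obtain ⟨mQ, fQ, hQ⟩ := exists_unimodular hR Q
  let jA : A →ₗ[R] B ⊗[R] Module.End R Q :=
    e.toLinearMap ∘ₗ (TensorProduct.mk R A (Module.End R P)).flip (fP.smulRight mP)
  let jB : B →ₗ[R] B ⊗[R] Module.End R Q := (TensorProduct.mk R B (Module.End R Q)).flip (fQ.smulRight mQ)
  let evP : B ⊗[R] Module.End R Q →ₗ[R] A :=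
    (TensorProduct.rid R A).toLinearMap ∘ₗ
      (fP ∘ₗ LinearMap.applyₗ mP).lTensor A ∘ₗ e.symm.toLinearMap
  let evQ : B ⊗[R] Module.End R Q →ₗ[R] B :=
    (TensorProduct.rid R B).toLinearMap ∘ₗ (fQ ∘ₗ LinearMap.applyₗ mQ).lTensor B
  have hpP : ∀ g : Module.End R P, fP.smulRight mP * g * fP.smulRight mP = fP (g mP) • fP.smulRight mP :=
    fun g => LinearMap.ext fun x => by simp [mul_comm, smul_smul]
  have hpQ : ∀ g : Module.End R Q, fQ.smulRight mQ * g * fQ.smulRight mQ = fQ (g mQ) • fQ.smulRight mQ :=
    fun g => LinearMap.ext fun x => by simp [mul_comm, smul_smul]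
  have hpP2 : fP.smulRight mP * fP.smulRight mP = fP.smulRight mP := LinearMap.ext fun x => by simp [hP]
  have hpQ2 : fQ.smulRight mQ * fQ.smulRight mQ = fQ.smulRight mQ := LinearMap.ext fun x => by simp [hQ]
  have hjA : ∀ a b, jA (a * b) = jA a * jA b := fun a b => by
    simp [jA, ← map_mul, Algebra.TensorProduct.tmul_mul_tmul, hpP2]
  have hjB : ∀ a b, jB (a * b) = jB a * jB b := fun a b => by
    simp [jB, Algebra.TensorProduct.tmul_mul_tmul, hpQ2]
  have hevA : ∀ a, evP (jA a) = a := fun a => by simp [evP, jA, hP]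
  have hevB : ∀ b, evQ (jB b) = b := fun b => by simp [evQ, jB, hQ]
  have hcA : ∀ z, jA 1 * z * jA 1 = jA (evP z) := fun z => by
    obtain ⟨z, rfl⟩ := e.surjective z
    induction z using TensorProduct.induction_on with
    | zero => simp
    | add x y hx hy => rw [map_add, mul_add, add_mul, hx, hy, map_add, map_add]
    | tmul a g => simp [jA, evP, ← map_mul, Algebra.TensorProduct.tmul_mul_tmul, hpP, TensorProduct.tmul_smul]
  have hcB : ∀ z, jB 1 * z * jB 1 = jB (evQ z) := fun z => by
    induction z using TensorProduct.induction_on with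
    | zero => simp
    | add x y hx hy => rw [mul_add, add_mul, hx, hy, map_add, map_add]
    | tmul b g => simp [jB, evQ, Algebra.TensorProduct.tmul_mul_tmul, hpQ, TensorProduct.tmul_smul]
  set εA := jA 1 with hεA
  set εB := jB 1 with hεB
  have hA2 : εA * εA = εA := by rw [hεA, ← hjA, mul_one]
  have hB2 : εB * εB = εB := by rw [hεB, ← hjB, mul_one]
  -- the two left ideals
  let C := B ⊗[R] Module.End R Q
  let MA : Submodule C C := LinearMap.range (LinearMap.toSpanSingleton C C εA)
  let MB : Submodule C C := LinearMap.range (LinearMap.toSpanSingleton C C εB)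
  have hmemA : ∀ x : MA, (x : C) * εA = x := fun ⟨_, c, rfl⟩ => by simp [mul_assoc, hA2]
  have hmemB : ∀ x : MB, (x : C) * εB = x := fun ⟨_, c, rfl⟩ => by simp [mul_assoc, hB2]
  haveI : Module.Projective C MA := Module.Projective.of_split MA.subtype
    (LinearMap.toSpanSingleton C C εA).rangeRestrict (LinearMap.ext fun x => Subtype.ext (hmemA x))
  haveI : Module.Projective C MB := Module.Projective.of_split MB.subtype
    (LinearMap.toSpanSingleton C C εB).rangeRestrict (LinearMap.ext fun x => Subtype.ext (hmemB x))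
  have rA : ∀ p, Module.rankAtStalk (R := R) MA p = Module.rankAtStalk A p * Module.rankAtStalk P p := fun p => by
    let i : A ⊗[R] P →ₗ[R] C := e.toLinearMap ∘ₗ (LinearMap.smulRightₗ fP).lTensor A
    let r : C →ₗ[R] A ⊗[R] P := (LinearMap.applyₗ mP).lTensor A ∘ₗ e.symm.toLinearMap
    have hri : r ∘ₗ i = LinearMap.id := TensorProduct.ext' fun a x => by simp [r, i, hP]
    have hir : ∀ z, i (r z) = z * εA := fun z => by
      obtain ⟨z, rfl⟩ := e.surjective z
      induction z using TensorProduct.induction_on with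
      | zero => simp
      | add x y hx hy => rw [map_add, map_add, map_add, add_mul, hx, hy]
      | tmul a g =>
        have : g * fP.smulRight mP = fP.smulRight (g mP) := LinearMap.ext fun x => by simp
        simp [i, r, hεA, jA, ← map_mul, Algebra.TensorProduct.tmul_mul_tmul, this]
    have hr : LinearMap.range i = MA.restrictScalars R := le_antisymm
      (by
        rintro _ ⟨w, rfl⟩
        exact ⟨i w, by simp [← hir, show r (i w) = w from DFunLike.congr_fun hri w]⟩)
      (by
        rintro _ ⟨c, rfl⟩
        exact ⟨r c, by simp [hir]⟩)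
    let φ : A ⊗[R] P ≃ₗ[R] MA.restrictScalars R := (LinearEquiv.ofInjective i
      (Function.LeftInverse.injective (g := r) fun w => DFunLike.congr_fun hri w)).trans (LinearEquiv.ofEq _ _ hr)
    rw [← congrFun (Module.rankAtStalk_eq_of_equiv φ) p |>.trans rfl, Module.rankAtStalk_tensorProduct,
      Pi.mul_apply]
  have rB : ∀ p, Module.rankAtStalk (R := R) MB p = Module.rankAtStalk B p * Module.rankAtStalk Q p := fun p => by
    let i : B ⊗[R] Q →ₗ[R] B ⊗[R] Module.End R Q := (LinearMap.smulRightₗ fQ).lTensor B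
    let r : B ⊗[R] Module.End R Q →ₗ[R] B ⊗[R] Q := (LinearMap.applyₗ mQ).lTensor B
    have hri : r ∘ₗ i = LinearMap.id := TensorProduct.ext' fun a x => by simp [r, i, hQ]
    have hir : ∀ z, i (r z) = z * εB := fun z => by
      induction z using TensorProduct.induction_on with
      | zero => simp
      | add x y hx hy => rw [map_add, map_add, add_mul, hx, hy]
      | tmul a g =>
        have : g * fQ.smulRight mQ = fQ.smulRight (g mQ) := LinearMap.ext fun x => by simp
        simp [i, r, hεB, jB, Algebra.TensorProduct.tmul_mul_tmul, this]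
    have hr : LinearMap.range i = MB.restrictScalars R := le_antisymm
      (by
        rintro _ ⟨w, rfl⟩
        exact ⟨i w, by simp [← hir, show r (i w) = w from DFunLike.congr_fun hri w]⟩)
      (by
        rintro _ ⟨c, rfl⟩
        exact ⟨r c, by simp [hir]⟩)
    let φ : B ⊗[R] Q ≃ₗ[R] MB.restrictScalars R := (LinearEquiv.ofInjective i
      (Function.LeftInverse.injective (g := r) fun w => DFunLike.congr_fun hri w)).trans (LinearEquiv.ofEq _ _ hr)
    rw [← congrFun (Module.rankAtStalk_eq_of_equiv φ) p |>.trans rfl, Module.rankAtStalk_tensorProduct,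
      Pi.mul_apply]
  obtain ⟨θ⟩ := nonempty_linearEquiv (R := R) (A := C) hR MA MB fun p => by rw [rA, rB, hdeg, hrank]
  let a₀ : MA := ⟨εA, 1, by simp⟩
  let b₀ : MB := ⟨εB, 1, by simp⟩
  set u : C := (θ a₀).1 with hu
  set v : C := (θ.symm b₀).1 with hv
  have hue : u * εB = u := hmemB _
  have hve : v * εA = v := hmemA _
  have heu : εA * u = u := by
    have : εA • a₀ = a₀ := Subtype.ext hA2
    conv_rhs => rw [hu, ← this, map_smul]
    rfl
  have hev : εB * v = v := by
    have : εB • b₀ = b₀ := Subtype.ext hB2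
    conv_rhs => rw [hv, ← this, map_smul]
    rfl
  have huv : u * v = εA := by
    have h1 : u • b₀ = θ a₀ := Subtype.ext hue
    have := congrArg (fun x : MA => (x : C)) (congrArg θ.symm h1)
    simpa [map_smul] using this
  have hvu : v * u = εB := by
    have h1 : v • a₀ = θ.symm b₀ := Subtype.ext hve
    have := congrArg (fun x : MB => (x : C)) (congrArg θ h1)
    simpa [map_smul] using this
  have k1 : ∀ a, jB (evQ (v * jA a * u)) = v * jA a * u := fun a => by
    rw [← hcB, ← mul_assoc εB, ← mul_assoc εB, hev, mul_assoc, hue]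
  have k2 : ∀ b, jA (evP (u * jB b * v)) = u * jB b * v := fun b => by
    rw [← hcA, ← mul_assoc εA, ← mul_assoc εA, heu, mul_assoc, hve]
  have kA : ∀ a, εA * jA a * εA = jA a := fun a => by rw [hεA, ← hjA, ← hjA, one_mul, mul_one]
  have kB : ∀ b, εB * jB b * εB = jB b := fun b => by rw [hεB, ← hjB, ← hjB, one_mul, mul_one]
  let ψ : A →ₗ[R] B := evQ ∘ₗ LinearMap.mulRight R u ∘ₗ LinearMap.mulLeft R v ∘ₗ jA
  have hψ : ∀ a, ψ a = evQ (v * jA a * u) := fun a => rfl
  refine ⟨AlgEquiv.ofBijective (AlgHom.ofLinearMap ψ ?_ fun a b => ?_) ⟨?_, ?_⟩⟩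
  · rw [hψ, ← hεA, hve, hvu, hevB]
  · have h : jB (ψ (a * b)) = jB (ψ a * ψ b) := by
      rw [hjB, hψ, hψ, hψ, k1, k1, k1, hjA]
      calc v * (jA a * jA b) * u = v * (jA a * εA) * jA b * u := by
            rw [show jA a * εA = jA a by rw [hεA, ← hjA, mul_one]]; simp only [mul_assoc]
        _ = v * jA a * u * (v * jA b * u) := by rw [← huv]; simp only [mul_assoc]
    simpa [hevB] using congrArg evQ h
  · refine Function.LeftInverse.injective (g := fun b => evP (u * jB b * v)) fun a => ?_
    change evP (u * jB (ψ a) * v) = a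
    rw [hψ, k1, show u * (v * jA a * u) * v = u * v * jA a * (u * v) by simp only [mul_assoc], huv, kA, hevA]
  · refine Function.RightInverse.surjective (g := fun b => evP (u * jB b * v)) fun b => ?_
    change evQ (v * jA (evP (u * jB b * v)) * u) = b
    rw [k2, show v * (u * jB b * v) * u = v * u * jB b * (v * u) by simp only [mul_assoc], hvu, kB, hevB]

end main

end Groth.L11.LG
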