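import Groth.Agent.L11.CSA.Split
import Groth.Agent.L11.CSA.Centralizer
import Groth.Agent.L21.CSA.SepSubfield
import Mathlib.FieldTheory.Finite.Extension
import Mathlib.FieldTheory.PrimitiveElement
import Mathlib.RingTheory.LittleWedderburn
import Mathlib.FieldTheory.Separable

/-!
Every central simple algebra has a regular (separable, maximal degree) element.
-/

set_option autoImplicit false
universe u v w

open Polynomial

namespace Groth.L11.Az

theorem exists_separated {k : Type u} [Field k] [Infinite k] (F : Finset k) (m : ℕ) :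
    ∃ c : Fin m → k, ∀ i j, i ≠ j → c i - c j ∉ F := by
  classical
  induction m with
  | zero => exact ⟨finZeroElim, fun i => i.elim0⟩
  | succ m ih =>
    obtain ⟨c, hc⟩ := ih
    obtain ⟨x, hx⟩ := Infinite.exists_notMem_finset
      (Finset.univ.biUnion fun i => F.image (c i + ·) ∪ F.image (c i - ·))
    simp only [Finset.mem_biUnion, Finset.mem_univ, true_and, Finset.mem_union, Finset.mem_image, not_exists, not_or] at hx
    refine ⟨Fin.cons x c, fun i j hij => ?_⟩
    refine Fin.cases ?_ ?_ i (motive := fun i => i ≠ j → (Fin.cons x c : Fin (m + 1) → k) i - (Fin.cons x c : Fin (m + 1) → k) j ∉ F) hij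
    · refine Fin.cases (fun h => absurd rfl h) (fun j _ => ?_) j
      simp only [Fin.cons_zero, Fin.cons_succ]
      exact fun h => (hx j).1 _ ⟨h, by ring⟩
    · intro i
      refine Fin.cases (fun _ => ?_) (fun j h => ?_) j
      · simp only [Fin.cons_zero, Fin.cons_succ]
        exact fun h => (hx i).2 _ ⟨h, by ring⟩
      · simp only [Fin.cons_succ]
        exact hc i j fun e => h (by rw [e])

variable {k : Type u} [Field k]

theorem irreducible_comp_X_sub_C {q : k[X]} (hq : Irreducible q) (c : k) : Irreducible (q.comp (X - C c)) := by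
  have : (Polynomial.algEquivAevalXAddC (-c)) q = q.comp (X - C c) := by
    simp [Polynomial.algEquivAevalXAddC, Polynomial.comp_eq_aeval, sub_eq_add_neg]
  rw [← this]
  exact (MulEquiv.irreducible_iff (Polynomial.algEquivAevalXAddC (-c)).toMulEquiv).mpr hq

theorem separable_comp_X_sub_C {q : k[X]} (hq : q.Separable) (c : k) : (q.comp (X - C c)).Separable := by
  have h := IsCoprime.map hq (Polynomial.compRingHom (X - C c))
  rw [Polynomial.separable_def, Polynomial.derivative_comp]
  simpa using h

/-- Diagonal matrices built from translates of a separable element. -/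
theorem exists_regular_matrix [Infinite k] {D : Type v} [DivisionRing D] [Algebra k D] [FiniteDimensional k D] {d : ℕ}
    (α : D) (hsep : (minpoly k α).Separable) (hdeg : (minpoly k α).natDegree = d) (m : ℕ) :
    ∃ ξ : Matrix (Fin m) (Fin m) D, (minpoly k ξ).Separable ∧ (minpoly k ξ).natDegree = m * d := by
  classical
  let q := minpoly k α
  have hint : IsIntegral k α := Algebra.IsIntegral.isIntegral α
  have hqi : Irreducible q := minpoly.irreducible hint
  have hqm : q.Monic := minpoly.monic hint
  let L := AlgebraicClosure k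
  let rts := (q.map (algebraMap k L)).roots.toFinset
  let F : Finset k := ((rts ×ˢ rts).image fun ab => ab.1 - ab.2).preimage (algebraMap k L)
    (algebraMap k L).injective.injOn
  obtain ⟨c, hc⟩ := exists_separated F m
  let Q : Fin m → k[X] := fun i => q.comp (X - C (c i))
  have hQi : ∀ i, Irreducible (Q i) := fun i => irreducible_comp_X_sub_C hqi _
  have hQm : ∀ i, (Q i).Monic := fun i => hqm.comp_X_sub_C _
  have hQd : ∀ i, (Q i).natDegree = d := fun i => by simp [Q, q, natDegree_comp, hdeg]
  have hne : ∀ i j, i ≠ j → Q i ≠ Q j := fun i j hij h => by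
    obtain ⟨a, ha⟩ := IsAlgClosed.exists_aeval_eq_zero L q (fun h0 => hqi.not_isUnit (isUnit_iff_degree_eq_zero.mpr h0))
    have h1 : aeval (a + algebraMap k L (c i)) (Q i) = 0 := by simp [Q, aeval_comp, ha]
    rw [h] at h1
    simp only [Q, aeval_comp, map_sub, aeval_X, aeval_C] at h1
    have hmem : ∀ b, aeval b q = 0 → b ∈ rts := fun b hb => by
      simp only [rts, Multiset.mem_toFinset, mem_roots', ne_eq, IsRoot.def, eval_map_algebraMap, hb, and_true]
      exact Polynomial.map_ne_zero hqi.ne_zero
    refine hc i j hij ?_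
    simp only [F, Finset.mem_preimage, Finset.mem_image, Finset.mem_product]
    exact ⟨(a + algebraMap k L (c i) - algebraMap k L (c j), a), ⟨hmem _ h1, hmem _ ha⟩, by simp; ring⟩
  have hcop : Pairwise (fun i j => IsCoprime (Q i) (Q j)) := fun i j hij =>
    (hQi i).coprime_iff_not_dvd.mpr fun h =>
      hne i j hij (eq_of_monic_of_associated (hQm i) (hQm j) ((hQi i).associated_of_dvd (hQi j) h))
  let x : Fin m → D := fun i => α + algebraMap k D (c i)
  let ξ : Matrix (Fin m) (Fin m) D := Matrix.diagonalAlgHom k x
  have haeval : ∀ p : k[X], aeval ξ p = Matrix.diagonalAlgHom k (fun i => aeval (x i) p) := fun p => by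
    rw [aeval_algHom_apply]
    congr 1
    funext i
    exact (aeval_algHom_apply (Pi.evalAlgHom k (fun _ : Fin m => D) i) x p).symm
  have hx : ∀ i, aeval (x i) (Q i) = 0 := fun i => by simp [Q, x, q, aeval_comp]
  have hmon : (∏ i, Q i).Monic := monic_prod_of_monic _ _ fun i _ => hQm i
  have hzero : aeval ξ (∏ i, Q i) = 0 := by
    rw [haeval, show (fun i => aeval (x i) (∏ j, Q j)) = 0 from funext fun i => by
      rw [← Finset.mul_prod_erase _ _ (Finset.mem_univ i), map_mul, hx, zero_mul, Pi.zero_apply], map_zero]
  have hdvd : ∀ p : k[X], aeval ξ p = 0 → (∏ i, Q i) ∣ p := fun p hp => by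
    refine Finset.prod_dvd_of_coprime (fun i _ j _ hij => hcop hij) fun i _ => ?_
    rw [minpoly.eq_of_irreducible_of_monic (hQi i) (hx i) (hQm i)]
    refine minpoly.dvd k _ ?_
    have := congrArg (fun M : Matrix (Fin m) (Fin m) D => M i i) (haeval p ▸ hp :)
    simpa using this
  have hmin : minpoly k ξ = ∏ i, Q i := (minpoly.unique k ξ hmon hzero fun p hpm hp0 =>
    degree_le_of_dvd (hdvd p hp0) hpm.ne_zero).symm
  refine ⟨ξ, hmin ▸ separable_prod hcop fun i => separable_comp_X_sub_C hsep _, ?_⟩
  rw [hmin, natDegree_prod _ _ fun i _ => (hQm i).ne_zero]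
  simp [hQd]

theorem exists_regular (B : Type v) [Ring B] [Algebra k B] [Algebra.IsCentral k B] [IsSimpleRing B]
    [FiniteDimensional k B] {r : ℕ} (hB : Module.finrank k B = r ^ 2) :
    ∃ ξ : B, (minpoly k ξ).Separable ∧ (minpoly k ξ).natDegree = r := by
  classical
  have := CSA.isArtinianRing_of_finite k B
  obtain ⟨m, hm, D, _, _, _, ⟨e⟩⟩ := IsSimpleRing.exists_algEquiv_matrix_divisionRing_finite k B
  haveI : Algebra.IsCentral k D := Groth.L21.CSA.isCentral_of_matrix k e
  obtain ⟨d, hd, hD⟩ := CSA.isSquare_finrank k D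
  have hr : r = m * d := Nat.pow_left_injective two_ne_zero (show r ^ 2 = (m * d) ^ 2 by
    rw [← hB, e.toLinearEquiv.finrank_eq, Module.finrank_matrix, hD, Fintype.card_fin]; ring)
  suffices h : ∃ ξ : Matrix (Fin m) (Fin m) D, (minpoly k ξ).Separable ∧ (minpoly k ξ).natDegree = r by
    obtain ⟨ξ, h1, h2⟩ := h
    exact ⟨e.symm ξ, by rw [minpoly.algEquiv_eq]; exact h1, by rw [minpoly.algEquiv_eq]; exact h2⟩
  rcases finite_or_infinite k with hk | hk
  · haveI : Finite D := Module.finite_of_finite k
    have hd1 : d = 1 := by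
      have hbot : (⊥ : Subalgebra k D) = ⊤ := by
        rw [← Algebra.IsCentral.center_eq_bot k D]
        exact eq_top_iff.mpr fun x _ => Subalgebra.mem_center_iff.mpr fun y =>
          @mul_comm D (littleWedderburn D).toCommMonoid.toCommMagma _ _
      have h2 := Subalgebra.bot_eq_top_iff_finrank_eq_one.mp hbot
      rw [hD] at h2
      exact (pow_eq_one_iff.mp h2).resolve_right two_ne_zero
    subst hd1
    rw [mul_one] at hr
    subst hr
    haveI : Fintype k := Fintype.ofFinite k
    obtain ⟨p, hp⟩ := CharP.exists k
    haveI : Fact p.Prime := ⟨CharP.char_is_prime k p⟩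
    haveI : NeZero r := NeZero.of_pos (Nat.pos_of_ne_zero fun h => by subst h; simp at hm)
    let K := FiniteField.Extension k p r
    have hK : Module.finrank k K = r := FiniteField.finrank_extension k p r
    obtain ⟨α, hα⟩ := Field.exists_primitive_element_of_finite_bot k K
    let b : Module.Basis (Fin r) k K := Module.finBasisOfFinrankEq k K hK
    let φ : K →ₐ[k] Matrix (Fin r) (Fin r) D := (Algebra.ofId k D).mapMatrix.comp (Algebra.leftMulMatrix b)
    have hφ : Function.Injective φ := φ.toRingHom.injective
    refine ⟨φ α, ?_, ?_⟩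
    · rw [minpoly.algHom_eq φ hφ]
      exact PerfectField.separable_of_irreducible (minpoly.irreducible (Algebra.IsIntegral.isIntegral α))
    · rw [minpoly.algHom_eq φ hφ, (Field.primitive_element_iff_minpoly_natDegree_eq k α).mp hα, hK]
  · obtain ⟨L, hcomm, hsep, hL⟩ := Groth.L21.CSA.exists_separable_self_centralizing k D
    letI : CommRing L :=
      { (inferInstance : Ring L) with mul_comm := fun a b => Subtype.ext (hcomm a a.2 b b.2) }
    haveI : IsDomain L := Subalgebra.isDomain L
    letI : Field L := ((Algebra.IsIntegral.isField_iff_isField (R := k) (algebraMap k L).injective).mp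
      (Field.toIsField k)).toField
    haveI : Algebra.IsSeparable k L := hsep
    obtain ⟨α, hα⟩ := Field.exists_primitive_element k L
    have hdim := (CSA.centralizer_simple k D L).2
    rw [hL, hD, ← sq] at hdim
    have hdeg : (minpoly k (α : D)).natDegree = d := by
      rw [show (α : D) = L.val α from rfl, minpoly.algHom_eq L.val Subtype.val_injective,
        (Field.primitive_element_iff_minpoly_natDegree_eq k α).mp hα]
      exact Nat.pow_left_injective two_ne_zero hdim.symm
    obtain ⟨ξ, h1, h2⟩ := exists_regular_matrix (α : D)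
      (by rw [show (α : D) = L.val α from rfl, minpoly.algHom_eq L.val Subtype.val_injective]
          exact Algebra.IsSeparable.isSeparable k α) hdeg m
    exact ⟨ξ, h1, h2.trans hr.symm⟩

end Groth.L11.Az
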