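import Groth.Agent.L11.Az.EtaleSub
import Groth.Agent.L11.Az.Regular
import Mathlib.RingTheory.Unramified.Finite
import Mathlib.RingTheory.QuasiFinite.Basic
import Mathlib.RingTheory.Ideal.GoingUp
import Mathlib.LinearAlgebra.TensorProduct.Basis

/-!
Maximal étale subalgebras of Azumaya algebras over local rings.
-/

set_option autoImplicit false
universe u v w

open scoped TensorProduct
open Polynomial IsLocalRing

namespace Groth.L11.Az

/-- The algebra map `AdjoinRoot f → A` attached to a root in a possibly noncommutative algebra. -/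
noncomputable def rootHom {R : Type u} [CommRing R] {A : Type v} [Ring A] [Algebra R A] (f : R[X]) (ξ : A)
    (h : aeval ξ f = 0) : AdjoinRoot f →ₐ[R] A :=
  Ideal.Quotient.liftₐ (Ideal.span {f}) (aeval ξ) fun p hp => by
    obtain ⟨q, rfl⟩ := Ideal.mem_span_singleton.mp hp
    rw [map_mul, h, zero_mul]

theorem rootHom_mk {R : Type u} [CommRing R] {A : Type v} [Ring A] [Algebra R A] (f : R[X]) (ξ : A)
    (h : aeval ξ f = 0) (p : R[X]) : rootHom f ξ h (AdjoinRoot.mk f p) = aeval ξ p := rfl

theorem rootHom_injective_minpoly {k : Type u} [Field k] {B : Type v} [Ring B] [Algebra k B] (ξ : B) :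
    Function.Injective (rootHom (minpoly k ξ) ξ (minpoly.aeval k ξ)) := by
  refine (injective_iff_map_eq_zero _).mpr fun y hy => ?_
  induction y using AdjoinRoot.induction_on with
  | _ p =>
    rw [rootHom_mk] at hy
    exact AdjoinRoot.mk_eq_zero.mpr (minpoly.dvd k ξ hy)

/-- A monic polynomial with separable image over the residue field is separable. -/
theorem separable_of_residue {R : Type u} [CommRing R] [IsLocalRing R] {f : R[X]} (hf : f.Monic)
    (hs : (f.map (residue R)).Separable) : f.Separable := by
  haveI : Module.Finite R (AdjoinRoot f) := hf.finite_adjoinRoot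
  have hu : IsUnit (AdjoinRoot.mk f (derivative f)) := by
    by_contra h
    obtain ⟨P, hP, hmem⟩ := exists_max_ideal_of_mem_nonunits h
    haveI := hP
    have hPm : P.comap (algebraMap R (AdjoinRoot f)) = maximalIdeal R :=
      IsLocalRing.eq_maximalIdeal (Ideal.isMaximal_comap_of_isIntegral_of_isMaximal (R := R) P)
    let ψ : R →+* AdjoinRoot f ⧸ P := (Ideal.Quotient.mk P).comp (algebraMap R (AdjoinRoot f))
    let σ : ResidueField R →+* AdjoinRoot f ⧸ P := Ideal.Quotient.lift (maximalIdeal R) ψ fun a ha => by
      rw [← hPm, Ideal.mem_comap] at ha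
      exact Ideal.Quotient.eq_zero_iff_mem.mpr ha
    have hσ : σ.comp (residue R) = ψ := RingHom.ext fun a => rfl
    obtain ⟨a, b, hab⟩ := hs
    have key : ∀ q : R[X], eval₂ σ (Ideal.Quotient.mk P (AdjoinRoot.root f)) (q.map (residue R)) =
        Ideal.Quotient.mk P (AdjoinRoot.mk f q) := fun q => by
      rw [eval₂_map, hσ, ← AdjoinRoot.aeval_eq, aeval_def, hom_eval₂]
    have h1 := congrArg (eval₂ σ (Ideal.Quotient.mk P (AdjoinRoot.root f))) hab
    rw [eval₂_add, eval₂_mul, eval₂_mul, eval₂_one, derivative_map, key, key, AdjoinRoot.mk_self, map_zero, mul_zero,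
      zero_add, Ideal.Quotient.eq_zero_iff_mem.mpr hmem, mul_zero] at h1
    haveI : Nontrivial (AdjoinRoot f ⧸ P) := Ideal.Quotient.nontrivial_iff.mpr hP.ne_top
    exact zero_ne_one h1
  obtain ⟨w, hw⟩ := isUnit_iff_exists_inv.mp hu
  obtain ⟨b, rfl⟩ := AdjoinRoot.mk_surjective w
  rw [← map_mul, ← map_one (AdjoinRoot.mk f), AdjoinRoot.mk_eq_mk] at hw
  obtain ⟨c, hc⟩ := hw
  exact ⟨-c, b, by linear_combination hc⟩

section Local

variable {R : Type u} [CommRing R] [IsLocalRing R] {A : Type v} [Ring A] [Algebra R A] [IsAzumaya R A]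

/-- A lift of a regular element of the special fibre. -/
theorem regular_element {r : ℕ} (hA : Module.finrank R A = r ^ 2) (ξ : A)
    (hsep : (minpoly (ResidueField R) ((1 : ResidueField R) ⊗ₜ[R] ξ)).Separable)
    (hdeg : (minpoly (ResidueField R) ((1 : ResidueField R) ⊗ₜ[R] ξ)).natDegree = r) :
    Function.Injective ((Fintype.linearCombination R fun i : Fin r => ξ ^ (i : ℕ)).lTensor (ResidueField R)) ∧
      LinearIndependent R (fun i : Fin r => ξ ^ (i : ℕ)) ∧
        ξ ^ r ∈ Submodule.span R (Set.range fun i : Fin r => ξ ^ (i : ℕ)) := by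
  classical
  haveI : Module.Free R A := Module.free_of_flat_of_isLocalRing
  haveI := isAzumaya_baseChange (R := R) (ResidueField R) A
  haveI := isSimpleRing_of_isAzumaya (k := ResidueField R) (A := ResidueField R ⊗[R] A)
  set ξb : ResidueField R ⊗[R] A := (1 : ResidueField R) ⊗ₜ[R] ξ with hξb
  set q := minpoly (ResidueField R) ξb with hq
  set f := Fintype.linearCombination R fun i : Fin r => ξ ^ (i : ℕ) with hf
  let π := TensorProduct.piScalarRight R (ResidueField R) (ResidueField R) (Fin r)
  have hπ : ∀ z, f.lTensor (ResidueField R) z =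
      Fintype.linearCombination (ResidueField R) (fun i : Fin r => ξb ^ (i : ℕ)) (π z) := fun z => by
    induction z using TensorProduct.induction_on with
    | zero => simp
    | add z z' h h' => rw [map_add, map_add, map_add, h, h']
    | tmul s c =>
      simp only [π, hf, LinearMap.lTensor_tmul, Fintype.linearCombination_apply, TensorProduct.piScalarRight_apply,
        TensorProduct.piScalarRightHom_tmul, hξb, Algebra.TensorProduct.tmul_pow, one_pow, TensorProduct.tmul_sum]
      refine Finset.sum_congr rfl fun i _ => ?_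
      rw [TensorProduct.smul_tmul', smul_eq_mul, mul_one, TensorProduct.smul_tmul]
  have hli : LinearIndependent (ResidueField R) (fun i : Fin r => ξb ^ (i : ℕ)) :=
    hdeg ▸ linearIndependent_pow ξb
  have hinj : Function.Injective (f.lTensor (ResidueField R)) := by
    intro z z' h
    rw [hπ, hπ] at h
    exact π.injective (linearIndependent_iff_injective_fintypeLinearCombination.mp hli h)
  have hfinj : Function.Injective f := by
    obtain ⟨s, hs⟩ := (split_injective_iff_lTensor_residueField_injective f).mpr hinj
    exact Function.HasLeftInverse.injective ⟨s, LinearMap.congr_fun hs⟩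
  refine ⟨hinj, linearIndependent_iff_injective_fintypeLinearCombination.mpr hfinj, ?_⟩
  let g : A →ₗ[R] A := LinearMap.mulRight R ξ - LinearMap.mulLeft R ξ
  have hgf : g ∘ₗ f = 0 := LinearMap.ext fun c => by
    simp [g, f, Fintype.linearCombination_apply, Finset.sum_mul, Finset.mul_sum, ← pow_succ, ← pow_succ']
  haveI : Module.Finite (ResidueField R) (AdjoinRoot q) :=
    (minpoly.monic (Algebra.IsIntegral.isIntegral ξb)).finite_adjoinRoot
  haveI : Algebra.Etale (ResidueField R) (AdjoinRoot q) :=
    etale_adjoinRoot (minpoly.monic (Algebra.IsIntegral.isIntegral ξb)) hsep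
  have hK : Module.finrank (ResidueField R) (AdjoinRoot q) = r := by
    rw [(AdjoinRoot.powerBasis' (minpoly.monic (Algebra.IsIntegral.isIntegral ξb))).finrank, AdjoinRoot.powerBasis'_dim, hdeg]
  have hmem := mem_range_of_fibre f g hgf hinj (fun z hz => ?_) (ξ ^ r) (by simp [g, ← pow_succ, ← pow_succ'])
  · rwa [hf, Fintype.range_linearCombination] at hmem
  · have hcomm : z * ξb = ξb * z := by
      have key : ∀ w, g.lTensor (ResidueField R) w = w * ξb - ξb * w := fun w => by
        induction w using TensorProduct.induction_on with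
        | zero => simp
        | add w w' h h' => rw [map_add, h, h', add_mul, mul_add]; abel
        | tmul s b => simp [g, hξb, TensorProduct.tmul_sub]
      exact sub_eq_zero.mp ((key z).symm.trans hz)
    obtain ⟨y, hy⟩ := mem_range_of_commute (r := r) (by rw [Module.finrank_baseChange, hA]) hK
      (rootHom q ξb (minpoly.aeval _ _)) (rootHom_injective_minpoly ξb) z fun y => by
        induction y using AdjoinRoot.induction_on with
        | _ p =>
          rw [rootHom_mk]
          change Commute z (aeval ξb p)
          refine Commute.symm ?_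
          induction p using Polynomial.induction_on' with
          | add a b ha hb => rw [map_add]; exact ha.add_left hb
          | monomial i a =>
            rw [aeval_monomial]
            exact (Algebra.commute_algebraMap_left a z).mul_left
              ((show Commute ξb z from hcomm.symm).pow_left i)
    obtain ⟨p, rfl⟩ := AdjoinRoot.mk_surjective y
    refine ⟨π.symm fun i => (p %ₘ q).coeff i, ?_⟩
    rw [hπ, LinearEquiv.apply_symm_apply, ← hy]
    change _ = rootHom q ξb _ (AdjoinRoot.mk q p)
    rw [rootHom_mk, ← aeval_modByMonic_eq_self_of_root (minpoly.aeval _ ξb),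
      aeval_eq_sum_range' (n := r) ?_, Finset.sum_range, Fintype.linearCombination_apply]
    rcases eq_or_ne (p %ₘ q) 0 with h0 | h0
    · rw [h0, natDegree_zero]
      exact hdeg ▸ minpoly.natDegree_pos (Algebra.IsIntegral.isIntegral ξb)
    · rw [← hdeg]
      exact natDegree_lt_natDegree h0 (degree_modByMonic_lt _ (minpoly.monic (Algebra.IsIntegral.isIntegral ξb)))

/-- The monic equation of a regular element. -/
theorem exists_regular_poly {r : ℕ} (hA : Module.finrank R A = r ^ 2) (ξ : A)
    (hsep : (minpoly (ResidueField R) ((1 : ResidueField R) ⊗ₜ[R] ξ)).Separable)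
    (hdeg : (minpoly (ResidueField R) ((1 : ResidueField R) ⊗ₜ[R] ξ)).natDegree = r) :
    ∃ (f : R[X]) (hf : aeval ξ f = 0), f.Monic ∧ f.natDegree = r ∧ f.Separable ∧
      Function.Injective ((rootHom f ξ hf).toLinearMap.lTensor (ResidueField R)) := by
  classical
  obtain ⟨hinj, -, hmem⟩ := regular_element hA ξ hsep hdeg
  obtain ⟨c, hc⟩ := (Submodule.mem_span_range_iff_exists_fun R).mp hmem
  let f : R[X] := X ^ r - ∑ i : Fin r, C (c i) * X ^ (i : ℕ)
  have hlow : (∑ i : Fin r, C (c i) * X ^ (i : ℕ)).degree < (r : WithBot ℕ) :=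
    degree_sum_fin_lt c
  have hf : aeval ξ f = 0 := by simp [f, ← Algebra.smul_def, hc]
  have hmon : f.Monic := monic_X_pow_sub (n := r) (by exact_mod_cast hlow)
  have hnd : f.natDegree = r := natDegree_eq_of_degree_eq_some (by
    rw [degree_sub_eq_left_of_degree_lt (by rwa [degree_X_pow]), degree_X_pow])
  set q := minpoly (ResidueField R) ((1 : ResidueField R) ⊗ₜ[R] ξ) with hq
  have hfq : f.map (residue R) = q := by
    have h0 : aeval ((1 : ResidueField R) ⊗ₜ[R] ξ) (f.map (residue R)) = 0 := by
      rw [← IsLocalRing.ResidueField.algebraMap_eq, aeval_map_algebraMap,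
        show ((1 : ResidueField R) ⊗ₜ[R] ξ) = (Algebra.TensorProduct.includeRight : A →ₐ[R] _) ξ from rfl,
        aeval_algHom_apply, hf, map_zero]
    exact eq_of_monic_of_dvd_of_natDegree_le (minpoly.monic (Algebra.IsIntegral.isIntegral _)) (hmon.map _)
      (minpoly.dvd _ _ h0) (by rw [hmon.natDegree_map, hnd]; exact hdeg.ge)
  refine ⟨f, hf, hmon, hnd, separable_of_residue hmon (hfq ▸ hsep), ?_⟩
  let b := (AdjoinRoot.powerBasis' hmon).basis.reindex (finCongr (by simpa using hnd))
  have : (rootHom f ξ hf).toLinearMap = (Fintype.linearCombination R fun i : Fin r => ξ ^ (i : ℕ)) ∘ₗ b.equivFun.toLinearMap := by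
    refine b.ext fun i => ?_
    simp only [LinearMap.comp_apply, LinearEquiv.coe_coe, AlgHom.toLinearMap_apply]
    rw [Module.Basis.equivFun_apply, Module.Basis.repr_self, Finsupp.single_eq_pi_single,
      Fintype.linearCombination_apply_single, one_smul]
    simp only [b, Module.Basis.reindex_apply, PowerBasis.basis_eq_pow, AdjoinRoot.powerBasis'_gen, finCongr_symm,
      finCongr_apply, Fin.val_cast, map_pow]
    rw [← AdjoinRoot.mk_X, rootHom_mk, aeval_X]
  rw [this, LinearMap.lTensor_comp, LinearMap.coe_comp]
  exact hinj.comp (LinearEquiv.lTensor (ResidueField R) b.equivFun).injective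

/-- Existence of maximal étale subalgebras. -/
theorem exists_maxEtale {r : ℕ} (hA : Module.finrank R A = r ^ 2) :
    ∃ (f : R[X]) (ξ : A) (hf : aeval ξ f = 0), f.Monic ∧ f.natDegree = r ∧ f.Separable ∧
      Function.Injective ((rootHom f ξ hf).toLinearMap.lTensor (ResidueField R)) := by
  haveI : Module.Free R A := Module.free_of_flat_of_isLocalRing
  haveI := isAzumaya_baseChange (R := R) (ResidueField R) A
  haveI := isSimpleRing_of_isAzumaya (k := ResidueField R) (A := ResidueField R ⊗[R] A)
  obtain ⟨z, hz1, hz2⟩ := exists_regular (k := ResidueField R) (ResidueField R ⊗[R] A) (r := r)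
    (by rw [Module.finrank_baseChange, hA])
  obtain ⟨ξ, rfl⟩ := TensorProduct.mk_surjective R A (ResidueField R) Ideal.Quotient.mk_surjective z
  obtain ⟨f, hf, h⟩ := exists_regular_poly hA ξ hz1 hz2
  exact ⟨f, ξ, hf, h⟩

end Local

end Groth.L11.Az
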