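import Groth.Agent.L11.Az.Basic
import Groth.Agent.L05.Mil.Flat
import Mathlib.LinearAlgebra.TensorProduct.Prod

/-!
Azumaya algebras over a fibre product of rings.
-/

set_option autoImplicit false
universe u

open scoped TensorProduct

namespace Groth.L11.Az

variable {B' B A' A : Type u} [CommRing B'] [CommRing B] [CommRing A'] [CommRing A]
  [Algebra B' B] [Algebra B' A'] [Algebra B A] [Algebra A' A] [Algebra B' A]
  [IsScalarTower B' B A] [IsScalarTower B' A' A]

theorem comap_surjective_pair (hsq : EtMil.IsFibreSquare B' B A' A) :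
    Function.Surjective (PrimeSpectrum.comap (algebraMap B' (B × A'))) := by
  intro p
  have hsurj : Function.Surjective (algebraMap B' B) := fun b => by
    obtain ⟨a', ha'⟩ := hsq.1 (algebraMap B A b)
    obtain ⟨b', ⟨h1, -⟩, -⟩ := hsq.2 b a' ha'.symm
    exact ⟨b', h1⟩
  by_cases hp : RingHom.ker (algebraMap B' B) ≤ p.asIdeal
  · haveI : (p.asIdeal.map (algebraMap B' B)).IsPrime := Ideal.map_isPrime_of_surjective hsurj hp
    refine ⟨PrimeSpectrum.comap (RingHom.fst B A') ⟨p.asIdeal.map (algebraMap B' B), inferInstance⟩, ?_⟩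
    apply PrimeSpectrum.ext
    show ((p.asIdeal.map (algebraMap B' B)).comap (RingHom.fst B A')).comap (algebraMap B' (B × A')) = _
    rw [Ideal.comap_comap]
    show (p.asIdeal.map (algebraMap B' B)).comap (algebraMap B' B) = _
    rw [Ideal.comap_map_of_surjective _ hsurj, sup_eq_left]
    exact hp
  · obtain ⟨e, he, hep⟩ := SetLike.not_le_iff_exists.1 hp
    have he0 : algebraMap B' B e = 0 := he
    have heA : algebraMap A' A (algebraMap B' A' e) = 0 := by
      rw [← IsScalarTower.algebraMap_apply, IsScalarTower.algebraMap_apply B' B A, he0, map_zero]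
    have huniq : ∀ x y : B', algebraMap B' B x = algebraMap B' B y →
        algebraMap B' A' x = algebraMap B' A' y → x = y := fun x y h1 h2 =>
      (hsq.2 (algebraMap B' B x) (algebraMap B' A' x) (by
        rw [← IsScalarTower.algebraMap_apply, ← IsScalarTower.algebraMap_apply])).unique
        ⟨rfl, rfl⟩ ⟨h1.symm, h2.symm⟩
    have hex : ∀ a : A', ∃ b' : B', algebraMap B' B b' = 0 ∧ algebraMap B' A' b' = algebraMap B' A' e * a :=
      fun a => (hsq.2 0 (algebraMap B' A' e * a) (by rw [map_zero, map_mul, heA, zero_mul])).exists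
    choose ψ hψ1 hψ2 using hex
    have hψmul : ∀ a b, ψ a * ψ b = e * ψ (a * b) := fun a b => huniq _ _
      (by simp [hψ1, he0]) (by simp [hψ2]; ring)
    have hψadd : ∀ a b, ψ (a + b) = ψ a + ψ b := fun a b => huniq _ _
      (by simp [hψ1]) (by simp [hψ2]; ring)
    have hψ0 : ψ 0 = 0 := huniq _ _ (by simp [hψ1]) (by simp [hψ2])
    have hψb : ∀ b', ψ (algebraMap B' A' b') = e * b' := fun b' => huniq _ _
      (by simp [hψ1, he0]) (by simp [hψ2])
    have hψ1' : ψ 1 = e := by simpa using hψb 1
    let q : Ideal A' :=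
      { carrier := {a | ψ a ∈ p.asIdeal}
        zero_mem' := by simp [hψ0]
        add_mem' := fun {a b} ha hb => by
          show ψ (a + b) ∈ p.asIdeal
          rw [hψadd]; exact add_mem ha hb
        smul_mem' := fun c a ha => by
          show ψ (c * a) ∈ p.asIdeal
          refine (p.2.mem_or_mem (?_ : e * ψ (c * a) ∈ p.asIdeal)).resolve_left hep
          rw [← hψmul]; exact Ideal.mul_mem_left _ _ ha }
    have hq : q.IsPrime := by
      refine ⟨fun h => hep ?_, fun {a b} hab => ?_⟩
      · have : (1 : A') ∈ q := h ▸ trivial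
        rw [← hψ1']; exact this
      · refine p.2.mem_or_mem (?_ : ψ a * ψ b ∈ p.asIdeal)
        rw [hψmul]; exact Ideal.mul_mem_left _ _ hab
    refine ⟨PrimeSpectrum.comap (RingHom.snd B A') ⟨q, hq⟩, ?_⟩
    apply PrimeSpectrum.ext
    ext b'
    show ψ (algebraMap B' A' b') ∈ p.asIdeal ↔ b' ∈ p.asIdeal
    rw [hψb]
    exact ⟨fun h => (p.2.mem_or_mem h).resolve_left hep, Ideal.mul_mem_left _ e⟩

theorem isAzumaya_of_pair (hsq : EtMil.IsFibreSquare B' B A' A) (D : Type u) [Ring D] [Algebra B' D]
    [Module.Finite B' D] [Module.Projective B' D]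
    [IsAzumaya B (B ⊗[B'] D)] [IsAzumaya A' (A' ⊗[B'] D)] : IsAzumaya B' D := by
  have h1 := (bijective_iff (R := B') B D).mp IsAzumaya.bij
  have h2 := (bijective_iff (R := B') A' D).mp IsAzumaya.bij
  haveI : IsAzumaya (B × A') ((B × A') ⊗[B'] D) := by
    haveI : FaithfulSMul (B × A') ((B × A') ⊗[B'] D) := ⟨fun {r s} h => by
      have hh := congrArg (TensorProduct.prodLeft B' B' B A' D) (h ((1 : B × A') ⊗ₜ[B'] (1 : D)))
      rw [TensorProduct.smul_tmul', TensorProduct.smul_tmul', smul_eq_mul, smul_eq_mul, mul_one,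
        mul_one, show r = (r.1, r.2) from rfl, show s = (s.1, s.2) from rfl,
        TensorProduct.prodLeft_tmul, TensorProduct.prodLeft_tmul, Prod.ext_iff] at hh
      refine Prod.ext ((FaithfulSMul.algebraMap_injective B (B ⊗[B'] D)) ?_)
        ((FaithfulSMul.algebraMap_injective A' (A' ⊗[B'] D)) ?_)
      · simpa [Algebra.TensorProduct.algebraMap_apply] using hh.1
      · simpa [Algebra.TensorProduct.algebraMap_apply] using hh.2⟩
    refine { bij := (bijective_iff (B × A') D).mpr ?_ }
    set f := (AlgHom.mulLeftRight B' D).toLinearMap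
    have hcomm : ∀ x, TensorProduct.prodLeft B' B' B A' (Module.End B' D) (f.baseChange (B × A') x) =
        Prod.map (f.baseChange B) (f.baseChange A')
          (TensorProduct.prodLeft B' B' B A' (D ⊗[B'] Dᵐᵒᵖ) x) := fun x => by
      induction x using TensorProduct.induction_on with
      | zero =>
        rw [map_zero, map_zero, map_zero]
        exact (Prod.ext (map_zero _) (map_zero _)).symm
      | tmul s d =>
        rw [LinearMap.baseChange_tmul, show s = (s.1, s.2) from rfl, TensorProduct.prodLeft_tmul,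
          TensorProduct.prodLeft_tmul, Prod.map_apply, LinearMap.baseChange_tmul,
          LinearMap.baseChange_tmul]
      | add a b ha hb => simp [map_add, ha, hb, Prod.map]
    refine ((TensorProduct.prodLeft B' B' B A' _).bijective.of_comp_iff' _).mp ?_
    rw [show (TensorProduct.prodLeft B' B' B A' (Module.End B' D)) ∘ f.baseChange (B × A') =
      Prod.map (f.baseChange B) (f.baseChange A') ∘ TensorProduct.prodLeft B' B' B A' _ from funext hcomm]
    exact (h1.prodMap h2).comp (LinearEquiv.bijective _)
  exact isAzumaya_of_comap_surjective (B × A') (comap_surjective_pair hsq) D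

end Groth.L11.Az
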