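import Groth.Agent.L11.Az.PresResidue
import Mathlib.RingTheory.Localization.BaseChange
import Mathlib.Algebra.Module.LocalizedModule.Int

/-!
Tools for normal forms of presentations near a point.
-/

set_option autoImplicit false
universe u v w

open scoped TensorProduct Matrix
open Groth.L09.RInvBranch (lamT)

noncomputable section

namespace Groth.L11.Az

variable {S : Type u} [CommRing S] {R : Type v} [CommRing R] [Algebra S R] {lam : R ≃ₐ[S] R}
  {A : Type w} [Ring A] [Algebra S A] [Algebra R A] [IsScalarTower S R A] {t : AzInv.LamInv R A lam}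

section MapR
variable {T T' : Type*} [CommRing T] [Algebra S T] [CommRing T'] [Algebra S T']

/-- The map of base changes. -/
abbrev mapR (φ : T →ₐ[S] T') : T ⊗[S] R →ₐ[S] T' ⊗[S] R := Algebra.TensorProduct.map φ (AlgHom.id S R)

theorem mapR_lamT (φ : T →ₐ[S] T') (x : T ⊗[S] R) :
    lamT T' lam (mapR φ x) = mapR φ (lamT T lam x) := by
  induction x using TensorProduct.induction_on with
  | zero => simp
  | add y z hy hz => simp only [map_add, hy, hz]
  | tmul c r => simp [Groth.L09.RInvBranch.lamT_tmul]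

theorem mapR_algebraMap (φ : T →ₐ[S] T') (c : T) :
    mapR φ (algebraMap T (T ⊗[S] R) c) = algebraMap T' (T' ⊗[S] R) (φ c) := by
  simp [Algebra.TensorProduct.algebraMap_apply]

theorem mapR_comp {T'' : Type*} [CommRing T''] [Algebra S T''] (φ : T →ₐ[S] T') (ψ : T' →ₐ[S] T'') :
    (mapR (R := R) ψ).comp (mapR φ) = mapR (ψ.comp φ) :=
  Algebra.TensorProduct.ext' fun c r => by simp

theorem lamT_algebraMap (c : T) : lamT T lam (algebraMap T (T ⊗[S] R) c) = algebraMap T (T ⊗[S] R) c := by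
  simp [Algebra.TensorProduct.algebraMap_apply, Groth.L09.RInvBranch.lamT_tmul]

/-- An element is inverted with its norm. -/
theorem isUnit_mapR {x : T ⊗[S] R} {c : T} (hc : algebraMap T (T ⊗[S] R) c = x * lamT T lam x) (φ : T →ₐ[S] T')
    (hu : IsUnit (φ c)) : IsUnit (mapR φ x) := by
  refine isUnit_of_mul_isUnit_left (y := mapR φ (lamT T lam x)) ?_
  rw [← map_mul, ← hc, mapR_algebraMap]
  exact hu.map _

/-- Hermitian matrices stay hermitian. -/
theorem star'_map_eq {ι : Type*} (φ : T →ₐ[S] T') {W : Matrix ι ι (T ⊗[S] R)} {e : T ⊗[S] R}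
    (h : star' T lam W = e • W) : star' T' lam (W.map (mapR φ)) = mapR φ e • W.map (mapR φ) := by
  rw [map_star', h]
  ext i j
  simp

end MapR

namespace Nbhd

variable {p : PrimeSpectrum S} (N : Nbhd p)

include N in
theorem two_notMem (h2 : (2 : S) ∉ p.asIdeal) : (2 : N.T) ∉ N.q.asIdeal := by
  rw [← N.comap_q, Ideal.mem_comap, map_ofNat] at h2
  exact h2

theorem fixedRing (hlam : ∀ r, lam (lam r) = r) (hfix : RInv.IsFixedRing S R lam.toRingEquiv) :
    Function.Involutive (lamT N.T lam) ∧ RInv.IsFixedRing N.T (N.T ⊗[S] R) (lamT N.T lam) :=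
  ⟨Groth.L09.RInvBranch.lamT_involutive N.T hlam,
    Groth.L09.RInvBranch.isFixedRing_baseChange N.T hlam hfix (Or.inl inferInstance)⟩

/-- A prime above the point. -/
theorem exists_prime (hlam : ∀ r, lam (lam r) = r) (hfix : RInv.IsFixedRing S R lam.toRingEquiv) :
    ∃ M : Ideal (N.T ⊗[S] R), M.IsPrime ∧ M.comap (algebraMap N.T (N.T ⊗[S] R)) = N.q.asIdeal ∧
      M.comap (algebraMap S (N.T ⊗[S] R)) = p.asIdeal := by
  obtain ⟨hinv, hT⟩ := N.fixedRing hlam hfix
  haveI := Groth.L09.RInvBasic.isIntegral hinv hT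
  obtain ⟨M, -, hM, hMq⟩ := Ideal.exists_ideal_over_prime_of_isIntegral N.q.asIdeal (⊥ : Ideal (N.T ⊗[S] R))
    (by rw [← RingHom.ker_eq_comap_bot, (RingHom.injective_iff_ker_eq_bot _).1 hT.1]; exact bot_le)
  refine ⟨M, hM, hMq, ?_⟩
  rw [IsScalarTower.algebraMap_eq S N.T (N.T ⊗[S] R), ← Ideal.comap_comap, hMq, N.comap_q]

/-- Inverting a norm near the point. -/
theorem exists_invert (hlam : ∀ r, lam (lam r) = r) (hfix : RInv.IsFixedRing S R lam.toRingEquiv)
    (M : Ideal (N.T ⊗[S] R)) [M.IsPrime] (hM : M.comap (algebraMap N.T (N.T ⊗[S] R)) = N.q.asIdeal)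
    (x : N.T ⊗[S] R) (hx : x ∉ M) (hx' : lamT N.T lam x ∉ M) :
    ∃ (N' : Nbhd p) (φ : N.T →ₐ[S] N'.T), IsUnit (mapR (R := R) φ x) := by
  obtain ⟨hinv, hT⟩ := N.fixedRing hlam hfix
  obtain ⟨s, hs⟩ := Groth.L09.RInvBasic.exists_norm hinv hT x
  obtain ⟨N', φ, hu, -⟩ := N.exists_away s (by
    rw [← hM, Ideal.mem_comap, hs]
    exact fun h => (‹M.IsPrime›.mem_or_mem h).elim hx hx')
  exact ⟨N', φ, isUnit_mapR hs φ hu⟩

end Nbhd

/-- Near every point the matrix of a presentation is hermitian or skew hermitian. -/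
theorem exists_normalise (hlam : ∀ r, lam (lam r) = r) (hfix : RInv.IsFixedRing S R lam.toRingEquiv) {n : ℕ}
    (hn : 0 < n) (hA : AzInv.IsAzumayaDeg R A n) (t : AzInv.LamInv R A lam) (p : PrimeSpectrum S)
    (hp : (2 : S) ∉ p.asIdeal ∨ ¬ Ram lam p ∨ Odd n) :
    ∃ (N : Nbhd p) (W : Matrix (Fin n) (Fin n) (N.T ⊗[S] R)), Nonempty (Pres N.T t (Fin n) W) ∧
      (star' N.T lam W = W ∨ (Ram lam p ∧ (2 : S) ∉ p.asIdeal ∧ ¬ Odd n ∧ star' N.T lam W = -W)) := by
  haveI : Nonempty (Fin n) := ⟨⟨0, hn⟩⟩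
  obtain ⟨N, W, ⟨P⟩⟩ := exists_pres hlam hfix hn hA t p
  obtain ⟨e, he, hee⟩ := P.exists_sign hlam
  obtain ⟨hinv, hT⟩ := N.fixedRing hlam hfix
  obtain ⟨M, hM, hMq, hMp⟩ := N.exists_prime hlam hfix
  have heu : IsUnit e := IsUnit.of_mul_eq_one_right _ hee
  -- scaling by `c` near the point
  have key : ∀ (c δ : N.T ⊗[S] R), lamT N.T lam c * e = δ * c → c ∉ M → lamT N.T lam c ∉ M →
      ∃ (N' : Nbhd p) (φ : N.T →ₐ[S] N'.T) (W' : Matrix (Fin n) (Fin n) (N'.T ⊗[S] R)),
        Nonempty (Pres N'.T t (Fin n) W') ∧ star' N'.T lam W' = mapR φ δ • W' := by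
    intro c δ hc hcM hcM'
    obtain ⟨N', φ, hu⟩ := N.exists_invert hlam hfix M hMq c hcM hcM'
    obtain ⟨P', -⟩ := P.exists_baseChange φ
    refine ⟨N', φ, _, ⟨P'.scale (mapR φ c) hu⟩, ?_⟩
    rw [star'_smul, star'_map_eq φ he, mapR_lamT, smul_smul, smul_smul, ← map_mul, ← map_mul, hc]
  by_cases hodd : Odd n
  · obtain ⟨k, hk⟩ := hodd
    have hd : lamT N.T lam W.det = e ^ n * W.det := by
      have h := congrArg Matrix.det he
      rw [Matrix.det_smul, Fintype.card_fin, star', Matrix.det_transpose] at h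
      rw [← h, ← RingEquiv.coe_toRingHom, RingHom.map_det]
      rfl
    have hcu : IsUnit (W.det * e ^ (k + 1)) := ((Matrix.isUnit_iff_isUnit_det _).1 P.isUnit).mul (heu.pow _)
    refine ⟨N, _, ⟨P.scale _ hcu⟩, Or.inl ?_⟩
    rw [star'_smul, he, smul_smul]
    congr 1
    rw [map_mul, map_pow, hd, show e ^ n = e ^ (2 * k + 1) by rw [← hk]]
    calc e ^ (2 * k + 1) * W.det * lamT N.T lam e ^ (k + 1) * e
        = W.det * e ^ (k + 1) * (lamT N.T lam e * e) ^ (k + 1) := by ring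
      _ = W.det * e ^ (k + 1) := by rw [hee, one_pow, mul_one]
  by_cases hex : ∃ a, a + e * lamT N.T lam a ∉ M
  · obtain ⟨a, ha⟩ := hex
    have hc : lamT N.T lam (a + e * lamT N.T lam a) * e = 1 * (a + e * lamT N.T lam a) := by
      rw [map_add, map_mul, hinv a]
      linear_combination a * hee
    have ha' : lamT N.T lam (a + e * lamT N.T lam a) ∉ M := fun h =>
      ha (by rw [← one_mul (a + e * lamT N.T lam a), ← hc]; exact M.mul_mem_right e h)
    obtain ⟨N', φ, W', hP', hW'⟩ := key _ 1 hc ha ha'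
    exact ⟨N', W', hP', Or.inl (by rw [hW', map_one, one_smul])⟩
  push Not at hex
  have h1 : 1 + e ∈ M := by simpa using hex 1
  have hram : Ram lam p := fun r a ha => by
    have hx := hex ((1 : N.T) ⊗ₜ[S] r)
    rw [Groth.L09.RInvBranch.lamT_tmul] at hx
    have h3 : (1 : N.T) ⊗ₜ[S] r - (1 : N.T) ⊗ₜ[S] lam r ∈ M := by
      have : ((1 : N.T) ⊗ₜ[S] r + e * (1 : N.T) ⊗ₜ[S] lam r) - (1 + e) * (1 : N.T) ⊗ₜ[S] lam r ∈ M :=
        sub_mem hx (M.mul_mem_right _ h1)
      convert this using 1; ring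
    rw [← hMp, Ideal.mem_comap, ← (Algebra.TensorProduct.includeRight : R →ₐ[S] N.T ⊗[S] R).commutes, ha, map_mul,
      map_sub]
    exact M.mul_mem_left _ h3
  have h2 : (2 : S) ∉ p.asIdeal := hp.elim id fun h => absurd h (by tauto)
  have hc : lamT N.T lam (1 - e) * e = (-1) * (1 - e) := by
    rw [map_sub, map_one]; linear_combination -hee
  have hce : (1 - e : N.T ⊗[S] R) ∉ M := fun h => h2 (by
    rw [← hMp, Ideal.mem_comap, map_ofNat]
    have := add_mem h h1
    rwa [show (1 - e) + (1 + e) = (2 : N.T ⊗[S] R) by ring] at this)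
  have hce' : lamT N.T lam (1 - e) ∉ M := fun h =>
    hce (by simpa using M.mul_mem_right e h |> fun h' => (neg_mem (hc ▸ h' : (-1 : N.T ⊗[S] R) * (1 - e) ∈ M)))
  obtain ⟨N', φ, W', hP', hW'⟩ := key _ (-1) hc hce hce'
  exact ⟨N', W', hP', Or.inr ⟨hram, h2, hodd, by rw [hW', map_neg, map_one, neg_one_smul]⟩⟩

section Local

variable {T : Type u} [CommRing T] [Algebra S T] (q : Ideal T) [q.IsPrime]

/-- The map to the localisation at a prime of the base. -/
abbrev incLoc (R : Type v) [CommRing R] [Algebra S R] : T ⊗[S] R →ₐ[T] Localization.AtPrime q ⊗[T] (T ⊗[S] R) :=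
  Algebra.TensorProduct.includeRight

/-- A matrix over the localisation, with denominators cleared. -/
theorem exists_clear {κ μ : Type*} [Finite κ] [Finite μ]
    (V : Matrix κ μ (Localization.AtPrime q ⊗[T] (T ⊗[S] R))) :
    ∃ (s : T) (V₀ : Matrix κ μ (T ⊗[S] R)), s ∉ q ∧ V₀.map (incLoc q R) = s • V := by
  haveI : IsLocalizedModule q.primeCompl (TensorProduct.mk T (Localization.AtPrime q) (T ⊗[S] R) 1) :=
    IsLocalization.tensorProduct_isLocalizedModule q.primeCompl (Localization.AtPrime q)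
  obtain ⟨s, hs⟩ := IsLocalizedModule.exist_integer_multiples_of_finite q.primeCompl
    (TensorProduct.mk T (Localization.AtPrime q) (T ⊗[S] R) 1) fun k : κ × μ => V k.1 k.2
  choose g hg using hs
  exact ⟨s, Matrix.of fun i j => g (i, j), s.2, Matrix.ext fun i j => hg (i, j)⟩

/-- Finitely many elements vanishing at a prime are killed by one element outside it. -/
theorem exists_kill {κ : Type*} (F : Finset κ) (x : κ → T ⊗[S] R) (hx : ∀ k ∈ F, incLoc q R (x k) = 0) :
    ∃ s : T, s ∉ q ∧ ∀ k ∈ F, algebraMap T (T ⊗[S] R) s * x k = 0 := by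
  classical
  haveI : IsLocalizedModule q.primeCompl (TensorProduct.mk T (Localization.AtPrime q) (T ⊗[S] R) 1) :=
    IsLocalization.tensorProduct_isLocalizedModule q.primeCompl (Localization.AtPrime q)
  have h : ∀ k : F, ∃ s : q.primeCompl, s • x k.1 = 0 := fun k =>
    (IsLocalizedModule.eq_zero_iff q.primeCompl (TensorProduct.mk T (Localization.AtPrime q) (T ⊗[S] R) 1)).1
      (hx k.1 k.2)
  choose s hs using h
  refine ⟨∏ k : F, (s k : T), ?_, fun k hk => ?_⟩
  · have : (∏ k : F, (s k : T)) ∈ q.primeCompl := prod_mem fun k _ => (s k).2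
    exact this
  · have h1 : algebraMap T (T ⊗[S] R) (s ⟨k, hk⟩ : T) * x k = 0 := by
      rw [← Algebra.smul_def]; exact hs ⟨k, hk⟩
    rw [← Finset.mul_prod_erase _ _ (Finset.mem_univ (⟨k, hk⟩ : F)), map_mul, mul_right_comm, h1, zero_mul]

end Local

end Groth.L11.Az
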