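import Groth.Agent.L11.Az.NFBasic
import Groth.Agent.S15583
import Groth.Agent.S15584
import Groth.Agent.S17363

/-!
Normal forms of presentations near a point.
-/

set_option autoImplicit false
universe u v w w'

open scoped TensorProduct Matrix
open Groth.L09.RInvBranch (lamT lamA)

noncomputable section

namespace Groth.L11.Az

/-- The standard `2 × 2` alternating matrix. -/
def J2 (B : Type*) [CommRing B] : Matrix (Fin 2) (Fin 2) B := Matrix.of ![![0, 1], ![-1, 0]]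

theorem smul_congr {X : Type*} [CommRing X] {ι : Type*} [Fintype ι] (a : X) (P Q M : Matrix ι ι X) :
    a • P * Q * (a • M) = (a * a) • (P * Q * M) := by
  rw [Matrix.smul_mul, Matrix.smul_mul, Matrix.mul_smul, smul_smul]

theorem map_J2 {B B' : Type*} [CommRing B] [CommRing B'] (f : B →+* B') (i j : Fin 2) :
    f (J2 B i j) = J2 B' i j := by
  fin_cases i <;> fin_cases j <;> simp [J2]

/-- A block diagonal matrix. -/
def blk {B : Type*} [CommRing B] {m : ℕ} (F : Fin m → Matrix (Fin 2) (Fin 2) B) :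
    Matrix (Fin m × Fin 2) (Fin m × Fin 2) B :=
  Matrix.compRingEquiv (Fin m) (Fin 2) B (Matrix.diagonal F)

/-- The standard alternating matrix. -/
def stdAlt (B : Type*) [CommRing B] (m : ℕ) : Matrix (Fin m × Fin 2) (Fin m × Fin 2) B := blk fun _ => J2 B

theorem blk_apply {B : Type*} [CommRing B] {m : ℕ} (F : Fin m → Matrix (Fin 2) (Fin 2) B) (k l : Fin m) (i j : Fin 2) :
    blk F (k, i) (l, j) = if k = l then F k i j else 0 := by
  show Matrix.diagonal F k l i j = _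
  rw [Matrix.diagonal_apply]
  split_ifs <;> rfl

theorem blk_mul {B : Type*} [CommRing B] {m : ℕ} (F G : Fin m → Matrix (Fin 2) (Fin 2) B) :
    blk F * blk G = blk fun k => F k * G k := by
  rw [blk, blk, blk, ← map_mul, Matrix.diagonal_mul_diagonal]

theorem isUnit_blk {B : Type*} [CommRing B] {m : ℕ} {F : Fin m → Matrix (Fin 2) (Fin 2) B} (h : ∀ k, IsUnit (F k)) :
    IsUnit (blk F) := by
  refine isUnit_iff_exists.2 ⟨blk fun k => ↑(h k).unit⁻¹, ?_, ?_⟩ <;> rw [blk_mul]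
  · simp only [IsUnit.mul_val_inv]
    rw [blk, Matrix.diagonal_one, map_one]
  · simp only [IsUnit.val_inv_mul]
    rw [blk, Matrix.diagonal_one, map_one]

theorem map_blk {B B' : Type*} [CommRing B] [CommRing B'] (f : B →+* B') {m : ℕ}
    (F : Fin m → Matrix (Fin 2) (Fin 2) B) : (blk F).map f = blk fun k => (F k).map f := by
  ext ⟨k, i⟩ ⟨l, j⟩
  rw [Matrix.map_apply, blk_apply, blk_apply, apply_ite f, map_zero]
  rfl

theorem map_stdAlt {B B' : Type*} [CommRing B] [CommRing B'] (f : B →+* B') (m : ℕ) :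
    (stdAlt B m).map f = stdAlt B' m := by
  rw [stdAlt, map_blk, stdAlt]
  congr 1
  funext k
  ext i j
  fin_cases i <;> fin_cases j <;> simp [J2]

theorem stdAlt_transpose (B : Type*) [CommRing B] (m : ℕ) : (stdAlt B m)ᵀ = -stdAlt B m := by
  ext ⟨k, i⟩ ⟨l, j⟩
  rw [Matrix.transpose_apply, Matrix.neg_apply, stdAlt, blk_apply, blk_apply]
  rcases eq_or_ne k l with rfl | h
  · fin_cases i <;> fin_cases j <;> simp [J2]
  · simp [h, h.symm]

variable {S : Type u} [CommRing S] {R : Type v} [CommRing R] [Algebra S R] {lam : R ≃ₐ[S] R}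
  {A : Type w} [Ring A] [Algebra S A] [Algebra R A] [IsScalarTower S R A] {t : AzInv.LamInv R A lam}

theorem star'_blk {T : Type*} [CommRing T] [Algebra S T] {m : ℕ} (F : Fin m → Matrix (Fin 2) (Fin 2) (T ⊗[S] R)) :
    star' T lam (blk F) = blk fun k => ((F k).map (lamT T lam))ᵀ := by
  ext ⟨k, i⟩ ⟨l, j⟩
  rw [star'_apply, blk_apply, blk_apply, apply_ite (lamT T lam), map_zero]
  rcases eq_or_ne k l with rfl | h
  · simp
  · simp [h, h.symm]

/-- Changing coordinates to a given matrix. -/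
theorem Pres.exists_congr {T : Type*} [CommRing T] [Algebra S T] {ι : Type*} [Fintype ι] [DecidableEq ι]
    {W : Matrix ι ι (T ⊗[S] R)} (hlam : ∀ r, lam (lam r) = r) (P : Pres T t ι W) (V : Matrix ι ι (T ⊗[S] R))
    (hV : IsUnit V) : Nonempty (Pres T t ι (star' T lam V * W * V)) :=
  ⟨(P.congr (isUnit_star' (lam := lam) hV).unit).ofEq (by rw [IsUnit.unit_spec, star'_star' hlam])⟩

/-- The algebra is near the point that of matrices with the transpose. -/
def HasSym (t : AzInv.LamInv R A lam) (n : ℕ) (p : PrimeSpectrum S) : Prop :=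
  ∃ N : Nbhd p, Nonempty (Pres N.T t (Fin n) 1)

/-- The algebra is near the point that of matrices with the symplectic involution. -/
def HasAlt (t : AzInv.LamInv R A lam) (n : ℕ) (p : PrimeSpectrum S) : Prop :=
  ∃ (N : Nbhd p) (m : ℕ), n = m * 2 ∧ Nonempty (Pres N.T t (Fin m × Fin 2) (stdAlt (N.T ⊗[S] R) m))

section
variable {T : Type u} [CommRing T] [Algebra S T] (q : Ideal T) [q.IsPrime] (hlam : ∀ r, lam (lam r) = r)
  (hT : RInv.IsFixedRing T (T ⊗[S] R) (lamT T lam))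

/-- The involution of the localisation. -/
abbrev lamLoc : Localization.AtPrime q ⊗[T] (T ⊗[S] R) ≃+* Localization.AtPrime q ⊗[T] (T ⊗[S] R) :=
  lamT (Localization.AtPrime q) (lamA hT)

theorem lamLoc_inc (x : T ⊗[S] R) : lamLoc q hT (incLoc q R x) = incLoc q R (lamT T lam x) :=
  Groth.L09.RInvBranch.lamT_tmul _ _ _ _

include hlam in
theorem fixedLoc : Function.Involutive (lamLoc q hT) ∧
    RInv.IsFixedRing (Localization.AtPrime q) (Localization.AtPrime q ⊗[T] (T ⊗[S] R)) (lamLoc q hT) :=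
  Groth.L09.RInvBranch.fixed_bc (Groth.L09.RInvBranch.lamT_involutive T hlam) hT (Localization.AtPrime q)

theorem incLoc_algebraMap (c : T) :
    incLoc q R (algebraMap T (T ⊗[S] R) c) =
      algebraMap (Localization.AtPrime q) (Localization.AtPrime q ⊗[T] (T ⊗[S] R)) (algebraMap T _ c) := by
  rw [AlgHom.commutes, ← IsScalarTower.algebraMap_apply]

include hlam hT in
/-- Scalars in the Jacobson radical lie in the prime. -/
theorem mem_of_jacobson {c : T} (h : incLoc q R (algebraMap T (T ⊗[S] R) c) ∈ Ring.jacobson _) : c ∈ q := by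
  obtain ⟨hl, hB⟩ := fixedLoc q hlam hT
  haveI : Nontrivial (Localization.AtPrime q ⊗[T] (T ⊗[S] R)) :=
    ⟨⟨algebraMap (Localization.AtPrime q) _ 0, algebraMap (Localization.AtPrime q) _ 1, fun h => zero_ne_one (hB.1 h)⟩⟩
  obtain ⟨I, hI⟩ := Ideal.exists_maximal (Localization.AtPrime q ⊗[T] (T ⊗[S] R))
  rw [incLoc_algebraMap, Groth.L09.RInvBasic.mem_jacobson_iff hl hB I,
    Groth.L09.RInvBasic.algebraMap_mem_iff hl hB I] at h
  exact (IsLocalization.AtPrime.to_map_mem_maximal_iff _ q c).1 h.1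

include hlam in
/-- A congruence over the localisation, spread out to a matrix over the base change. -/
theorem exists_spread {n : ℕ} (W : Matrix (Fin n) (Fin n) (T ⊗[S] R))
    (v : Matrix (Fin n) (Fin n) (Localization.AtPrime q ⊗[T] (T ⊗[S] R))) (hv : IsUnit v) :
    ∃ (s c : T) (V : Matrix (Fin n) (Fin n) (T ⊗[S] R)), s ∉ q ∧ c ∉ q ∧
      algebraMap T (T ⊗[S] R) c = V.det * lamT T lam V.det ∧
      (star' T lam V * W * V).map (incLoc q R) =
        (algebraMap T (Localization.AtPrime q ⊗[T] (T ⊗[S] R)) s * algebraMap T _ s) • ((v.map (lamLoc q hT))ᵀ * W.map (incLoc q R) * v) := by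
  obtain ⟨s, V, hs, hV⟩ := exists_clear q v
  obtain ⟨hl, hB⟩ := fixedLoc q hlam hT
  obtain ⟨c, hc⟩ := Groth.L09.RInvBasic.exists_norm (Groth.L09.RInvBranch.lamT_involutive T hlam) hT V.det
  have hsu : IsUnit (algebraMap T (Localization.AtPrime q) s) :=
    IsLocalization.map_units _ (⟨s, hs⟩ : q.primeCompl)
  have hd : IsUnit (incLoc q R V.det) := by
    rw [AlgHom.map_det, AlgHom.mapMatrix_apply, hV, ← algebraMap_smul (Localization.AtPrime q) s,
      ← algebraMap_smul (Localization.AtPrime q ⊗[T] (T ⊗[S] R)) (algebraMap T (Localization.AtPrime q) s),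
      Matrix.det_smul]
    exact ((hsu.map _).pow _).mul ((Matrix.isUnit_iff_isUnit_det v).1 hv)
  refine ⟨s, c, V, hs, fun hcq => ?_, hc, ?_⟩
  · have hu : IsUnit (incLoc q R (algebraMap T (T ⊗[S] R) c)) := by
      rw [hc, map_mul, ← lamLoc_inc q hT]
      exact hd.mul (hd.map _)
    rw [incLoc_algebraMap] at hu
    exact (IsLocalization.AtPrime.isUnit_to_map_iff _ q c).1 (Groth.L09.RInvBasic.isUnit_of_map hB hu) hcq
  · rw [← algebraMap_smul (Localization.AtPrime q ⊗[T] (T ⊗[S] R)) s v] at hV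
    have hst : (star' T lam V).map (incLoc q R) =
        algebraMap T (Localization.AtPrime q ⊗[T] (T ⊗[S] R)) s • (v.map (lamLoc q hT))ᵀ := by
      refine Matrix.ext fun i j => ?_
      have h : incLoc q R (V j i) = algebraMap T _ s * v j i := congrFun (congrFun hV j) i
      show incLoc q R (lamT T lam (V j i)) = algebraMap T _ s * lamLoc q hT (v j i)
      rw [← lamLoc_inc q hT, h, map_mul,
        IsScalarTower.algebraMap_apply T (Localization.AtPrime q) (Localization.AtPrime q ⊗[T] (T ⊗[S] R)),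
        Groth.L09.RInvBasic.lam_algebraMap hB]
    rw [Matrix.map_mul, Matrix.map_mul, hst, hV]
    exact smul_congr _ _ _ _

end

/-- Hermitian case. -/
theorem hasSym_of_herm (hlam : ∀ r, lam (lam r) = r) (hfix : RInv.IsFixedRing S R lam.toRingEquiv)
    (hsq : HasSqrt S) {n : ℕ} {p : PrimeSpectrum S} (hp : (2 : S) ∉ p.asIdeal ∨ ¬ Ram lam p ∨ Odd n) (N : Nbhd p)
    {W : Matrix (Fin n) (Fin n) (N.T ⊗[S] R)} (P : Pres N.T t (Fin n) W) (hW : star' N.T lam W = W) :
    HasSym t n p := by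
  classical
  obtain ⟨hinv, hT⟩ := N.fixedRing hlam hfix
  obtain ⟨hl, hB⟩ := fixedLoc N.q.asIdeal hlam hT
  have hcase : (∃ a, lamLoc N.q.asIdeal hT a - a ∉ Ring.jacobson _) ∨
      ((1 : Localization.AtPrime N.q.asIdeal ⊗[N.T] (N.T ⊗[S] R)) + 1 ∉ Ring.jacobson _) ∨ Odd n := by
    rcases hp with h2 | hram | ho
    · refine Or.inr (Or.inl fun h => N.two_notMem h2 (mem_of_jacobson N.q.asIdeal hlam hT ?_))
      rwa [map_ofNat, map_ofNat, ← one_add_one_eq_two]
    · refine Or.inl ?_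
      simp only [Ram, not_forall] at hram
      obtain ⟨r, a, ha, hap⟩ := hram
      refine ⟨incLoc (S := S) N.q.asIdeal R ((1 : N.T) ⊗ₜ[S] r), fun h => hap ?_⟩
      rw [← N.comap_q, Ideal.mem_comap]
      refine mem_of_jacobson N.q.asIdeal hlam hT ?_
      rw [lamLoc_inc, Groth.L09.RInvBranch.lamT_tmul, ← map_sub] at h
      rw [← IsScalarTower.algebraMap_apply,
        ← (Algebra.TensorProduct.includeRight : R →ₐ[S] N.T ⊗[S] R).commutes, ha,
        show (r - lam r) * (r - lam r) = (lam r - r) * (lam r - r) by ring, map_mul, map_mul, map_sub]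
      exact Ideal.mul_mem_left _ _ h
    · exact Or.inr (Or.inr ho)
  obtain ⟨v, hv, d, hd⟩ := Groth.Agent.S15583.result (Localization.AtPrime N.q.asIdeal) _ (lamLoc N.q.asIdeal hT) hl hB
    n 1 (Or.inl rfl) (W.map (incLoc (S := S) N.q.asIdeal R)) (P.isUnit.map (incLoc (S := S) N.q.asIdeal R).mapMatrix) (by
      rw [one_smul]
      conv_rhs => rw [← hW]
      ext i j
      simp only [Matrix.transpose_apply, Matrix.map_apply, lamLoc_inc, star'_apply]) hcase
  obtain ⟨s, c, V, hs, hc, hcV, hX⟩ := exists_spread N.q.asIdeal hlam hT W v hv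
  set X := star' N.T lam V * W * V
  obtain ⟨s', hs', hkill⟩ := exists_kill N.q.asIdeal (Finset.univ.filter fun ij : Fin n × Fin n => ij.1 ≠ ij.2)
    (fun ij => X ij.1 ij.2) fun ij hij => by
      have h := congrFun (congrFun hX ij.1) ij.2
      rw [Matrix.map_apply] at h
      rw [h, hd, Matrix.smul_apply, Matrix.diagonal_apply_ne _ (Finset.mem_filter.1 hij).2, smul_zero]
  obtain ⟨N₁, φ, hu, -⟩ := N.exists_away (c * s') (N.q.asIdeal.primeCompl.mul_mem hc hs')
  rw [map_mul, IsUnit.mul_iff] at hu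
  obtain ⟨P₁, -⟩ := P.exists_baseChange φ
  have hV : IsUnit (V.map (mapR φ)) := by
    rw [Matrix.isUnit_iff_isUnit_det, ← AlgHom.mapMatrix_apply, ← AlgHom.map_det]
    exact isUnit_mapR hcV φ hu.1
  obtain ⟨P₂⟩ := P₁.exists_congr hlam _ hV
  have hX₁ : star' N₁.T lam (V.map (mapR φ)) * W.map (mapR φ) * V.map (mapR φ) = X.map (mapR φ) := by
    rw [Matrix.map_mul, Matrix.map_mul, map_star']
  have hherm : star' N.T lam X = X := by
    simp only [X, star'_mul, hW, star'_star' hlam, mul_assoc]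
  let d₁ : Fin n → N₁.T ⊗[S] R := fun i => mapR φ (X i i)
  have hdiag : X.map (mapR φ) = Matrix.diagonal d₁ := by
    ext i j
    rcases eq_or_ne i j with rfl | hij
    · simp [d₁]
    · rw [Matrix.diagonal_apply_ne _ hij, Matrix.map_apply]
      have h := congrArg (mapR φ) (hkill (i, j) (Finset.mem_filter.2 ⟨Finset.mem_univ _, hij⟩))
      rw [map_mul, map_zero, mapR_algebraMap] at h
      exact (hu.2.map (algebraMap N₁.T (N₁.T ⊗[S] R))).mul_right_eq_zero.1 h
  have hd₁ : IsUnit (Matrix.diagonal d₁) := by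
    have := P₂.isUnit
    rwa [hX₁, hdiag] at this
  obtain ⟨hinv₁, hT₁⟩ := N₁.fixedRing hlam hfix
  have hfixed : ∀ i, ∃ y : N₁.T, IsUnit y ∧ algebraMap N₁.T _ y = d₁ i := fun i => by
    have h := congrFun (congrFun hherm i) i
    rw [star'_apply] at h
    obtain ⟨y, hy⟩ := (hT₁.2 (d₁ i)).1 (by rw [mapR_lamT, h])
    refine ⟨y, Groth.L09.RInvBasic.isUnit_of_map hT₁ ?_, hy⟩
    rw [hy]
    rw [Matrix.isUnit_iff_isUnit_det, Matrix.det_diagonal] at hd₁
    exact isUnit_of_dvd_unit (Finset.dvd_prod_of_mem d₁ (Finset.mem_univ i)) hd₁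
  choose y hy hyd using hfixed
  obtain ⟨N₂, ψ, -, hroot⟩ := N₁.exists_sqrts hsq Finset.univ y fun i _ => hy i
  choose z hz using fun i => hroot i (Finset.mem_univ i)
  have hzu : ∀ i, IsUnit (z i) := fun i =>
    isUnit_of_mul_isUnit_left (hz i ▸ (hy i).map ψ : IsUnit (z i * z i))
  choose zi hzi using fun i => (hzu i).exists_left_inv
  obtain ⟨P₃, -⟩ := (P₂.ofEq (hX₁.trans hdiag)).exists_baseChange ψ
  let E : Fin n → N₂.T ⊗[S] R := fun i => algebraMap N₂.T _ (zi i)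
  have hE : IsUnit (Matrix.diagonal E) := by
    rw [Matrix.isUnit_iff_isUnit_det, Matrix.det_diagonal]
    refine IsUnit.prod_univ_iff.2 fun i => ?_
    exact (IsUnit.of_mul_eq_one (z i) (hzi i)).map _
  obtain ⟨P₄⟩ := P₃.exists_congr hlam _ hE
  refine ⟨N₂, ⟨P₄.ofEq ?_⟩⟩
  have hst : star' N₂.T lam (Matrix.diagonal E) = Matrix.diagonal E := by
    rw [star', Matrix.diagonal_map (map_zero _), Matrix.diagonal_transpose]
    congr 1; funext i; exact lamT_algebraMap _
  rw [hst, Matrix.diagonal_map (map_zero _), Matrix.diagonal_mul_diagonal, Matrix.diagonal_mul_diagonal,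
    ← Matrix.diagonal_one]
  congr 1
  funext i
  show E i * mapR ψ (d₁ i) * E i = 1
  rw [← hyd, mapR_algebraMap, ← map_mul, ← map_mul, ← hz, ← map_one (algebraMap N₂.T (N₂.T ⊗[S] R))]
  congr 1
  linear_combination (zi i * z i + 1) * hzi i

/-- A block form congruent to the standard one above a ramified point. -/
theorem exists_blocks (hlam : ∀ r, lam (lam r) = r) (hfix : RInv.IsFixedRing S R lam.toRingEquiv)
    {n : ℕ} {p : PrimeSpectrum S} (h2 : (2 : S) ∉ p.asIdeal) (hram : Ram lam p) (N : Nbhd p)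
    {W : Matrix (Fin n) (Fin n) (N.T ⊗[S] R)} (P : Pres N.T t (Fin n) W) (hW : star' N.T lam W = -W) :
    ∃ (m : ℕ) (N₁ : Nbhd p) (F : Fin m → Matrix (Fin 2) (Fin 2) (N₁.T ⊗[S] R)),
      n = m * 2 ∧ Nonempty (Pres N₁.T t (Fin m × Fin 2) (blk F)) ∧
      (∀ k i j, lamT N₁.T lam (F k i j) = -F k j i) ∧
      ∀ (M : Ideal (N₁.T ⊗[S] R)), M.IsPrime → M.comap (algebraMap N₁.T (N₁.T ⊗[S] R)) = N₁.q.asIdeal →
        ∀ k i j, F k i j - J2 (N₁.T ⊗[S] R) i j ∈ M := by
  classical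
  obtain ⟨hinv, hT⟩ := N.fixedRing hlam hfix
  obtain ⟨hl, hB⟩ := fixedLoc N.q.asIdeal hlam hT
  haveI := Groth.L09.RInvBasic.isIntegral hl hB
  have hid : ∀ a, lamLoc N.q.asIdeal hT a - a ∈ Ring.jacobson _ := fun a => by
    rw [← Ideal.jacobson_bot, Ideal.jacobson, Ideal.mem_sInf]
    rintro I ⟨-, hI⟩
    have hIp : (I.comap (incLoc (S := S) N.q.asIdeal R)).comap (algebraMap S (N.T ⊗[S] R)) = p.asIdeal := by
      have e1 : (I.comap (incLoc (S := S) N.q.asIdeal R)).comap (algebraMap N.T (N.T ⊗[S] R)) = N.q.asIdeal := by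
        ext c
        rw [Ideal.mem_comap, Ideal.mem_comap, incLoc_algebraMap, Groth.L09.RInvBasic.algebraMap_mem_iff hl hB I]
        exact IsLocalization.AtPrime.to_map_mem_maximal_iff _ _ c
      rw [IsScalarTower.algebraMap_eq S N.T (N.T ⊗[S] R), ← Ideal.comap_comap, e1, N.comap_q]
    haveI := hI.isPrime
    induction a using TensorProduct.induction_on with
    | zero => simp
    | add x y hx hy => rw [map_add, add_sub_add_comm]; exact add_mem hx hy
    | tmul b x =>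
      rw [show b ⊗ₜ[N.T] x = (b ⊗ₜ[N.T] (1 : N.T ⊗[S] R)) * incLoc (S := S) N.q.asIdeal R x by simp [incLoc], map_mul,
        lamLoc_inc, show lamLoc N.q.asIdeal hT (b ⊗ₜ[N.T] (1 : N.T ⊗[S] R)) = b ⊗ₜ[N.T] (1 : N.T ⊗[S] R) by
          rw [Groth.L09.RInvBranch.lamT_tmul, map_one], ← mul_sub, ← map_sub]
      exact I.mul_mem_left _ (hram.sub_mem hlam hfix _ hIp x)
  have h2u : IsUnit (2 : Localization.AtPrime N.q.asIdeal ⊗[N.T] (N.T ⊗[S] R)) := by
    have h := (IsLocalization.map_units (Localization.AtPrime N.q.asIdeal)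
      (⟨2, N.two_notMem h2⟩ : N.q.asIdeal.primeCompl)).map
      (algebraMap (Localization.AtPrime N.q.asIdeal) (Localization.AtPrime N.q.asIdeal ⊗[N.T] (N.T ⊗[S] R)))
    rwa [map_ofNat, map_ofNat] at h
  obtain ⟨hev, v, hv, hg⟩ := Groth.Agent.S15584.result (Localization.AtPrime N.q.asIdeal) _ (lamLoc N.q.asIdeal hT) hl hB
    n hid h2u (W.map (incLoc (S := S) N.q.asIdeal R)) (P.isUnit.map (incLoc (S := S) N.q.asIdeal R).mapMatrix) (by
      have e : ((W.map (incLoc (S := S) N.q.asIdeal R)).map (lamLoc N.q.asIdeal hT))ᵀ = (star' N.T lam W).map (incLoc (S := S) N.q.asIdeal R) := by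
        ext i j; simp only [Matrix.transpose_apply, Matrix.map_apply, lamLoc_inc, star'_apply]
      rw [e, hW, Matrix.map_neg _ (map_neg _), neg_neg])
  obtain ⟨m, rfl⟩ : ∃ m, n = m * 2 := ⟨n / 2, by obtain ⟨k, hk⟩ := hev; omega⟩
  obtain ⟨s, c, V, hs, hc, hcV, hX⟩ := exists_spread N.q.asIdeal hlam hT W v hv
  set X := star' N.T lam V * W * V
  set g := (v.map (lamLoc N.q.asIdeal hT))ᵀ * W.map (incLoc (S := S) N.q.asIdeal R) * v
  set e := finProdFinEquiv (m := m) (n := 2)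
  have hdiv : ∀ k i, (e (k, i)).val / 2 = k.val := fun k i => by
    show (i.val + 2 * k.val) / 2 = _; omega
  have hpar : ∀ k i, Even (e (k, i)).val ↔ i = 0 := fun k i => by
    show Even (i.val + 2 * k.val) ↔ _
    fin_cases i <;> simp [Nat.even_add, Nat.even_mul]
  obtain ⟨s', hs', hkill⟩ := exists_kill N.q.asIdeal
    (Finset.univ.filter fun kl : (Fin m × Fin 2) × (Fin m × Fin 2) => kl.1.1 ≠ kl.2.1)
    (fun kl => X (e kl.1) (e kl.2)) fun kl hkl => by
      have h := congrFun (congrFun hX (e kl.1)) (e kl.2)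
      rw [Matrix.map_apply] at h
      rw [h, Matrix.smul_apply, (hg _ _).1, smul_zero]
      rw [hdiv kl.1.1 kl.1.2, hdiv kl.2.1 kl.2.2]
      exact fun h' => (Finset.mem_filter.1 hkl).2 (Fin.ext h')
  have hnear : ∀ k i j, X (e (k, i)) (e (k, j)) - algebraMap N.T _ (s * s) * J2 (N.T ⊗[S] R) i j ∈
      Ideal.comap (incLoc (S := S) N.q.asIdeal R) (Ring.jacobson _) := fun k i j => by
    have h := congrFun (congrFun hX (e (k, i))) (e (k, j))
    rw [Matrix.map_apply] at h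
    have hJ : incLoc (S := S) N.q.asIdeal R (J2 (N.T ⊗[S] R) i j) = J2 _ i j :=
      map_J2 (incLoc (S := S) N.q.asIdeal R).toRingHom i j
    rw [Ideal.mem_comap, map_sub, map_mul, h, hJ, Matrix.smul_apply, AlgHom.commutes, map_mul, smul_eq_mul, ← mul_sub]
    refine Ideal.mul_mem_left _ _ ?_
    obtain ⟨-, h1, h2, h3⟩ := hg (e (k, i)) (e (k, j))
    have hd : (e (k, i)).val / 2 = (e (k, j)).val / 2 := by rw [hdiv, hdiv]
    simp only [hpar] at h1 h2 h3
    fin_cases i <;> fin_cases j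
    · simpa [J2] using h1 hd (by simp)
    · simpa [J2] using h2 hd (by simp) (by simp)
    · simpa [J2, sub_eq_add_neg] using h3 hd (by simp) (by simp)
    · simpa [J2] using h1 hd (by simp)
  obtain ⟨N₁, φ, hu, hq⟩ := N.exists_away (c * s' * (s * s))
    (N.q.asIdeal.primeCompl.mul_mem (N.q.asIdeal.primeCompl.mul_mem hc hs') (N.q.asIdeal.primeCompl.mul_mem hs hs))
  rw [map_mul, map_mul, IsUnit.mul_iff, IsUnit.mul_iff] at hu
  obtain ⟨⟨huc, hus'⟩, huss⟩ := hu
  obtain ⟨P₁, -⟩ := P.exists_baseChange φ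
  have hV : IsUnit (V.map (mapR φ)) := by
    rw [Matrix.isUnit_iff_isUnit_det, ← AlgHom.mapMatrix_apply, ← AlgHom.map_det]
    exact isUnit_mapR hcV φ huc
  obtain ⟨P₂⟩ := P₁.exists_congr hlam _ hV
  have hX₁ : star' N₁.T lam (V.map (mapR φ)) * W.map (mapR φ) * V.map (mapR φ) = X.map (mapR φ) := by
    rw [Matrix.map_mul, Matrix.map_mul, map_star']
  obtain ⟨r, hr⟩ := huss.exists_left_inv
  let F : Fin m → Matrix (Fin 2) (Fin 2) (N₁.T ⊗[S] R) := fun k => Matrix.of fun i j =>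
    algebraMap N₁.T _ r * mapR φ (X (e (k, i)) (e (k, j)))
  have hXskew : star' N.T lam X = -X := by
    simp only [X, star'_mul, hW, star'_star' hlam, neg_mul, mul_neg, mul_assoc]
  refine ⟨m, N₁, F, rfl, ⟨(((P₂.ofEq hX₁).reindex e.symm).scale (algebraMap N₁.T _ r)
    ((IsUnit.of_mul_eq_one _ hr).map _)).ofEq ?_⟩, fun k i j => ?_, fun M hM hMq k i j => ?_⟩
  · ext ⟨k, i⟩ ⟨l, j⟩
    simp only [Matrix.smul_apply, Matrix.reindex_apply, Matrix.submatrix_apply, Equiv.symm_symm, Matrix.map_apply,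
      smul_eq_mul, blk_apply]
    split_ifs with hkl
    · subst hkl; rfl
    · have h := congrArg (mapR φ) (hkill ((k, i), (l, j)) (Finset.mem_filter.2 ⟨Finset.mem_univ _, hkl⟩))
      rw [map_mul, map_zero, mapR_algebraMap] at h
      rw [(hus'.map (algebraMap N₁.T (N₁.T ⊗[S] R))).mul_right_eq_zero.1 h, mul_zero]
  · have h := congrFun (congrFun hXskew (e (k, j))) (e (k, i))
    rw [star'_apply, Matrix.neg_apply] at h
    simp only [F, Matrix.of_apply]
    rw [map_mul, lamT_algebraMap, mapR_lamT, h, map_neg, mul_neg]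
  · haveI := hM
    let M₀ := M.comap (mapR (R := R) φ)
    have hM₀ : M₀.comap (algebraMap N.T (N.T ⊗[S] R)) = N.q.asIdeal := by
      ext x
      rw [Ideal.mem_comap, Ideal.mem_comap, mapR_algebraMap, ← Ideal.mem_comap (f := algebraMap N₁.T _), hMq,
        ← hq]
      rfl
    have hM₀p : M₀.comap (algebraMap S (N.T ⊗[S] R)) = p.asIdeal := by
      rw [IsScalarTower.algebraMap_eq S N.T (N.T ⊗[S] R), ← Ideal.comap_comap, hM₀, N.comap_q]
    set y := X (e (k, i)) (e (k, j)) - algebraMap N.T _ (s * s) * J2 (N.T ⊗[S] R) i j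
    obtain ⟨ny, hny⟩ := Groth.L09.RInvBasic.exists_norm hinv hT y
    have hnyq : ny ∈ N.q.asIdeal := mem_of_jacobson N.q.asIdeal hlam hT (by
      rw [hny, map_mul]; exact Ideal.mul_mem_right _ _ (hnear k i j))
    have hy : y ∈ M₀ := by
      rw [← hM₀, Ideal.mem_comap, hny] at hnyq
      refine (Ideal.IsPrime.mem_or_mem inferInstance hnyq).elim id fun h' => ?_
      have := M₀.sub_mem h' (hram.sub_mem hlam hfix M₀ hM₀p y)
      rwa [sub_sub_cancel] at this
    have e1 : F k i j - J2 (N₁.T ⊗[S] R) i j = algebraMap N₁.T _ r * mapR φ y := by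
      have hJ : mapR φ (J2 (N.T ⊗[S] R) i j) = J2 (N₁.T ⊗[S] R) i j := by
        fin_cases i <;> fin_cases j <;> simp [J2]
      simp only [F, Matrix.of_apply, y]
      rw [map_sub, map_mul, mapR_algebraMap, hJ, mul_sub, ← mul_assoc, ← map_mul, hr, map_one, one_mul]
    rw [e1]
    exact M.mul_mem_left _ hy

/-- Skew hermitian case above a ramified point. -/
theorem hasAlt_of_skew (hlam : ∀ r, lam (lam r) = r) (hfix : RInv.IsFixedRing S R lam.toRingEquiv)
    (hsq : HasSqrt S) {n : ℕ} {p : PrimeSpectrum S} (h2 : (2 : S) ∉ p.asIdeal) (hram : Ram lam p) (N : Nbhd p)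
    {W : Matrix (Fin n) (Fin n) (N.T ⊗[S] R)} (P : Pres N.T t (Fin n) W) (hW : star' N.T lam W = -W) :
    HasAlt t n p := by
  classical
  obtain ⟨m, N₀, F, rfl, ⟨P₀⟩, hskew, hnear⟩ := exists_blocks hlam hfix h2 hram N P hW
  obtain ⟨hinv, hT⟩ := N₀.fixedRing hlam hfix
  obtain ⟨M, hM, hMq, hMp⟩ := N₀.exists_prime hlam hfix
  have hsub := hram.sub_mem hlam hfix M hMp
  -- norms
  have hAD : ∀ k, ∃ u nb : N₀.T, algebraMap N₀.T (N₀.T ⊗[S] R) nb = F k 0 1 * lamT N₀.T lam (F k 0 1) ∧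
      algebraMap N₀.T (N₀.T ⊗[S] R) u = F k 0 1 * lamT N₀.T lam (F k 0 1) + F k 0 0 * F k 1 1 ∧
      nb ∉ N₀.q.asIdeal ∧ u ∉ N₀.q.asIdeal := fun k => by
    obtain ⟨nb, hnb⟩ := Groth.L09.RInvBasic.exists_norm hinv hT (F k 0 1)
    obtain ⟨ad, had⟩ := (hT.2 (F k 0 0 * F k 1 1)).1 (by rw [map_mul, hskew, hskew, neg_mul_neg])
    have hb : F k 0 1 - 1 ∈ M := by simpa [J2] using hnear M hM hMq k 0 1
    have ha : F k 0 0 ∈ M := by simpa [J2] using hnear M hM hMq k 0 0
    have hbM : F k 0 1 ∉ M := fun h => hM.ne_top ((Ideal.eq_top_iff_one _).2 (by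
      have := M.sub_mem h hb; rwa [sub_sub_cancel] at this))
    have hbM' : lamT N₀.T lam (F k 0 1) ∉ M := fun h => hbM (by
      have := M.sub_mem h (hsub (F k 0 1)); rwa [sub_sub_cancel] at this)
    have hnbq : nb ∉ N₀.q.asIdeal := by
      rw [← hMq, Ideal.mem_comap, hnb]; exact fun h => (hM.mem_or_mem h).elim hbM hbM'
    refine ⟨nb + ad, nb, hnb, by rw [map_add, hnb, had], hnbq, fun h => hnbq ?_⟩
    have hadq : ad ∈ N₀.q.asIdeal := by
      rw [← hMq, Ideal.mem_comap, had]; exact M.mul_mem_right _ ha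
    exact (Ideal.add_mem_iff_left _ hadq).1 h
  choose u nb hnb hu hnbq huq using hAD
  have hprod : 2 * ∏ k, nb k * u k ∉ N₀.q.asIdeal := N₀.q.asIdeal.primeCompl.mul_mem (N₀.two_notMem h2)
    (prod_mem fun k _ => N₀.q.asIdeal.primeCompl.mul_mem (hnbq k) (huq k))
  obtain ⟨N₁, φ₁, hu₁, -⟩ := N₀.exists_away _ hprod
  rw [map_mul, map_ofNat, map_prod, IsUnit.mul_iff, IsUnit.prod_univ_iff] at hu₁
  obtain ⟨h2u, huu⟩ := hu₁
  simp only [map_mul, IsUnit.mul_iff] at huu
  choose ib hib using fun k => (huu k).1.exists_left_inv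
  -- square roots
  obtain ⟨N₂, φ₂, -, hroot⟩ := N₁.exists_sqrts hsq Finset.univ (fun k => φ₁ (u k) * ib k)
    fun k _ => (huu k).2.mul (IsUnit.of_mul_eq_one _ (hib k))
  choose y hy using fun k => hroot k (Finset.mem_univ k)
  have h2q : (2 : N₂.T) ∉ N₂.q.asIdeal := N₂.two_notMem h2
  let z : Fin m → N₂.T := fun k => if 1 + y k ∈ N₂.q.asIdeal then -y k else y k
  have hz : ∀ k, z k * z k = φ₂ (φ₁ (u k) * ib k) ∧ 1 + z k ∉ N₂.q.asIdeal := fun k => by
    simp only [z]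
    split_ifs with hk
    · refine ⟨by rw [neg_mul_neg, hy], fun h => h2q ?_⟩
      have := N₂.q.asIdeal.add_mem hk h
      rwa [show (1 + y k) + (1 + -y k) = (2 : N₂.T) by ring] at this
    · exact ⟨hy k, hk⟩
  obtain ⟨N₃, φ₃, hu₃, -⟩ := N₂.exists_away (∏ k, (1 + z k)) fun h => by
    obtain ⟨k, -, hk⟩ := Ideal.IsPrime.prod_mem_iff.1 h
    exact (hz k).2 hk
  rw [map_prod, IsUnit.prod_univ_iff] at hu₃
  let Φ : N₀.T →ₐ[S] N₃.T := (φ₃.comp φ₂).comp φ₁
  obtain ⟨P₃, -⟩ := P₀.exists_baseChange Φ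
  let al := algebraMap N₃.T (N₃.T ⊗[S] R)
  let ρ := mapR (R := R) Φ
  obtain ⟨hinv₃, -⟩ := N₃.fixedRing hlam hfix
  choose ι₁ hι₁ using fun k => (hu₃ k).exists_left_inv
  obtain ⟨hh, hhh⟩ := (h2u.map (φ₃.comp φ₂)).exists_left_inv
  rw [map_ofNat] at hhh
  have hzu : ∀ k, IsUnit (φ₃ (z k)) := fun k => by
    refine isUnit_of_mul_isUnit_left (y := φ₃ (z k)) ?_
    rw [← map_mul, (hz k).1]
    exact (((huu k).2.mul (IsUnit.of_mul_eq_one _ (hib k))).map φ₂).map φ₃
  choose zi hzi using fun k => (hzu k).exists_left_inv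
  have key : ∀ k, ∃ v : Matrix (Fin 2) (Fin 2) (N₃.T ⊗[S] R), IsUnit v ∧
      (v.map (lamT N₃.T lam))ᵀ * (F k).map ρ * v = J2 (N₃.T ⊗[S] R) := fun k => by
    let ib₃ := al (φ₃ (φ₂ (ib k)))
    have hib₃ : ib₃ * al (Φ (nb k)) = 1 := by
      rw [← map_mul, show Φ (nb k) = φ₃ (φ₂ (φ₁ (nb k))) from rfl, ← map_mul, ← map_mul, hib, map_one, map_one,
        map_one]
    have hnb₃ : al (Φ (nb k)) = ρ (F k 0 1) * ρ (lamT N₀.T lam (F k 0 1)) := by
      rw [← map_mul, ← hnb, mapR_algebraMap]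
    have hu₃' : al (Φ (u k)) = ρ (F k 0 1) * ρ (lamT N₀.T lam (F k 0 1)) + ρ (F k 0 0) * ρ (F k 1 1) := by
      rw [← map_mul, ← map_mul, ← map_add, ← hu, mapR_algebraMap]
    have hfix' : ∀ c, lamT N₃.T lam (al c) = al c := fun c => lamT_algebraMap c
    obtain ⟨v, hv, hvv⟩ := Groth.Agent.S17363.congr_std (lamT N₃.T lam).toRingHom hinv₃ (ρ (F k 0 0)) (ρ (F k 0 1))
      (ρ (F k 1 1)) (ρ (lamT N₀.T lam (F k 0 1)) * ib₃) (al (φ₃ (z k))) (al (zi k)) (al (ι₁ k)) (al hh)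
      (by show lamT N₃.T lam (ρ _) = _; rw [mapR_lamT, hskew, map_neg])
      (by show lamT N₃.T lam (ρ _) = _; rw [mapR_lamT, hskew, map_neg])
      (by linear_combination hib₃ + (-ib₃) * hnb₃)
      (hfix' _) (hfix' _) (hfix' _) (hfix' _)
      (by
        show _ = 1 + ρ (F k 0 0) * (lamT N₃.T lam (ρ (lamT N₀.T lam (F k 0 1)) * ib₃) * ρ (F k 1 1) *
          (ρ (lamT N₀.T lam (F k 0 1)) * ib₃))
        rw [map_mul (lamT N₃.T lam), mapR_lamT, hinv, hfix', sq, ← map_mul, ← map_mul φ₃, (hz k).1, map_mul φ₂,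
          map_mul φ₃, map_mul al]
        change al (Φ (u k)) * ib₃ = _
        linear_combination ib₃ * hu₃' + (1 - ib₃ * ρ (F k 0 0) * ρ (F k 1 1)) * (hib₃ - ib₃ * hnb₃))
      (by rw [← map_mul, mul_comm, hzi, map_one])
      (by rw [← map_one al, ← map_add, ← map_mul, ← map_one φ₃, ← map_add, mul_comm, hι₁]; simp only [map_one])
      (by rw [← map_ofNat al 2, ← map_mul, hhh, map_one])
    refine ⟨v, hv, ?_⟩
    rw [show (F k).map ρ = Matrix.of ![![ρ (F k 0 0), ρ (F k 0 1)],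
      ![-(lamT N₃.T lam).toRingHom (ρ (F k 0 1)), ρ (F k 1 1)]] from ?_]
    · exact hvv
    ext i j
    fin_cases i <;> fin_cases j <;> simp only [Matrix.map_apply, Matrix.of_apply] <;> simp
    rw [show ((Algebra.TensorProduct.map (AlgHom.id N₃.T N₃.T) lam.toAlgHom) (ρ (F k 0 1))) =
      lamT N₃.T lam (ρ (F k 0 1)) from rfl, mapR_lamT, hskew, map_neg, neg_neg]
  choose v hv hvv using key
  obtain ⟨P₄⟩ := P₃.exists_congr hlam (blk v) (isUnit_blk hv)
  refine ⟨N₃, m, rfl, ⟨P₄.ofEq ?_⟩⟩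
  rw [star'_blk, ← AlgHom.coe_toRingHom, map_blk, blk_mul, blk_mul, stdAlt]
  congr 1
  funext k
  exact hvv k

/-- The normal form near a point. -/
theorem normalForm (hlam : ∀ r, lam (lam r) = r) (hfix : RInv.IsFixedRing S R lam.toRingEquiv)
    (hsq : HasSqrt S) {n : ℕ} (hn : 0 < n) (hA : AzInv.IsAzumayaDeg R A n) (t : AzInv.LamInv R A lam)
    (p : PrimeSpectrum S) (hp : (2 : S) ∉ p.asIdeal ∨ ¬ Ram lam p ∨ Odd n) :
    HasSym t n p ∨ (Ram lam p ∧ (2 : S) ∉ p.asIdeal ∧ HasAlt t n p) := by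
  obtain ⟨N, W, ⟨P⟩, hW | ⟨hram, h2, -, hW⟩⟩ := exists_normalise hlam hfix hn hA t p hp
  · exact Or.inl (hasSym_of_herm hlam hfix hsq hp N P hW)
  · exact Or.inr ⟨hram, h2, hasAlt_of_skew hlam hfix hsq h2 hram N P hW⟩

end Groth.L11.Az
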