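import Mathlib.RingTheory.Etale.StandardEtale
import Mathlib.RingTheory.Etale.Basic
import Mathlib.RingTheory.Smooth.Flat
import Mathlib.RingTheory.Spectrum.Prime.Topology
import Mathlib.RingTheory.Flat.FaithfullyFlat.Algebra
import Mathlib.RingTheory.LocalRing.ResidueField.Ideal
import Mathlib.RingTheory.Spectrum.Prime.Chevalley
import Mathlib.RingTheory.Ideal.GoingDown
import Mathlib.FieldTheory.IsAlgClosed.AlgebraicClosure
import Mathlib.RingTheory.TensorProduct.Nontrivial

/-!
Etale neighbourhoods of a point of an affine scheme, and square roots on them.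
-/

set_option autoImplicit false
universe u

open scoped TensorProduct

noncomputable section

namespace Groth.L11.Az

variable {S : Type u} [CommRing S]

/-- An etale algebra with a prime over a given point. -/
structure Nbhd (p : PrimeSpectrum S) where
  /-- the algebra -/
  T : Type u
  [ring : CommRing T]
  [alg : Algebra S T]
  [etale : Algebra.Etale S T]
  /-- the point -/
  q : PrimeSpectrum T
  over_ : PrimeSpectrum.comap (algebraMap S T) q = p

attribute [instance] Nbhd.ring Nbhd.alg Nbhd.etale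

/-- Units have square roots after an etale cover. -/
def HasSqrt (S : Type u) [CommRing S] : Prop :=
  ∀ (S₁ : Type u) [CommRing S₁] [Algebra S S₁] [Algebra.Etale S S₁] (x : S₁ˣ),
    ∃ (S₂ : Type u) (_ : CommRing S₂) (_ : Algebra S₁ S₂) (_ : Algebra.Etale S₁ S₂)
      (_ : Module.FaithfullyFlat S₁ S₂) (y : S₂), y * y = algebraMap S₁ S₂ ↑x

/-- A square root of a unit after an etale cover, when two is invertible. -/
theorem exists_sqrt_cover {T : Type u} [CommRing T] (h2 : IsUnit (2 : T)) (x : Tˣ) :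
    ∃ (T' : Type u) (_ : CommRing T') (_ : Algebra T T') (_ : Algebra.Etale T T')
      (_ : Module.FaithfullyFlat T T') (y : T'), y * y = algebraMap T T' ↑x := by
  obtain ⟨c, hc⟩ := h2.exists_left_inv
  let P : StandardEtalePair T :=
    { f := Polynomial.X ^ 2 - Polynomial.C (↑x : T)
      monic_f := Polynomial.monic_X_pow_sub_C _ two_ne_zero
      g := Polynomial.X
      cond := ⟨Polynomial.C c, 0, 1, by
        simp only [Polynomial.derivative_sub, Polynomial.derivative_X_pow, Polynomial.derivative_C, sub_zero,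
          mul_zero, add_zero, pow_one, Nat.add_one_sub_one]
        rw [mul_right_comm, ← Polynomial.C_mul, mul_comm _ c]
        simp [hc]⟩ }
  haveI : Module.FaithfullyFlat T P.Ring := Module.FaithfullyFlat.of_comap_surjective fun q => by
    obtain ⟨z, hz⟩ := IsAlgClosed.exists_eq_mul_self
      (algebraMap T (AlgebraicClosure q.asIdeal.ResidueField) (↑x : T))
    have hxz : algebraMap T (AlgebraicClosure q.asIdeal.ResidueField) (↑x : T) ≠ 0 :=
      (x.isUnit.map _).ne_zero
    have h : P.HasMap z := by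
      refine ⟨by simp [P, sq, ← hz], ?_⟩
      simp only [P, Polynomial.aeval_X, isUnit_iff_ne_zero]
      rintro rfl
      exact hxz (by rw [hz, mul_zero])
    refine ⟨⟨RingHom.ker (P.lift z h).toRingHom, RingHom.ker_isPrime _⟩, PrimeSpectrum.ext ?_⟩
    rw [PrimeSpectrum.comap_asIdeal, RingHom.comap_ker]
    change RingHom.ker ((P.lift z h).toRingHom.comp (algebraMap T P.Ring)) = _
    rw [show (P.lift z h).toRingHom.comp (algebraMap T P.Ring) = algebraMap T (AlgebraicClosure q.asIdeal.ResidueField)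
        from (P.lift z h).comp_algebraMap,
      IsScalarTower.algebraMap_eq T q.asIdeal.ResidueField, ← RingHom.comap_ker,
      (RingHom.injective_iff_ker_eq_bot _).1 (algebraMap q.asIdeal.ResidueField _).injective,
      ← RingHom.ker_eq_comap_bot, Ideal.ker_algebraMap_residueField]
  refine ⟨P.Ring, inferInstance, inferInstance, inferInstance, inferInstance, P.X, ?_⟩
  have := P.hasMap_X.1
  simpa [P, sq, sub_eq_zero] using this

/-- With two invertible, units have square roots after etale covers. -/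
theorem hasSqrt_of_isUnit_two (h2 : IsUnit (2 : S)) : HasSqrt S := fun S₁ _ _ _ x =>
  exists_sqrt_cover (by rw [← map_ofNat (algebraMap S S₁) 2]; exact h2.map _) x

namespace Nbhd

variable {p : PrimeSpectrum S} (N : Nbhd p)

theorem range_isOpen : IsOpen (Set.range (PrimeSpectrum.comap (algebraMap S N.T))) :=
  (PrimeSpectrum.isOpenMap_comap_of_hasGoingDown_of_finitePresentation (R := S) (S := N.T)).isOpen_range

theorem mem_range : p ∈ Set.range (PrimeSpectrum.comap (algebraMap S N.T)) := ⟨N.q, N.over_⟩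

/-- Another point of the same algebra. -/
def move (r : PrimeSpectrum N.T) : Nbhd (PrimeSpectrum.comap (algebraMap S N.T) r) := ⟨N.T, r, rfl⟩

theorem comap_q : N.q.asIdeal.comap (algebraMap S N.T) = p.asIdeal := congrArg PrimeSpectrum.asIdeal N.over_

/-- Refining along an etale algebra. -/
theorem exists_refine (T' : Type u) [CommRing T'] [Algebra N.T T'] [Algebra.Etale N.T T'] (q' : PrimeSpectrum T')
    (h : PrimeSpectrum.comap (algebraMap N.T T') q' = N.q) :
    ∃ (N' : Nbhd p) (φ : N.T →ₐ[S] N'.T) (e : T' ≃+* N'.T),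
      (∀ c, φ c = e (algebraMap N.T T' c)) ∧ PrimeSpectrum.comap φ.toRingHom N'.q = N.q := by
  letI : Algebra S T' := ((algebraMap N.T T').comp (algebraMap S N.T)).toAlgebra
  haveI : IsScalarTower S N.T T' := IsScalarTower.of_algebraMap_eq fun _ => rfl
  haveI : Algebra.Etale S T' := Algebra.Etale.comp S N.T T'
  refine ⟨⟨T', q', ?_⟩, IsScalarTower.toAlgHom S N.T T', RingEquiv.refl T', fun _ => rfl, h⟩
  rw [IsScalarTower.algebraMap_eq S N.T T', PrimeSpectrum.comap_comp_apply, h, N.over_]

/-- Inverting an element away from the point. -/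
theorem exists_away (s : N.T) (hs : s ∉ N.q.asIdeal) :
    ∃ (N' : Nbhd p) (φ : N.T →ₐ[S] N'.T), IsUnit (φ s) ∧ PrimeSpectrum.comap φ.toRingHom N'.q = N.q := by
  haveI : Algebra.Etale N.T (Localization.Away s) := Algebra.Etale.of_isLocalizationAway s
  obtain ⟨q', hq'⟩ : N.q ∈ Set.range (PrimeSpectrum.comap (algebraMap N.T (Localization.Away s))) := by
    rw [PrimeSpectrum.localization_away_comap_range (Localization.Away s) s]; exact hs
  obtain ⟨N', φ, e, hφ, hq⟩ := N.exists_refine (Localization.Away s) q' hq'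
  exact ⟨N', φ, by rw [hφ]; exact (IsLocalization.Away.algebraMap_isUnit s).map e, hq⟩

/-- A square root of a unit near the point. -/
theorem exists_sqrt (hsq : HasSqrt S) (d : N.T) (hd : IsUnit d) :
    ∃ (N' : Nbhd p) (φ : N.T →ₐ[S] N'.T) (y : N'.T), y * y = φ d ∧
      PrimeSpectrum.comap φ.toRingHom N'.q = N.q := by
  obtain ⟨T', _, _, _, _, y, hy⟩ := hsq N.T hd.unit
  obtain ⟨q', hq'⟩ := PrimeSpectrum.comap_surjective_of_faithfullyFlat (A := N.T) (B := T') N.q
  obtain ⟨N', φ, e, hφ, hq⟩ := N.exists_refine T' q' hq'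
  exact ⟨N', φ, e y, by rw [← map_mul, hy, hφ, IsUnit.unit_spec], hq⟩

/-- Square roots of finitely many units near the point. -/
theorem exists_sqrts (hsq : HasSqrt S) {ι : Type*} (s : Finset ι) (d : ι → N.T) (hd : ∀ i ∈ s, IsUnit (d i)) :
    ∃ (N' : Nbhd p) (φ : N.T →ₐ[S] N'.T), PrimeSpectrum.comap φ.toRingHom N'.q = N.q ∧
      ∀ i ∈ s, ∃ y, y * y = φ (d i) := by
  classical
  induction s using Finset.induction_on with
  | empty => exact ⟨N, AlgHom.id S N.T, by rw [show (AlgHom.id S N.T).toRingHom = RingHom.id N.T from rfl, PrimeSpectrum.comap_id], by simp⟩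
  | insert a s ha ih =>
    obtain ⟨N', φ, hq, hy⟩ := ih fun i hi => hd i (Finset.mem_insert_of_mem hi)
    obtain ⟨N'', ψ, y, hyy, hq'⟩ := N'.exists_sqrt hsq (φ (d a)) ((hd a (Finset.mem_insert_self a s)).map φ)
    refine ⟨N'', ψ.comp φ, ?_, fun i hi => ?_⟩
    · show PrimeSpectrum.comap (ψ.toRingHom.comp φ.toRingHom) N''.q = N.q
      rw [PrimeSpectrum.comap_comp_apply, hq', hq]
    · rcases Finset.mem_insert.1 hi with rfl | hi
      · exact ⟨y, hyy⟩
      · obtain ⟨z, hz⟩ := hy i hi
        exact ⟨ψ z, by rw [← map_mul, hz]; rfl⟩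

/-- Two neighbourhoods are dominated by a third. -/
theorem exists_common (N₁ N₂ : Nbhd p) :
    ∃ N : Nbhd p, Nonempty (N₁.T →ₐ[S] N.T) ∧ Nonempty (N₂.T →ₐ[S] N.T) := by
  let k := p.asIdeal.ResidueField
  letI : Algebra k N₁.q.asIdeal.ResidueField :=
    (Ideal.ResidueField.map p.asIdeal N₁.q.asIdeal (algebraMap S N₁.T) N₁.comap_q.symm).toAlgebra
  letI : Algebra k N₂.q.asIdeal.ResidueField :=
    (Ideal.ResidueField.map p.asIdeal N₂.q.asIdeal (algebraMap S N₂.T) N₂.comap_q.symm).toAlgebra
  let L := N₁.q.asIdeal.ResidueField ⊗[k] N₂.q.asIdeal.ResidueField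
  haveI : Nontrivial L :=
    (Algebra.TensorProduct.includeLeft_injective (S := k) (A := N₁.q.asIdeal.ResidueField)
      (algebraMap k N₂.q.asIdeal.ResidueField).injective).nontrivial
  obtain ⟨m, hm⟩ := Ideal.exists_maximal L
  let f₁ : N₁.T →+* L := (Algebra.TensorProduct.includeLeftRingHom).comp (algebraMap N₁.T N₁.q.asIdeal.ResidueField)
  let f₂ : N₂.T →+* L :=
    (Algebra.TensorProduct.includeRight : _ →ₐ[k] L).toRingHom.comp (algebraMap N₂.T N₂.q.asIdeal.ResidueField)
  have hS₁ : ∀ x, f₁ (algebraMap S N₁.T x) = algebraMap k L (algebraMap S k x) := fun x => by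
    rw [show f₁ (algebraMap S N₁.T x) = (Algebra.TensorProduct.includeLeft : _ →ₐ[k] L)
      (algebraMap N₁.T N₁.q.asIdeal.ResidueField (algebraMap S N₁.T x)) from rfl,
      ← Ideal.ResidueField.map_algebraMap p.asIdeal N₁.q.asIdeal (algebraMap S N₁.T) N₁.comap_q.symm]
    exact AlgHom.commutes _ _
  have hS₂ : ∀ x, f₂ (algebraMap S N₂.T x) = algebraMap k L (algebraMap S k x) := fun x => by
    rw [show f₂ (algebraMap S N₂.T x) = (Algebra.TensorProduct.includeRight : _ →ₐ[k] L)
      (algebraMap N₂.T N₂.q.asIdeal.ResidueField (algebraMap S N₂.T x)) from rfl,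
      ← Ideal.ResidueField.map_algebraMap p.asIdeal N₂.q.asIdeal (algebraMap S N₂.T) N₂.comap_q.symm]
    exact AlgHom.commutes _ _
  have hSL : ∀ x, algebraMap S L x = f₁ (algebraMap S N₁.T x) := fun x => by
    rw [show f₁ (algebraMap S N₁.T x) = (algebraMap N₁.T N₁.q.asIdeal.ResidueField (algebraMap S N₁.T x)) ⊗ₜ[k]
      (1 : N₂.q.asIdeal.ResidueField) from rfl, ← IsScalarTower.algebraMap_apply]
    rfl
  let g₁ : N₁.T →ₐ[S] L := { f₁ with commutes' := fun x => (hSL x).symm }
  let g₂ : N₂.T →ₐ[S] L := { f₂ with commutes' := fun x => (hS₂ x).trans ((hS₁ x).symm.trans (hSL x).symm) }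
  let ψ : N₁.T ⊗[S] N₂.T →ₐ[S] L := Algebra.TensorProduct.lift g₁ g₂ fun _ _ => Commute.all _ _
  haveI : Algebra.Etale S (N₁.T ⊗[S] N₂.T) := Algebra.Etale.comp S N₁.T _
  refine ⟨⟨N₁.T ⊗[S] N₂.T, ⟨m.comap ψ.toRingHom, inferInstance⟩, PrimeSpectrum.ext ?_⟩,
    ⟨Algebra.TensorProduct.includeLeft⟩, ⟨Algebra.TensorProduct.includeRight⟩⟩
  rw [PrimeSpectrum.comap_asIdeal]
  show Ideal.comap _ (Ideal.comap ψ.toRingHom m) = _
  rw [Ideal.comap_comap, show ψ.toRingHom.comp (algebraMap S (N₁.T ⊗[S] N₂.T)) =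
    (algebraMap k L).comp (algebraMap S k) from ψ.comp_algebraMap.trans (RingHom.ext fun x => (hSL x).trans (hS₁ x)),
    ← Ideal.comap_comap,
    (IsSimpleOrder.eq_bot_or_eq_top (Ideal.comap (algebraMap k L) m)).resolve_right
      (fun h => hm.ne_top (Ideal.comap_eq_top_iff.1 h)),
    ← RingHom.ker_eq_comap_bot, Ideal.ker_algebraMap_residueField]

end Nbhd

end Groth.L11.Az
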