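import Groth.Prelude.Def_AzInv
import Groth.Agent.L09.RInvBranch
import Mathlib.RingTheory.Etale.Pi
import Mathlib.RingTheory.TensorProduct.Pi
import Mathlib.RingTheory.MatrixAlgebra
import Mathlib.Data.Matrix.Composition
import Mathlib.Data.Matrix.Basis
import Mathlib.LinearAlgebra.Matrix.Reindex
import Mathlib.RingTheory.Spectrum.Prime.Chevalley
import Mathlib.RingTheory.Smooth.Flat
import Mathlib.RingTheory.Flat.FaithfullyFlat.Algebra
import Mathlib.RingTheory.Ideal.GoingDown
import Mathlib.LinearAlgebra.TensorProduct.Pi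

/-!
Matrix presentations of algebras with involution over a cover of the base.
-/

set_option autoImplicit false
universe u v w w' x

open scoped TensorProduct Matrix
open Groth.L09.RInvBranch (lamT)

noncomputable section

namespace Groth.L11.Az

variable {S : Type u} [CommRing S] {R : Type v} [CommRing R] [Algebra S R]

/-- The conjugate transpose after base change. -/
def star' (T : Type*) [CommRing T] [Algebra S T] (lam : R ≃ₐ[S] R) {ι κ : Type*}
    (X : Matrix ι κ (T ⊗[S] R)) : Matrix κ ι (T ⊗[S] R) :=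
  (X.map (lamT T lam))ᵀ

section Star
variable {T : Type*} [CommRing T] [Algebra S T] {lam : R ≃ₐ[S] R} {ι κ ν : Type*}

@[simp] theorem star'_apply (X : Matrix ι κ (T ⊗[S] R)) (i : κ) (j : ι) :
    star' T lam X i j = lamT T lam (X j i) := rfl

theorem star'_mul [Fintype κ] (X : Matrix ι κ (T ⊗[S] R)) (Y : Matrix κ ν (T ⊗[S] R)) :
    star' T lam (X * Y) = star' T lam Y * star' T lam X := by
  rw [star', Matrix.map_mul, Matrix.transpose_mul]; rfl

theorem star'_one [DecidableEq ι] : star' T lam (1 : Matrix ι ι (T ⊗[S] R)) = 1 := by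
  rw [star', Matrix.map_one _ (map_zero _) (map_one _), Matrix.transpose_one]

theorem star'_smul (c : T ⊗[S] R) (X : Matrix ι κ (T ⊗[S] R)) :
    star' T lam (c • X) = lamT T lam c • star' T lam X := by
  ext i j; simp

theorem star'_star' (hlam : ∀ r, lam (lam r) = r) (X : Matrix ι κ (T ⊗[S] R)) :
    star' T lam (star' T lam X) = X := by
  ext i j; exact Groth.L09.RInvBranch.lamT_involutive T hlam _

theorem isUnit_star' [Fintype ι] [DecidableEq ι] {X : Matrix ι ι (T ⊗[S] R)} (h : IsUnit X) :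
    IsUnit (star' T lam X) := by
  obtain ⟨u, rfl⟩ := h
  exact ⟨⟨star' T lam ↑u, star' T lam ↑u⁻¹, by rw [← star'_mul, Units.inv_mul, star'_one],
    by rw [← star'_mul, Units.mul_inv, star'_one]⟩, rfl⟩

theorem map_star' {T' : Type*} [CommRing T'] [Algebra S T'] (φ : T →ₐ[S] T') (X : Matrix ι κ (T ⊗[S] R)) :
    star' T' lam (X.map (Algebra.TensorProduct.map φ (AlgHom.id S R))) =
      (star' T lam X).map (Algebra.TensorProduct.map φ (AlgHom.id S R)) := by
  ext i j
  simp only [star'_apply, Matrix.map_apply]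
  generalize X j i = z
  induction z using TensorProduct.induction_on with
  | zero => simp
  | add y z hy hz => simp only [map_add, hy, hz]
  | tmul c r => simp [Groth.L09.RInvBranch.lamT_tmul]

end Star

/-- A matrix presentation of an algebra with involution over a base change `T`. -/
structure Pres (T : Type*) [CommRing T] [Algebra S T] {lam : R ≃ₐ[S] R} {A : Type w} [Ring A] [Algebra S A]
    [Algebra R A] [IsScalarTower S R A] (t : AzInv.LamInv R A lam) (ι : Type*) [Fintype ι] [DecidableEq ι]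
    (W : Matrix ι ι (T ⊗[S] R)) where
  /-- the splitting -/
  equiv : T ⊗[S] A ≃ₐ[T] Matrix ι ι (T ⊗[S] R)
  map_scalar : ∀ (r : R) (x : T ⊗[S] A),
    equiv (((1 : T) ⊗ₜ[S] algebraMap R A r) * x) = ((1 : T) ⊗ₜ[S] r) • equiv x
  map_bc : ∀ x : T ⊗[S] A, equiv (t.bc S lam T x) * W = W * star' T lam (equiv x)
  isUnit : IsUnit W

namespace Pres

variable {T : Type*} [CommRing T] [Algebra S T] {lam : R ≃ₐ[S] R} {A : Type w} [Ring A] [Algebra S A]
  [Algebra R A] [IsScalarTower S R A] {t : AzInv.LamInv R A lam} {ι : Type*} [Fintype ι] [DecidableEq ι]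
  {W : Matrix ι ι (T ⊗[S] R)}

/-- The structure map to the centre. -/
def centre (T : Type*) [CommRing T] [Algebra S T] (A : Type w) [Ring A] [Algebra S A] [Algebra R A]
    [IsScalarTower S R A] : T ⊗[S] R →ₐ[T] T ⊗[S] A :=
  Algebra.TensorProduct.map (AlgHom.id T T) (IsScalarTower.toAlgHom S R A)

theorem equiv_centre_mul (P : Pres T t ι W) (c : T ⊗[S] R) (x : T ⊗[S] A) :
    P.equiv (centre T A c * x) = c • P.equiv x := by
  induction c using TensorProduct.induction_on with
  | zero => simp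
  | add c d hc hd => rw [map_add, add_mul, map_add, hc, hd, add_smul]
  | tmul c r =>
    have e1 : centre T A (c ⊗ₜ[S] r) * x = c • (((1 : T) ⊗ₜ[S] algebraMap R A r) * x) := by
      rw [← smul_mul_assoc, TensorProduct.smul_tmul', smul_eq_mul, mul_one]; rfl
    rw [e1, map_smul, P.map_scalar, ← smul_assoc, TensorProduct.smul_tmul', smul_eq_mul, mul_one]

/-- Reindexing a presentation. -/
def reindex (P : Pres T t ι W) {κ : Type*} [Fintype κ] [DecidableEq κ] (e : ι ≃ κ) :
    Pres T t κ (Matrix.reindex e e W) where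
  equiv := P.equiv.trans (Matrix.reindexAlgEquiv T (T ⊗[S] R) e)
  map_scalar r x := by
    show Matrix.reindex e e (P.equiv _) = _ • Matrix.reindex e e (P.equiv x)
    rw [P.map_scalar]; rfl
  map_bc x := by
    show Matrix.reindex e e (P.equiv _) * Matrix.reindex e e W = Matrix.reindex e e W * _
    simp only [Matrix.reindex_apply, Matrix.submatrix_mul_equiv, P.map_bc]
    rw [← Matrix.submatrix_mul_equiv W (star' T lam (P.equiv x)) e.symm e.symm e.symm]
    rfl
  isUnit := P.isUnit.map (Matrix.reindexAlgEquiv T (T ⊗[S] R) e)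

/-- Changing the coordinates of a presentation. -/
def congr (P : Pres T t ι W) (v : (Matrix ι ι (T ⊗[S] R))ˣ) :
    Pres T t ι ((↑v : Matrix ι ι (T ⊗[S] R)) * W * star' T lam ↑v) where
  equiv := AlgEquiv.ofBijective
    ({ toFun := fun x => (↑v : Matrix ι ι (T ⊗[S] R)) * P.equiv x * ↑v⁻¹
       map_one' := by simp
       map_mul' := fun x y => by simp [mul_assoc]
       map_zero' := by simp
       map_add' := fun x y => by simp [mul_add, add_mul]
       commutes' := fun c => by
         rw [AlgEquiv.commutes, ← Algebra.commutes, mul_assoc, Units.mul_inv, mul_one] } :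
      T ⊗[S] A →ₐ[T] Matrix ι ι (T ⊗[S] R))
    ⟨fun x y h => P.equiv.injective ((Units.mul_right_inj v).1 ((Units.mul_left_inj v⁻¹).1 h)),
     fun Y => ⟨P.equiv.symm ((↑v⁻¹ : Matrix ι ι (T ⊗[S] R)) * Y * ↑v), by simp [mul_assoc]⟩⟩
  map_scalar r x := by
    show (↑v : Matrix ι ι (T ⊗[S] R)) * P.equiv _ * (↑v⁻¹ : Matrix ι ι (T ⊗[S] R)) = _
    rw [P.map_scalar, mul_smul_comm, smul_mul_assoc]
    rfl
  map_bc x := by
    show (↑v : Matrix ι ι (T ⊗[S] R)) * P.equiv _ * (↑v⁻¹ : Matrix ι ι (T ⊗[S] R)) * _ =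
      _ * star' T lam ((↑v : Matrix ι ι (T ⊗[S] R)) * P.equiv x * (↑v⁻¹ : Matrix ι ι (T ⊗[S] R)))
    have hv : star' T lam (↑v : Matrix ι ι (T ⊗[S] R)) * star' T lam ↑v⁻¹ = 1 := by
      rw [← star'_mul, Units.inv_mul, star'_one]
    simp only [star'_mul, mul_assoc, Units.inv_mul_cancel_left]
    rw [← mul_assoc (P.equiv _) W, P.map_bc]
    simp only [mul_assoc]
    rw [← mul_assoc (star' T lam (↑v : Matrix ι ι (T ⊗[S] R))), hv, one_mul]
  isUnit := (v.isUnit.mul P.isUnit).mul (isUnit_star' v.isUnit)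

/-- Scaling the matrix of a presentation. -/
def scale (P : Pres T t ι W) (c : T ⊗[S] R) (hc : IsUnit c) : Pres T t ι (c • W) where
  equiv := P.equiv
  map_scalar := P.map_scalar
  map_bc x := by rw [mul_smul_comm, P.map_bc, smul_mul_assoc]
  isUnit := by
    rw [← one_mul W, ← smul_mul_assoc]
    exact (show IsUnit (c • (1 : Matrix ι ι (T ⊗[S] R))) by
      rw [← Algebra.algebraMap_eq_smul_one]; exact hc.map _).mul P.isUnit

/-- Changing the matrix along an equality. -/
def ofEq (P : Pres T t ι W) {W' : Matrix ι ι (T ⊗[S] R)} (h : W = W') : Pres T t ι W' := h ▸ P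

/-- The base change of a splitting along which the matrix becomes invertible. -/
theorem exists_baseChange' {T' : Type*} [CommRing T'] [Algebra S T'] (φ : T →ₐ[S] T')
    (e : T ⊗[S] A ≃ₐ[T] Matrix ι ι (T ⊗[S] R))
    (hs : ∀ (r : R) (x : T ⊗[S] A), e (((1 : T) ⊗ₜ[S] algebraMap R A r) * x) = ((1 : T) ⊗ₜ[S] r) • e x)
    (hb : ∀ x : T ⊗[S] A, e (t.bc S lam T x) * W = W * star' T lam (e x))
    (hW : IsUnit (W.map (Algebra.TensorProduct.map φ (AlgHom.id S R)))) :
    ∃ Q : Pres T' t ι (W.map (Algebra.TensorProduct.map φ (AlgHom.id S R))),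
      ∀ x : T ⊗[S] A, Q.equiv (Algebra.TensorProduct.map φ (AlgHom.id S A) x) =
        (e x).map (Algebra.TensorProduct.map φ (AlgHom.id S R)) := by
  classical
  let ιR := Algebra.TensorProduct.map φ (AlgHom.id S R)
  let θ : A →ₐ[S] Matrix ι ι (T' ⊗[S] R) :=
    ιR.mapMatrix.comp ((e.toAlgHom.restrictScalars S).comp Algebra.TensorProduct.includeRight)
  let Φ : T' ⊗[S] A →ₐ[T'] Matrix ι ι (T' ⊗[S] R) :=
    Algebra.TensorProduct.lift (Algebra.ofId T' _) θ fun c a => Algebra.commutes c _
  let mA : T ⊗[S] A →ₐ[S] T' ⊗[S] A := Algebra.TensorProduct.map φ (AlgHom.id S A)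
  have hsc : ∀ (c : T) (M : Matrix ι ι (T ⊗[S] R)), (c • M).map ιR = φ c • M.map ιR := fun c M => by
    ext i j
    simp only [Matrix.map_apply, Matrix.smul_apply]
    rw [Algebra.smul_def, Algebra.smul_def, map_mul]
    congr 1
  have hΦm : ∀ x, Φ (mA x) = (e x).map ιR := fun x => by
    induction x using TensorProduct.induction_on with
    | zero => simp
    | add y z hy hz => rw [map_add, map_add, hy, hz, map_add]; exact (Matrix.map_add _ (map_add ιR) _ _).symm
    | tmul c a =>
      show Φ (φ c ⊗ₜ[S] a) = _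
      rw [show Φ (φ c ⊗ₜ[S] a) = φ c • (e ((1 : T) ⊗ₜ[S] a)).map ιR by
          simp [Φ, θ, Algebra.smul_def, ιR],
        ← hsc, ← map_smul, TensorProduct.smul_tmul', smul_eq_mul, mul_one]
  have hcen : ∀ (d : T' ⊗[S] R) (x : T' ⊗[S] A), Φ (centre T' A d * x) = d • Φ x := fun d x => by
    induction d using TensorProduct.induction_on with
    | zero => simp
    | add d e hd he => rw [map_add, add_mul, map_add, hd, he, add_smul]
    | tmul c r =>
      have e0 : centre T' A (c ⊗ₜ[S] r) = c • mA ((1 : T) ⊗ₜ[S] algebraMap R A r) := by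
        show c ⊗ₜ[S] algebraMap R A r = c • (φ 1 ⊗ₜ[S] algebraMap R A r)
        rw [map_one, TensorProduct.smul_tmul', smul_eq_mul, mul_one]
      rw [e0, smul_mul_assoc, map_smul, map_mul, hΦm,
        show e ((1 : T) ⊗ₜ[S] algebraMap R A r) = ((1 : T) ⊗ₜ[S] r) • (1 : Matrix ι ι (T ⊗[S] R)) by
          rw [← mul_one ((1 : T) ⊗ₜ[S] algebraMap R A r), hs, map_one],
        Matrix.map_smul' ιR _ _ (map_mul ιR), Matrix.map_one _ (map_zero ιR) (map_one ιR),
        smul_mul_assoc, one_mul, ← smul_assoc]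
      congr 1
      simp [ιR, TensorProduct.smul_tmul']
  have hcm : ∀ (c : T ⊗[S] R) (x : T ⊗[S] A), e (centre T A c * x) = c • e x := fun c x => by
    induction c using TensorProduct.induction_on with
    | zero => simp
    | add c d hc hd => rw [map_add, add_mul, map_add, hc, hd, add_smul]
    | tmul c r =>
      have e1 : centre T A (c ⊗ₜ[S] r) * x = c • (((1 : T) ⊗ₜ[S] algebraMap R A r) * x) := by
        rw [← smul_mul_assoc, TensorProduct.smul_tmul', smul_eq_mul, mul_one]; rfl
      rw [e1, map_smul, hs, ← smul_assoc, TensorProduct.smul_tmul', smul_eq_mul, mul_one]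
  let g : ι → ι → T' ⊗[S] A := fun i j => mA (e.symm (Matrix.single i j 1))
  have hg : ∀ i j, Φ (g i j) = Matrix.single i j 1 := fun i j => by
    rw [hΦm, AlgEquiv.apply_symm_apply]
    ext i' j'
    by_cases h : i = i' ∧ j = j'
    · obtain ⟨rfl, rfl⟩ := h; simp
    · simp [Matrix.single_apply, h]
  let G : Matrix ι ι (T' ⊗[S] R) → T' ⊗[S] A := fun Y => ∑ i, ∑ j, centre T' A (Y i j) * g i j
  have hΦG : ∀ Y, Φ (G Y) = Y := fun Y => by
    simp only [G, map_sum, hcen, hg, Matrix.smul_single, smul_eq_mul, mul_one]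
    exact (Matrix.matrix_eq_sum_single Y).symm
  have hGadd : ∀ Y Z, G (Y + Z) = G Y + G Z := fun Y Z => by
    simp only [G, Matrix.add_apply, map_add, add_mul, Finset.sum_add_distrib]
  have hGm : ∀ M : Matrix ι ι (T ⊗[S] R), G (M.map ιR) = mA (e.symm M) := fun M => by
    have e1 : ∀ c : T ⊗[S] R, centre T' A (ιR c) = mA (centre T A c) := fun c => by
      induction c using TensorProduct.induction_on with
      | zero => simp
      | add c d hc hd => simp only [map_add, hc, hd]
      | tmul c r => rfl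
    conv_rhs => rw [Matrix.matrix_eq_sum_single M]
    simp only [map_sum, G, Matrix.map_apply, g, e1, ← map_mul]
    refine Finset.sum_congr rfl fun i _ => Finset.sum_congr rfl fun j _ => congrArg mA ?_
    apply e.injective
    rw [hcm, AlgEquiv.apply_symm_apply, AlgEquiv.apply_symm_apply, Matrix.smul_single, smul_eq_mul,
      mul_one]
  have hGΦ : ∀ x, G (Φ x) = x := fun x => by
    induction x using TensorProduct.induction_on with
    | zero => simp [G]
    | add y z hy hz => rw [map_add, hGadd, hy, hz]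
    | tmul c a =>
      have e2 : c ⊗ₜ[S] a = centre T' A (c ⊗ₜ[S] (1 : R)) * mA ((1 : T) ⊗ₜ[S] a) := by
        show _ = (c ⊗ₜ[S] algebraMap R A 1) * (φ 1 ⊗ₜ[S] a)
        simp
      rw [e2, hcen, hΦm]
      have e3 : ∀ (d : T' ⊗[S] R) Y, G (d • Y) = centre T' A d * G Y := fun d Y => by
        simp only [G, Matrix.smul_apply, smul_eq_mul, map_mul, Finset.mul_sum, mul_assoc]
      rw [e3, hGm, AlgEquiv.symm_apply_apply]
  refine ⟨⟨AlgEquiv.ofBijective Φ ⟨fun x y h => by rw [← hGΦ x, ← hGΦ y, h], fun Y => ⟨G Y, hΦG Y⟩⟩,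
    fun r x => hcen ((1 : T') ⊗ₜ[S] r) x, fun x => ?_, hW⟩, hΦm⟩
  show Φ (t.bc S lam T' x) * W.map ιR = W.map ιR * star' T' lam (Φ x)
  induction x using TensorProduct.induction_on with
  | zero => ext i j; simp [Matrix.mul_apply]
  | add y z hy hz =>
    rw [map_add, map_add, map_add, add_mul, hy, hz, ← mul_add]
    congr 1
    ext i j; simp
  | tmul c a =>
    have e2 : ∀ b : A, c ⊗ₜ[S] b = c • mA ((1 : T) ⊗ₜ[S] b) := fun b => by
      show _ = c • (φ 1 ⊗ₜ[S] b)
      rw [map_one, TensorProduct.smul_tmul', smul_eq_mul, mul_one]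
    rw [AzInv.LamInv.bc_tmul, e2, e2, map_smul, map_smul, hΦm, hΦm, smul_mul_assoc, ← Matrix.map_mul,
      ← AzInv.LamInv.bc_tmul (S := S) (lam := lam), hb, Matrix.map_mul, ← map_star']
    rw [← mul_smul_comm]
    congr 1
    ext i j
    simp only [Matrix.smul_apply, star'_apply]
    rw [Algebra.smul_def, Algebra.smul_def, map_mul]
    congr 1
    simp [Algebra.TensorProduct.algebraMap_apply, Groth.L09.RInvBranch.lamT_tmul]

/-- The base change of a presentation. -/
theorem exists_baseChange {T' : Type*} [CommRing T'] [Algebra S T'] (P : Pres T t ι W) (φ : T →ₐ[S] T') :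
    ∃ Q : Pres T' t ι (W.map (Algebra.TensorProduct.map φ (AlgHom.id S R))),
      ∀ x : T ⊗[S] A, Q.equiv (Algebra.TensorProduct.map φ (AlgHom.id S A) x) =
        (P.equiv x).map (Algebra.TensorProduct.map φ (AlgHom.id S R)) :=
  exists_baseChange' φ P.equiv P.map_scalar P.map_bc
    (P.isUnit.map (Algebra.TensorProduct.map φ (AlgHom.id S R)).mapMatrix)

/-- Presentation of a matrix algebra over an algebra with involution. -/
theorem exists_matrix (P : Pres T t ι W) (κ : Type*) [Fintype κ] [DecidableEq κ] :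
    Nonempty (Pres T (t.matrix κ) (κ × ι) (Matrix.compAlgEquiv κ ι (T ⊗[S] R) T (Matrix.diagonal fun _ => W))) := by
  classical
  let Φ : T ⊗[S] Matrix κ κ A →ₐ[T] Matrix κ κ (T ⊗[S] A) :=
    Algebra.TensorProduct.lift (Algebra.ofId T _)
      (Algebra.TensorProduct.includeRight : A →ₐ[S] T ⊗[S] A).mapMatrix fun c a => Algebra.commutes c _
  have hΦ : ∀ (c : T) (M : Matrix κ κ A) i j, Φ (c ⊗ₜ[S] M) i j = c ⊗ₜ[S] M i j := fun c M i j => by
    rw [show Φ (c ⊗ₜ[S] M) = c • M.map fun a => (1 : T) ⊗ₜ[S] a by simp [Φ, Algebra.smul_def]; rfl]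
    simp [TensorProduct.smul_tmul']
  let G : Matrix κ κ (T ⊗[S] A) → T ⊗[S] Matrix κ κ A := fun Y =>
    ∑ i, ∑ j, LinearMap.lTensor T (Matrix.singleLinearMap S i j) (Y i j)
  have hGΦ : ∀ x, G (Φ x) = x := fun x => by
    induction x using TensorProduct.induction_on with
    | zero => simp [G]
    | add y z hy hz =>
      simp only [G, map_add, Matrix.add_apply, Finset.sum_add_distrib] at hy hz ⊢
      rw [hy, hz]
    | tmul c M =>
      simp only [G, hΦ, LinearMap.lTensor_tmul, ← TensorProduct.tmul_sum]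
      congr 1
      exact (Matrix.matrix_eq_sum_single M).symm
  have hΦG : ∀ Y, Φ (G Y) = Y := fun Y => by
    have e : ∀ i j (z : T ⊗[S] A),
        Φ (LinearMap.lTensor T (Matrix.singleLinearMap S i j) z) = Matrix.single i j z := fun i j z => by
      induction z using TensorProduct.induction_on with
      | zero => simp
      | add y z hy hz => rw [map_add, map_add, hy, hz, ← Matrix.single_add]
      | tmul c a =>
        ext i' j'
        rw [LinearMap.lTensor_tmul, hΦ]
        by_cases h : i = i' ∧ j = j'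
        · obtain ⟨rfl, rfl⟩ := h; simp
        · simp [Matrix.single_apply, h]
    simp only [G, map_sum, e]
    exact (Matrix.matrix_eq_sum_single Y).symm
  let E : T ⊗[S] Matrix κ κ A ≃ₐ[T] Matrix (κ × ι) (κ × ι) (T ⊗[S] R) :=
    ((AlgEquiv.ofBijective Φ ⟨fun x y h => by rw [← hGΦ x, ← hGΦ y, h], fun Y => ⟨G Y, hΦG Y⟩⟩).trans
      P.equiv.mapMatrix).trans (Matrix.compAlgEquiv κ ι (T ⊗[S] R) T)
  have hE : ∀ x p q, E x p q = P.equiv (Φ x p.1 q.1) p.2 q.2 := fun _ _ _ => rfl
  refine ⟨⟨E, fun r x => ?_, fun x => ?_, ?_⟩⟩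
  · ext p q
    rw [Matrix.smul_apply, hE, hE]
    have e : Φ (((1 : T) ⊗ₜ[S] algebraMap R (Matrix κ κ A) r) * x) p.1 q.1 =
        ((1 : T) ⊗ₜ[S] algebraMap R A r) * Φ x p.1 q.1 := by
      rw [map_mul, Matrix.mul_apply, Finset.sum_eq_single p.1]
      · simp [hΦ, Matrix.algebraMap_matrix_apply]
      · intro b _ hb; simp [hΦ, Matrix.algebraMap_matrix_apply, Ne.symm hb]
      · simp
    rw [e, P.map_scalar, Matrix.smul_apply]
  · have hb : ∀ i j, Φ ((t.matrix κ).bc S lam T x) i j = t.bc S lam T (Φ x j i) := fun i j => by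
      induction x using TensorProduct.induction_on with
      | zero => simp
      | add y z hy hz => simp only [map_add, Matrix.add_apply, hy, hz]
      | tmul c M => simp [hΦ, AzInv.LamInv.bc_tmul]
    let L : Matrix κ κ (Matrix ι ι (T ⊗[S] R)) := Matrix.of fun i j => P.equiv (Φ ((t.matrix κ).bc S lam T x) i j)
    let Rm : Matrix κ κ (Matrix ι ι (T ⊗[S] R)) := Matrix.of fun i j => star' T lam (P.equiv (Φ x j i))
    have h0 : L * Matrix.diagonal (fun _ => W) = Matrix.diagonal (fun _ => W) * Rm := by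
      refine Matrix.ext fun i j => ?_
      rw [Matrix.mul_diagonal, Matrix.diagonal_mul]
      show P.equiv (Φ _ i j) * W = W * star' T lam (P.equiv (Φ x j i))
      rw [hb, P.map_bc]
    have h1 := congrArg (Matrix.compAlgEquiv κ ι (T ⊗[S] R) T) h0
    rw [map_mul, map_mul] at h1
    exact h1
  · exact (P.isUnit.map (Matrix.scalar κ : Matrix ι ι (T ⊗[S] R) →+* _)).map _

/-- Two algebras presented by the same matrix are isomorphic over the base change. -/
theorem exists_iso {A' : Type w'} [Ring A'] [Algebra S A'] [Algebra R A'] [IsScalarTower S R A']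
    {t' : AzInv.LamInv R A' lam} (P : Pres T t ι W) (Q : Pres T t' ι W) :
    ∃ f : T ⊗[S] A ≃ₐ[T] T ⊗[S] A',
      (∀ (r : R) (x : T ⊗[S] A),
        f (((1 : T) ⊗ₜ[S] algebraMap R A r) * x) = ((1 : T) ⊗ₜ[S] algebraMap R A' r) * f x) ∧
      ∀ x : T ⊗[S] A, f (t.bc S lam T x) = t'.bc S lam T (f x) := by
  refine ⟨P.equiv.trans Q.equiv.symm, fun r x => ?_, fun x => ?_⟩
  · apply Q.equiv.injective
    simp [P.map_scalar, Q.map_scalar]
  · apply Q.equiv.injective
    rw [AlgEquiv.trans_apply, AlgEquiv.apply_symm_apply]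
    refine Q.isUnit.mul_right_cancel ?_
    rw [P.map_bc, Q.map_bc]
    simp

/-- An isomorphism over the base change transports presentations. -/
def ofIso {A' : Type w'} [Ring A'] [Algebra S A'] [Algebra R A'] [IsScalarTower S R A']
    {t' : AzInv.LamInv R A' lam} (Q : Pres T t' ι W) (f : T ⊗[S] A ≃ₐ[T] T ⊗[S] A')
    (hf : ∀ (r : R) (x : T ⊗[S] A),
      f (((1 : T) ⊗ₜ[S] algebraMap R A r) * x) = ((1 : T) ⊗ₜ[S] algebraMap R A' r) * f x)
    (hft : ∀ x : T ⊗[S] A, f (t.bc S lam T x) = t'.bc S lam T (f x)) : Pres T t ι W where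
  equiv := f.trans Q.equiv
  map_scalar r x := by simp [hf, Q.map_scalar]
  map_bc x := by simp only [AlgEquiv.trans_apply, hft, Q.map_bc]
  isUnit := Q.isUnit

end Pres

section Glue

variable {lam : R ≃ₐ[S] R} {A : Type w} [Ring A] [Algebra S A] [Algebra R A] [IsScalarTower S R A]
  {A' : Type w'} [Ring A'] [Algebra S A'] [Algebra R A'] [IsScalarTower S R A']
  {t : AzInv.LamInv R A lam} {t' : AzInv.LamInv R A' lam}

/-- Isomorphisms near every point glue to a local isomorphism. -/
theorem locIsoEt_of_local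
    (h : ∀ p : PrimeSpectrum S, ∃ (T : Type u) (_ : CommRing T) (_ : Algebra S T) (_ : Algebra.Etale S T),
      p ∈ Set.range (PrimeSpectrum.comap (algebraMap S T)) ∧
      ∃ f : T ⊗[S] A ≃ₐ[T] T ⊗[S] A',
        (∀ (r : R) (x : T ⊗[S] A),
          f (((1 : T) ⊗ₜ[S] algebraMap R A r) * x) = ((1 : T) ⊗ₜ[S] algebraMap R A' r) * f x) ∧
        ∀ x : T ⊗[S] A, f (t.bc S lam T x) = t'.bc S lam T (f x)) :
    AzInv.LocIsoEt S lam t t' := by
  classical
  choose T i1 i2 i3 hp f hfr hft using h
  have hopen : ∀ p, IsOpen (Set.range (PrimeSpectrum.comap (algebraMap S (T p)))) := fun p =>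
    (PrimeSpectrum.isOpenMap_comap_of_hasGoingDown_of_finitePresentation (R := S) (S := T p)).isOpen_range
  obtain ⟨s, hs⟩ := CompactSpace.isCompact_univ.elim_finite_subcover
    (fun p => Set.range (PrimeSpectrum.comap (algebraMap S (T p)))) hopen
    (fun p _ => Set.mem_iUnion.2 ⟨p, hp p⟩)
  let U := Π p : s, T p.1
  haveI : Algebra.Etale S U := inferInstance
  haveI : Module.FaithfullyFlat S U := Module.FaithfullyFlat.of_comap_surjective fun p => by
    obtain ⟨i, hi, y, hy⟩ := Set.mem_iUnion₂.1 (hs (Set.mem_univ p))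
    exact ⟨PrimeSpectrum.comap (Pi.evalRingHom _ (⟨i, hi⟩ : s)) y, by rw [← PrimeSpectrum.comap_comp_apply]; exact hy⟩
  -- the two splittings along the product
  let πA : ∀ p : s, U ⊗[S] A →ₐ[S] T p.1 ⊗[S] A := fun p =>
    Algebra.TensorProduct.map (Pi.evalAlgHom S (fun p : s => T p.1) p) (AlgHom.id S A)
  let πB : ∀ p : s, U ⊗[S] A' →ₐ[S] T p.1 ⊗[S] A' := fun p =>
    Algebra.TensorProduct.map (Pi.evalAlgHom S (fun p : s => T p.1) p) (AlgHom.id S A')
  have hA : ∀ z, (TensorProduct.piLeft S A (fun p : s => T p.1) z) = fun p => πA p z := fun z => by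
    induction z using TensorProduct.induction_on with
    | zero => simp; rfl
    | add y z hy hz => funext p; rw [map_add, map_add, Pi.add_apply, congrFun hy p, congrFun hz p]
    | tmul c a => funext p; simp [πA]; rfl
  have hB : ∀ z, (TensorProduct.piLeft S A' (fun p : s => T p.1) z) = fun p => πB p z := fun z => by
    induction z using TensorProduct.induction_on with
    | zero => simp; rfl
    | add y z hy hz => funext p; rw [map_add, map_add, Pi.add_apply, congrFun hy p, congrFun hz p]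
    | tmul c a => funext p; simp [πB]; rfl
  let eB : U ⊗[S] A' ≃ₐ[S] Π p : s, T p.1 ⊗[S] A' := AlgEquiv.ofBijective (AlgHom.pi πB) (by
    have : ⇑(AlgHom.pi πB) = TensorProduct.piLeft S A' (fun p : s => T p.1) := funext fun z => (hB z).symm
    rw [this]; exact LinearEquiv.bijective _)
  let eA : U ⊗[S] A ≃ₐ[S] Π p : s, T p.1 ⊗[S] A := AlgEquiv.ofBijective (AlgHom.pi πA) (by
    have : ⇑(AlgHom.pi πA) = TensorProduct.piLeft S A (fun p : s => T p.1) := funext fun z => (hA z).symm
    rw [this]; exact LinearEquiv.bijective _)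
  let F₀ : U ⊗[S] A ≃ₐ[S] U ⊗[S] A' :=
    (eA.trans (AlgEquiv.piCongrRight fun p : s => (f p.1).restrictScalars S)).trans eB.symm
  have hF : ∀ z p, πB p (F₀ z) = f p.1 (πA p z) := fun z p => congrFun (eB.apply_symm_apply _) p
  have hext : ∀ y z, (∀ p, πB p y = πB p z) → y = z := fun y z h => eB.injective (funext h)
  let F : U ⊗[S] A ≃ₐ[U] U ⊗[S] A' :=
    { F₀.toRingEquiv with
      commutes' := fun c => hext _ _ fun p => by
        show πB p (F₀ (c ⊗ₜ[S] (1 : A))) = πB p (c ⊗ₜ[S] (1 : A'))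
        rw [hF]
        exact (f p.1).commutes (c p) }
  refine ⟨U, inferInstance, inferInstance, inferInstance, inferInstance, F, fun r x => hext _ _ fun p => ?_,
    fun x => hext _ _ fun p => ?_⟩
  · show πB p (F₀ _) = _
    rw [hF, map_mul, show πA p ((1 : U) ⊗ₜ[S] algebraMap R A r) = (1 : T p.1) ⊗ₜ[S] algebraMap R A r by simp [πA],
      hfr, map_mul, show πB p ((1 : U) ⊗ₜ[S] algebraMap R A' r) = (1 : T p.1) ⊗ₜ[S] algebraMap R A' r by simp [πB]]
    exact congrArg _ (hF x p).symm
  · show πB p (F₀ _) = _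
    have e1 : ∀ z, πA p (t.bc S lam U z) = t.bc S lam (T p.1) (πA p z) := fun z => by
      induction z using TensorProduct.induction_on with
      | zero => simp
      | add y z hy hz => simp [hy, hz]
      | tmul c a => simp [πA, AzInv.LamInv.bc_tmul]
    have e2 : ∀ z, πB p (t'.bc S lam U z) = t'.bc S lam (T p.1) (πB p z) := fun z => by
      induction z using TensorProduct.induction_on with
      | zero => simp
      | add y z hy hz => simp [hy, hz]
      | tmul c a => simp [πB, AzInv.LamInv.bc_tmul]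
    rw [hF, e1, hft, ← hF, e2]
    rfl

end Glue

end Groth.L11.Az
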