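import Groth.Agent.L11.Az.EtaleCover
import Groth.Agent.L09.RInvBranch
import Groth.Prelude.Def_AzInv
import Mathlib.RingTheory.Smooth.Fiber
import Mathlib.RingTheory.TensorProduct.Finite

/-!
Algebras with involution over a quadratic etale extension: after base change to a splitting cover
they are matrices times matrices with the swap.
-/

set_option autoImplicit false
universe u v w x

open scoped TensorProduct Matrix

noncomputable section

namespace Groth.L11.Az

variable {S : Type u} [CommRing S] {R : Type v} [CommRing R] [Algebra S R]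

/-- A finite family of trace-zero differences generating the unit ideal of the fixed ring. -/
theorem exists_diffs {lam : R ≃ₐ[S] R} (hlam : ∀ r, lam (lam r) = r) (hfix : RInv.IsFixedRing S R lam.toRingEquiv)
    (hq : RInv.IsQuadEtale S R) :
    ∃ (k : ℕ) (r : Fin k → R) (a c : Fin k → S),
      (∀ i, algebraMap S R (a i) = (r i - lam (r i)) * (r i - lam (r i))) ∧ ∑ i, c i * (a i * a i) = 1 := by
  classical
  have hloc : ∀ p : PrimeSpectrum S, ∃ (r : R) (a : S),
      algebraMap S R a = (r - lam r) * (r - lam r) ∧ a ∉ p.asIdeal := by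
    intro p
    obtain ⟨hfin, hproj, hunr, hrk⟩ := hq
    exact (Groth.L09.RInvBranch.isQuadEtale_localization_iff (lam := lam.toRingEquiv) hlam hfix p).1
      ⟨inferInstance, inferInstance, inferInstance, fun q => by rw [Module.rankAtStalk_baseChange]; exact hrk _⟩
  choose r a ha hap using hloc
  have htop : Ideal.span (Set.range fun p => a p * a p) = ⊤ := by
    by_contra hne
    obtain ⟨m, hm, hle⟩ := Ideal.exists_le_maximal _ hne
    exact hap ⟨m, hm.isPrime⟩ ((hm.isPrime.mem_or_mem (hle (Ideal.subset_span ⟨_, rfl⟩))).elim id id)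
  obtain ⟨c, hc⟩ := (Finsupp.mem_span_range_iff_exists_finsupp).1 ((Ideal.eq_top_iff_one _).1 htop)
  let e := c.support.equivFin.symm
  refine ⟨c.support.card, fun i => r (e i).1, fun i => a (e i).1, fun i => c (e i).1, fun i => ha _, ?_⟩
  rw [e.sum_comp (fun p : c.support => c p.1 * (a p.1 * a p.1)), Finset.sum_coe_sort c.support fun p => c p * (a p * a p)]
  exact hc

section Idem

variable (T : Type x) [CommRing T] [Algebra S T] (iT : R →ₐ[S] T)

/-- The map of the involution on a base change. -/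
abbrev lamTR (lam : R ≃ₐ[S] R) : T ⊗[S] R →ₐ[T] T ⊗[S] R :=
  Algebra.TensorProduct.map (AlgHom.id T T) lam.toAlgHom

/-- The element cutting out the graph of the identity in the base change. -/
theorem exists_swap_elt {lam : R ≃ₐ[S] R} (hlam : ∀ r, lam (lam r) = r)
    (hfix : RInv.IsFixedRing S R lam.toRingEquiv) (hq : RInv.IsQuadEtale S R) :
    ∃ e : T ⊗[S] R,
      Algebra.TensorProduct.lift (Algebra.ofId T T) iT (fun _ _ => Commute.all _ _) e = 1 ∧
      Algebra.TensorProduct.lift (Algebra.ofId T T) (iT.comp lam.toAlgHom) (fun _ _ => Commute.all _ _) e = 0 ∧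
      (∀ s : R, e * (iT s ⊗ₜ[S] (1 : R)) = e * ((1 : T) ⊗ₜ[S] s)) ∧
      lamTR T lam e = 1 - e := by
  obtain ⟨k, r, a, c, ha, hsum⟩ := exists_diffs hlam hfix hq
  have hfixed : ∀ x : R, lam x = x → ∃ b : S, algebraMap S R b = x := fun x hx => (hfix.2 x).1 hx
  let d : Fin k → T := fun i => iT (r i - lam (r i))
  let X : R → T ⊗[S] R := fun s => (1 : T) ⊗ₜ[S] s - iT s ⊗ₜ[S] (1 : R)
  let Y : R → T ⊗[S] R := fun s => (1 : T) ⊗ₜ[S] s - iT (lam s) ⊗ₜ[S] (1 : R)
  have hcmap : ∀ b : S, algebraMap S (T ⊗[S] R) b = (1 : T) ⊗ₜ[S] algebraMap S R b := fun b =>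
    ((Algebra.TensorProduct.includeRight : R →ₐ[S] T ⊗[S] R).commutes b).symm
  have hcmap' : ∀ b : S, algebraMap S (T ⊗[S] R) b = iT (algebraMap S R b) ⊗ₜ[S] (1 : R) := fun b => by
    rw [iT.commutes]; rfl
  have hrel : ∀ i s, ∃ b c' : S, algebraMap S R (a i) * s = algebraMap S R b * r i + algebraMap S R c' := by
    intro i s
    obtain ⟨b, hb⟩ := hfixed ((s - lam s) * (r i - lam (r i))) (by simp only [map_mul, map_sub, hlam]; ring)
    obtain ⟨c', hc'⟩ := hfixed ((r i * lam s - s * lam (r i)) * (r i - lam (r i)))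
      (by simp only [map_mul, map_sub, hlam]; ring)
    exact ⟨b, c', by rw [hb, hc', ha]; ring⟩
  have hX : ∀ i s, ∃ b : S, algebraMap S (T ⊗[S] R) (a i) * X s = algebraMap S (T ⊗[S] R) b * X (r i) := by
    intro i s
    obtain ⟨b, c', h⟩ := hrel i s
    refine ⟨b, ?_⟩
    have h1 := congrArg (fun z => (1 : T) ⊗ₜ[S] z) h
    have h2 := congrArg (fun z => iT z ⊗ₜ[S] (1 : R)) h
    simp only [TensorProduct.tmul_add, TensorProduct.add_tmul, map_add, map_mul] at h1 h2
    simp only [X, mul_sub]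
    conv_lhs => arg 1; rw [hcmap, Algebra.TensorProduct.tmul_mul_tmul, one_mul, h1]
    conv_lhs => arg 2; rw [hcmap', Algebra.TensorProduct.tmul_mul_tmul, one_mul, h2, ← hcmap', hcmap]
    conv_rhs => arg 1; rw [hcmap, Algebra.TensorProduct.tmul_mul_tmul, one_mul]
    conv_rhs => arg 2; rw [hcmap', Algebra.TensorProduct.tmul_mul_tmul, one_mul]
    abel
  have hXY : ∀ i, X (r i) * Y (r i) = 0 := by
    intro i
    obtain ⟨tr, htr⟩ := hfixed (r i + lam (r i)) (by simp only [map_add, hlam]; ring)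
    obtain ⟨nm, hnm⟩ := hfixed (r i * lam (r i)) (by simp only [map_mul, hlam]; ring)
    have e1 : (iT (r i) ⊗ₜ[S] (1 : R)) + iT (lam (r i)) ⊗ₜ[S] (1 : R) = (1 : T) ⊗ₜ[S] (r i + lam (r i)) := by
      rw [← TensorProduct.add_tmul, ← map_add, ← htr, ← hcmap', hcmap]
    have e2 : (iT (r i) ⊗ₜ[S] (1 : R)) * iT (lam (r i)) ⊗ₜ[S] (1 : R) = (1 : T) ⊗ₜ[S] (r i * lam (r i)) := by
      rw [Algebra.TensorProduct.tmul_mul_tmul, mul_one, ← map_mul, ← hnm, ← hcmap', hcmap]
    have e3 : (1 : T) ⊗ₜ[S] (r i) * (1 : T) ⊗ₜ[S] (r i) =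
        (1 : T) ⊗ₜ[S] (r i + lam (r i)) * (1 : T) ⊗ₜ[S] (r i) - (1 : T) ⊗ₜ[S] (r i * lam (r i)) := by
      simp only [Algebra.TensorProduct.tmul_mul_tmul, one_mul, ← TensorProduct.tmul_sub]
      congr 1; ring
    simp only [X, Y]
    linear_combination e3 - ((1 : T) ⊗ₜ[S] r i) * e1 + e2
  let κ : Fin k → T ⊗[S] R := fun i => algebraMap S (T ⊗[S] R) (c i * a i) * (d i ⊗ₜ[S] (1 : R))
  let e : T ⊗[S] R := ∑ i, κ i * Y (r i)
  have hkill : ∀ s, e * X s = 0 := by
    intro s
    rw [Finset.sum_mul]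
    refine Finset.sum_eq_zero fun i _ => ?_
    obtain ⟨b, hb⟩ := hX i s
    simp only [κ, map_mul]
    linear_combination (algebraMap S (T ⊗[S] R) (c i) * (d i ⊗ₜ[S] (1 : R)) * Y (r i)) * hb +
      (algebraMap S (T ⊗[S] R) (c i) * (d i ⊗ₜ[S] (1 : R)) * algebraMap S (T ⊗[S] R) b) * hXY i
  have hsumT : ∑ i, algebraMap S T (c i * a i) * d i * d i = 1 := by
    rw [← map_one (algebraMap S T), ← hsum, map_sum]
    refine Finset.sum_congr rfl fun i _ => ?_
    rw [mul_assoc, ← map_mul iT, ← ha, iT.commutes, ← map_mul, mul_assoc]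
  have hdiff : ∀ i, Y (r i) - X (r i) = d i ⊗ₜ[S] (1 : R) := fun i => by
    simp only [X, Y, d, map_sub, TensorProduct.sub_tmul]; ring
  refine ⟨e, ?_, ?_, fun s => ?_, ?_⟩
  · rw [map_sum, ← hsumT]
    refine Finset.sum_congr rfl fun i _ => ?_
    simp [κ, Y, d, mul_assoc]
  · rw [map_sum]
    refine Finset.sum_eq_zero fun i _ => ?_
    simp [κ, Y, d]
  · have := hkill s
    simp only [X, mul_sub, sub_eq_zero] at this
    exact this.symm
  · have h1 : e + ∑ i, κ i * (-X (r i)) = 1 := by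
      rw [← Finset.sum_add_distrib,
        show (1 : T ⊗[S] R) = (1 : T) ⊗ₜ[S] (1 : R) from rfl, ← hsumT, TensorProduct.sum_tmul]
      refine Finset.sum_congr rfl fun i _ => ?_
      rw [← mul_add, ← sub_eq_add_neg, hdiff]
      simp [κ, Algebra.TensorProduct.algebraMap_apply, Algebra.TensorProduct.tmul_mul_tmul]
    rw [eq_sub_iff_add_eq, add_comm, ← h1]
    congr 1
    rw [map_sum]
    refine Finset.sum_congr rfl fun i _ => ?_
    obtain ⟨tr, htr⟩ := hfixed (r i + lam (r i)) (by simp only [map_add, hlam]; ring)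
    have hY : lamTR T lam (Y (r i)) = -X (r i) := by
      have e1 : (1 : T) ⊗ₜ[S] (r i + lam (r i)) = iT (r i + lam (r i)) ⊗ₜ[S] (1 : R) := by
        rw [← htr, ← hcmap, hcmap']
      simp only [TensorProduct.tmul_add, map_add, TensorProduct.add_tmul] at e1
      simp only [X, Y, map_sub, Algebra.TensorProduct.map_tmul, AlgHom.coe_id, id_eq, map_one]
      simp only [AlgEquiv.coe_toAlgHom]
      linear_combination e1
    rw [map_mul, hY]
    congr 1
    simp [κ, Algebra.TensorProduct.algebraMap_apply]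

end Idem

section Swap

variable (T : Type x) [CommRing T] [Algebra S T] (iT : R →ₐ[S] T)
  {A : Type w} [Ring A] [Algebra S A] [Algebra R A] [IsScalarTower S R A]

/-- An algebra with involution split along `iT` is, after base change, matrices times matrices. -/
theorem exists_swap_equiv {lam : R ≃ₐ[S] R} (hlam : ∀ r, lam (lam r) = r)
    (hfix : RInv.IsFixedRing S R lam.toRingEquiv) (hq : RInv.IsQuadEtale S R) {n : ℕ} (t : AzInv.LamInv R A lam)
    (hsplit : letI := iT.toRingHom.toAlgebra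
      Nonempty ((T ⊗[R] A) ≃ₐ[T] Matrix (Fin n) (Fin n) T)) :
    ∃ f : T ⊗[S] A ≃ₐ[T] Matrix (Fin n) (Fin n) T × Matrix (Fin n) (Fin n) T,
      (∀ (r : R) (z : T ⊗[S] A), f (((1 : T) ⊗ₜ[S] algebraMap R A r) * z) =
        (iT r • (f z).1, iT (lam r) • (f z).2)) ∧
      ∀ z : T ⊗[S] A, f (t.bc S lam T z) = ((f z).2ᵀ, (f z).1ᵀ) := by
  letI := iT.toRingHom.toAlgebra
  haveI : IsScalarTower S R T := IsScalarTower.of_algebraMap_eq fun s => (iT.commutes s).symm
  obtain ⟨σ⟩ := hsplit
  obtain ⟨e, he1, he0, hek, helam⟩ := exists_swap_elt T iT hlam hfix hq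
  let θ : A →ₐ[R] Matrix (Fin n) (Fin n) T :=
    (σ.toAlgHom.restrictScalars R).comp (Algebra.TensorProduct.includeRight : A →ₐ[R] T ⊗[R] A)
  have hθsmul : ∀ (r : R) (a : A), θ (r • a) = iT r • θ a := fun r a => by
    rw [map_smul, ← algebraMap_smul T r]; rfl
  have hθS : ∀ (s : S) (a : A), θ (s • a) = s • θ a := fun s a => by
    rw [← algebraMap_smul R s a, map_smul, algebraMap_smul]
  let θ' : A →ₐ[S] Matrix (Fin n) (Fin n) T :=
    { toFun := fun a => (θ (t a))ᵀ
      map_one' := by simp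
      map_mul' := fun a b => by rw [t.map_mul, map_mul, Matrix.transpose_mul]
      map_zero' := by simp
      map_add' := fun a b => by simp
      commutes' := fun s => by
        rw [IsScalarTower.algebraMap_apply S R A, t.map_algebraMap, AlgEquiv.commutes, θ.commutes,
          ← IsScalarTower.algebraMap_apply S R]
        exact Matrix.ext fun i j => by simp [Matrix.algebraMap_matrix_apply, eq_comm] }
  let θ2 : A →ₐ[S] Matrix (Fin n) (Fin n) T × Matrix (Fin n) (Fin n) T := (θ.restrictScalars S).prod θ'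
  let Φ : T ⊗[S] A →ₐ[T] Matrix (Fin n) (Fin n) T × Matrix (Fin n) (Fin n) T :=
    Algebra.TensorProduct.lift (Algebra.ofId T _) θ2 fun c a => Algebra.commutes c _
  have hΦ : ∀ (c : T) (a : A), Φ (c ⊗ₜ[S] a) = (c • θ a, c • (θ (t a))ᵀ) := fun c a => by
    simp [Φ, θ2, θ', Algebra.smul_def]
  have hσ : ∀ (c : T) (a : A), σ (c ⊗ₜ[R] a) = c • θ a := fun c a => by
    show σ _ = c • σ ((1 : T) ⊗ₜ[R] a)
    rw [← map_smul σ, TensorProduct.smul_tmul', smul_eq_mul, mul_one]
  have ht : ∀ z : T ⊗[S] A, Φ (t.bc S lam T z) = ((Φ z).2ᵀ, (Φ z).1ᵀ) := by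
    intro z
    induction z using TensorProduct.induction_on with
    | zero => simp [Prod.mk_eq_zero, Prod.ext_iff]
    | add y z hy hz => simp [hy, hz]
    | tmul c a => simp [hΦ, AzInv.LamInv.bc_tmul]
  have hbb : ∀ z : T ⊗[S] A, t.bc S lam T (t.bc S lam T z) = z := by
    intro z
    induction z using TensorProduct.induction_on with
    | zero => simp [Prod.mk_eq_zero, Prod.ext_iff]
    | add y z hy hz => simp [hy, hz]
    | tmul c a => simp [AzInv.LamInv.bc_tmul]
  have hr : ∀ (r : R) (z : T ⊗[S] A), Φ (((1 : T) ⊗ₜ[S] algebraMap R A r) * z) =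
      (iT r • (Φ z).1, iT (lam r) • (Φ z).2) := by
    intro r z
    rw [map_mul, hΦ, one_smul, one_smul, t.map_algebraMap, Algebra.algebraMap_eq_smul_one (A := A) r,
      Algebra.algebraMap_eq_smul_one (A := A) (lam r), hθsmul, hθsmul, map_one]
    ext1 <;> simp [Matrix.transpose_smul]
  -- the element acting as projection on the first factor
  let j : T ⊗[S] R →ₐ[T] T ⊗[S] A :=
    Algebra.TensorProduct.map (AlgHom.id T T) (IsScalarTower.toAlgHom S R A)
  have hje : ∀ w : T ⊗[S] R, ∀ z : T ⊗[S] A, Φ (j w * z) =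
      (Algebra.TensorProduct.lift (Algebra.ofId T T) iT (fun _ _ => Commute.all _ _) w • (Φ z).1,
       Algebra.TensorProduct.lift (Algebra.ofId T T) (iT.comp lam.toAlgHom) (fun _ _ => Commute.all _ _) w • (Φ z).2) := by
    intro w z
    induction w using TensorProduct.induction_on with
    | zero => simp [Prod.mk_eq_zero, Prod.ext_iff]
    | add y w hy hw => simp only [map_add, add_mul, hy, hw, add_smul, Prod.mk_add_mk]
    | tmul c r =>
      have e : j (c ⊗ₜ[S] r) * z = c • (((1 : T) ⊗ₜ[S] algebraMap R A r) * z) := by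
        rw [← smul_mul_assoc, TensorProduct.smul_tmul', smul_eq_mul, mul_one]; rfl
      rw [e, map_smul, hr]
      ext1 <;> simp [smul_smul]
  -- factorisation of multiplication by `e` through `T ⊗[R] A`
  let g : T →+ A →+ T ⊗[S] A :=
    AddMonoidHom.mk' (fun c => AddMonoidHom.mk' (fun a => j e * (c ⊗ₜ[S] a))
      (fun a b => by simp [TensorProduct.tmul_add, mul_add]))
      (fun c c' => AddMonoidHom.ext fun a => by simp [TensorProduct.add_tmul, mul_add])
  let E : T ⊗[R] A →+ T ⊗[S] A := TensorProduct.liftAddHom g fun r c a => by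
    show j e * ((r • c) ⊗ₜ[S] a) = j e * (c ⊗ₜ[S] (r • a))
    have h1 : (r • c) ⊗ₜ[S] a = j (iT r ⊗ₜ[S] (1 : R)) * (c ⊗ₜ[S] a) := by
      simp [j, Algebra.smul_def, RingHom.algebraMap_toAlgebra]
    have h2 : c ⊗ₜ[S] (r • a) = j ((1 : T) ⊗ₜ[S] r) * (c ⊗ₜ[S] a) := by
      simp [j, Algebra.smul_def]
    rw [h1, h2, ← mul_assoc, ← mul_assoc, ← map_mul, ← map_mul, hek]
  let q : T ⊗[S] A →+ T ⊗[R] A := TensorProduct.liftAddHom
    (AddMonoidHom.mk' (fun c => AddMonoidHom.mk' (fun a => c ⊗ₜ[R] a)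
      (fun a b => TensorProduct.tmul_add c a b)) (fun c c' => AddMonoidHom.ext fun a => TensorProduct.add_tmul c c' a))
    fun s c a => by
      show (s • c) ⊗ₜ[R] a = c ⊗ₜ[R] (s • a)
      rw [← algebraMap_smul R s c, ← algebraMap_smul R s a, TensorProduct.smul_tmul]
  have hEq : ∀ z, E (q z) = j e * z := by
    intro z
    induction z using TensorProduct.induction_on with
    | zero => simp [Prod.mk_eq_zero, Prod.ext_iff]
    | add y z hy hz => simp [hy, hz, mul_add]
    | tmul c a => rfl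
  have hσq : ∀ z, σ (q z) = (Φ z).1 := by
    intro z
    induction z using TensorProduct.induction_on with
    | zero => simp [Prod.mk_eq_zero, Prod.ext_iff]
    | add y z hy hz => simp [hy, hz]
    | tmul c a => rw [hΦ]; exact hσ c a
  have hinj : Function.Injective Φ := by
    refine (injective_iff_map_eq_zero Φ).2 fun z hz => ?_
    have h1 : ∀ w, (Φ w).1 = 0 → j e * w = 0 := fun w hw => by
      rw [← hEq, σ.injective ((hσq w).trans (hw.trans (map_zero σ).symm)), map_zero]
    have h2 : (Φ (t.bc S lam T z)).1 = 0 := by rw [ht, hz]; simp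
    have h3 := congrArg (t.bc S lam T) (h1 _ h2)
    have hrev : ∀ (w : T ⊗[S] R) (y : T ⊗[S] A), t.bc S lam T (j w * y) = j (lamTR T lam w) * t.bc S lam T y := by
      intro w y
      induction w using TensorProduct.induction_on with
      | zero => simp [Prod.mk_eq_zero, Prod.ext_iff]
      | add w w' hw hw' => simp only [map_add, add_mul, hw, hw']
      | tmul c r =>
        induction y using TensorProduct.induction_on with
        | zero => simp [Prod.mk_eq_zero, Prod.ext_iff]
        | add y y' hy hy' => simp only [mul_add, map_add, hy, hy']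
        | tmul c' a => simp [j, AzInv.LamInv.bc_tmul, t.map_mul, t.map_algebraMap, Algebra.commutes]
    rw [hrev, hbb, map_zero, helam, map_sub, map_one, sub_mul, one_mul, h1 z (by rw [hz]; rfl), sub_zero] at h3
    exact h3
  have hsurj : Function.Surjective Φ := by
    have hfst : ∀ X : Matrix (Fin n) (Fin n) T, ∃ z, (Φ z).1 = X := fun X => by
      obtain ⟨y, rfl⟩ := σ.surjective X
      induction y using TensorProduct.induction_on with
      | zero => exact ⟨0, by simp⟩
      | add y y' hy hy' =>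
        obtain ⟨z, hz⟩ := hy
        obtain ⟨z', hz'⟩ := hy'
        exact ⟨z + z', by simp [hz, hz']⟩
      | tmul c a => exact ⟨c ⊗ₜ[S] a, by rw [hΦ, hσ]⟩
    intro p
    obtain ⟨z, hz⟩ := hfst p.1
    obtain ⟨z', hz'⟩ := hfst p.2ᵀ
    refine ⟨j e * z + j (1 - e) * t.bc S lam T z', ?_⟩
    rw [map_add, hje, hje, map_sub, map_sub, map_one, map_one, he1, he0, ht, hz, hz']
    simp
  exact ⟨AlgEquiv.ofBijective Φ ⟨hinj, hsurj⟩, hr, ht⟩

end Swap

end Groth.L11.Az
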