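import Groth.Agent.L11.Az.EtaleRefine
import Groth.Agent.L11.Az.EtaleCover
import Groth.Agent.L11.Az.Antisym
import Groth.Agent.L11.Az.Morita
import Groth.Agent.L09.RInvBasic
import Groth.Prelude.Def_AzInv

/-!
Azumaya algebras and their automorphisms over an integral extension become split and inner after an
etale cover of the base.
-/

set_option autoImplicit false
universe u v w

open scoped TensorProduct

noncomputable section

namespace Groth.L11.Az

attribute [local instance] Algebra.TensorProduct.rightAlgebra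

/-- Products of indicator idempotents. -/
theorem single_mul_single {ι : Type*} [DecidableEq ι] {M : ι → Type*} [∀ i, CommRing (M i)] (p q : ι) :
    (Pi.single p 1 : ∀ i, M i) * Pi.single q 1 = if p = q then Pi.single p 1 else 0 := by
  ext i
  by_cases hpq : p = q
  · subst hpq
    by_cases hi : i = p
    · subst hi; simp
    · simp [Pi.single_eq_of_ne hi]
  · by_cases hi : i = p
    · subst hi
      simp [hpq]
    · simp [hpq, Pi.single_eq_of_ne hi]

/-- Scaling an indicator idempotent. -/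
theorem smul_mul_single {R ι : Type*} [DecidableEq ι] {M : ι → Type*} [CommRing R] [∀ i, CommRing (M i)]
    [∀ i, Algebra R (M i)] (r : R) (w : ∀ i, M i) (p : ι) (h : algebraMap R (M p) r * w p = 1) :
    r • (w * Pi.single p 1) = Pi.single p 1 := by
  ext i
  by_cases hi : i = p
  · subst hi
    simp [Algebra.smul_def, h]
  · simp [Pi.single_eq_of_ne hi]

variable {S : Type u} [CommRing S] {R : Type v} [CommRing R] [Algebra S R]
  {A : Type w} [Ring A] [Algebra S A] [Algebra R A] [IsScalarTower S R A]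
  (T : Type u) [CommRing T] [Algebra S T]

/-- Base change along the base equals base change along the tensor ring. -/
theorem exists_assoc :
    ∃ F : T ⊗[S] A ≃ₐ[S] (T ⊗[S] R) ⊗[R] A, ∀ (c : T) (a : A), F (c ⊗ₜ[S] a) = (c ⊗ₜ[S] (1 : R)) ⊗ₜ[R] a := by
  let W := T ⊗[S] R
  let i1 : T →ₐ[S] W ⊗[R] A :=
    { ((algebraMap W (W ⊗[R] A)).comp (Algebra.TensorProduct.includeLeft : T →ₐ[S] W).toRingHom) with
      commutes' := fun s => by
        show algebraMap W (W ⊗[R] A) ((Algebra.TensorProduct.includeLeft : T →ₐ[S] W) (algebraMap S T s)) = _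
        rw [AlgHom.commutes, ← IsScalarTower.algebraMap_apply] }
  let i2 : A →ₐ[S] W ⊗[R] A :=
    { (Algebra.TensorProduct.includeRight : A →ₐ[R] W ⊗[R] A).toRingHom with
      commutes' := fun s => by
        show (Algebra.TensorProduct.includeRight : A →ₐ[R] W ⊗[R] A) (algebraMap S A s) = _
        rw [IsScalarTower.algebraMap_apply S R A, AlgHom.commutes, IsScalarTower.algebraMap_apply S W (W ⊗[R] A),
          IsScalarTower.algebraMap_apply R W (W ⊗[R] A)]
        congr 1
        exact ((Algebra.TensorProduct.includeRight : R →ₐ[S] W).commutes s) }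
  let F : T ⊗[S] A →ₐ[S] W ⊗[R] A := Algebra.TensorProduct.lift i1 i2 fun c a => Algebra.commutes _ _
  have hF : ∀ (c : T) (a : A), F (c ⊗ₜ[S] a) = (c ⊗ₜ[S] (1 : R)) ⊗ₜ[R] a := fun c a => by
    show algebraMap W (W ⊗[R] A) (c ⊗ₜ[S] (1 : R)) * ((1 : W) ⊗ₜ[R] a) = _
    rw [Algebra.TensorProduct.algebraMap_apply, Algebra.TensorProduct.tmul_mul_tmul]
    simp
  let j : W →ₐ[S] T ⊗[S] A := Algebra.TensorProduct.map (AlgHom.id S T) (IsScalarTower.toAlgHom S R A)
  let g : W →+ A →+ T ⊗[S] A :=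
    AddMonoidHom.mk' (fun x => AddMonoidHom.mk' (fun a => j x * ((1 : T) ⊗ₜ[S] a))
      (fun a b => by simp [TensorProduct.tmul_add, mul_add]))
      (fun x y => AddMonoidHom.ext fun a => by simp [add_mul])
  let G : W ⊗[R] A →+ T ⊗[S] A := TensorProduct.liftAddHom g fun r x a => by
    show j (r • x) * ((1 : T) ⊗ₜ[S] a) = j x * ((1 : T) ⊗ₜ[S] (r • a))
    have e1 : j (r • x) = j x * ((1 : T) ⊗ₜ[S] algebraMap R A r) := by
      rw [Algebra.smul_def, mul_comm, map_mul]; rfl
    rw [e1, mul_assoc, Algebra.TensorProduct.tmul_mul_tmul, one_mul, ← Algebra.smul_def]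
  have hGF : ∀ z, G (F z) = z := fun z => by
    induction z using TensorProduct.induction_on with
    | zero => simp
    | add y z hy hz => simp [hy, hz]
    | tmul c a => rw [hF]; show (c ⊗ₜ[S] algebraMap R A 1) * ((1 : T) ⊗ₜ[S] a) = _; simp
  have hFG : ∀ z, F (G z) = z := fun z => by
    induction z using TensorProduct.induction_on with
    | zero => simp
    | add y z hy hz => simp [hy, hz]
    | tmul x a =>
      show F (j x * ((1 : T) ⊗ₜ[S] a)) = _
      induction x using TensorProduct.induction_on with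
      | zero => simp
      | add x y hx hy => rw [map_add, add_mul, map_add, hx, hy, TensorProduct.add_tmul]
      | tmul c r =>
        rw [show j (c ⊗ₜ[S] r) * ((1 : T) ⊗ₜ[S] a) = c ⊗ₜ[S] (r • a) by show (c ⊗ₜ[S] algebraMap R A r) * ((1 : T) ⊗ₜ[S] a) = _; simp [Algebra.smul_def], hF,
          TensorProduct.tmul_smul]
        rw [TensorProduct.smul_tmul', Algebra.smul_def]
        congr 1
        show ((1 : T) ⊗ₜ[S] r) * (c ⊗ₜ[S] (1 : R)) = _
        rw [Algebra.TensorProduct.tmul_mul_tmul, one_mul, mul_one]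
  exact ⟨AlgEquiv.ofBijective F ⟨fun x y e => by rw [← hGF x, ← hGF y, e], fun y => ⟨G y, hFG y⟩⟩, hF⟩

variable {lam : R ≃ₐ[S] R}

/-- An Azumaya algebra is split by an etale cover of the fixed ring. -/
theorem exists_split_base (hlam : ∀ r, lam (lam r) = r) (hfix : RInv.IsFixedRing S R lam.toRingEquiv)
    {n : ℕ} (hA : AzInv.IsAzumayaDeg R A n) :
    ∃ (T : Type u) (_ : CommRing T) (_ : Algebra S T) (_ : Algebra.Etale S T) (_ : Module.FaithfullyFlat S T)
      (f : T ⊗[S] A ≃ₐ[T] Matrix (Fin n) (Fin n) (T ⊗[S] R)),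
      ∀ (r : R) (x : T ⊗[S] A),
        f (((1 : T) ⊗ₜ[S] algebraMap R A r) * x) = Matrix.scalar (Fin n) ((1 : T) ⊗ₜ[S] r) * f x := by
  haveI := hA.1
  haveI := Groth.L09.RInvBasic.isIntegral (lam := lam.toRingEquiv) hlam hfix
  obtain ⟨C, _, _, _, _, ⟨σ⟩⟩ := exists_etale_splitting A n hA.2
  obtain ⟨T, _, _, _, _, ⟨h⟩⟩ := exists_refine_cover S R C
  obtain ⟨φ, -⟩ := exists_baseChange_split (T' := T ⊗[S] R) σ h
  obtain ⟨F, hF⟩ := exists_assoc (S := S) (A := A) (R := R) T
  let f₀ := F.trans (φ.restrictScalars S)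
  let f : T ⊗[S] A ≃ₐ[T] Matrix (Fin n) (Fin n) (T ⊗[S] R) :=
    { f₀.toRingEquiv with
      commutes' := fun c => by
        show φ (F (c ⊗ₜ[S] (1 : A))) = _
        rw [hF, show ((c ⊗ₜ[S] (1 : R)) ⊗ₜ[R] (1 : A) : (T ⊗[S] R) ⊗[R] A) = algebraMap _ _ (c ⊗ₜ[S] (1 : R)) from rfl,
          AlgEquiv.commutes]
        rfl }
  refine ⟨T, inferInstance, inferInstance, inferInstance, inferInstance, f, fun r x => ?_⟩
  show φ (F _) = _ * φ (F x)
  rw [map_mul F, map_mul φ, hF, ← Algebra.TensorProduct.one_def (A := T) (B := R)]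
  congr 1
  rw [← Algebra.TensorProduct.includeRight_apply, AlgHom.commutes,
    IsScalarTower.algebraMap_apply R (T ⊗[S] R) ((T ⊗[S] R) ⊗[R] A), AlgEquiv.commutes]
  rfl

/-- Automorphisms of Azumaya algebras are inner after an etale cover of the fixed ring. -/
theorem exists_inner_base (hlam : ∀ r, lam (lam r) = r) (hfix : RInv.IsFixedRing S R lam.toRingEquiv)
    [IsAzumaya R A] (ψ : A ≃ₐ[R] A) :
    ∃ (T : Type u) (_ : CommRing T) (_ : Algebra S T) (_ : Algebra.Etale S T) (_ : Module.FaithfullyFlat S T)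
      (u : (T ⊗[S] A)ˣ),
      ∀ x : T ⊗[S] A,
        Algebra.TensorProduct.congr (AlgEquiv.refl : T ≃ₐ[T] T) (ψ.restrictScalars S) x = ↑u * x * ↑u⁻¹ := by
  classical
  haveI := Groth.L09.RInvBasic.isIntegral (lam := lam.toRingEquiv) hlam hfix
  choose a a' f hf ha hψ using fun p : PrimeSpectrum R => exists_conj ψ p.asIdeal p.isPrime.ne_top
  obtain ⟨t, ht⟩ := CompactSpace.isCompact_univ.elim_finite_subcover
    (fun p => (PrimeSpectrum.basicOpen (f p) : Set (PrimeSpectrum R))) (fun p => (PrimeSpectrum.basicOpen (f p)).2)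
    (fun p _ => Set.mem_iUnion.2 ⟨p, hf p⟩)
  let C := Π p : t, Localization.Away (f p.1)
  haveI : ∀ p : t, Algebra.Etale R (Localization.Away (f p.1)) := fun p => Algebra.Etale.of_isLocalizationAway (f p.1)
  haveI : Algebra.Etale R C := inferInstance
  haveI : Module.FaithfullyFlat R C := Module.FaithfullyFlat.of_comap_surjective fun p => by
    obtain ⟨i, hi, hp⟩ := Set.mem_iUnion₂.1 (ht (Set.mem_univ p))
    obtain ⟨q, hq⟩ : p ∈ Set.range (PrimeSpectrum.comap (algebraMap R (Localization.Away (f i)))) := by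
      rw [PrimeSpectrum.localization_away_comap_range (Localization.Away (f i)) (f i)]; exact hp
    exact ⟨PrimeSpectrum.comap (Pi.evalRingHom _ (⟨i, hi⟩ : t)) q, by rw [← PrimeSpectrum.comap_comp_apply]; exact hq⟩
  let w : C := fun p => ↑(IsLocalization.Away.algebraMap_isUnit (S := Localization.Away (f p.1)) (f p.1)).unit⁻¹
  let ε : t → C := fun p => Pi.single p 1
  let U : C ⊗[R] A := ∑ p : t, ε p ⊗ₜ[R] a p.1
  let U' : C ⊗[R] A := ∑ p : t, (w * ε p) ⊗ₜ[R] a' p.1
  have hεε : ∀ p q : t, ε p * ε q = if p = q then ε p else 0 := fun p q =>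
    single_mul_single (M := fun p : t => Localization.Away (f p.1)) p q
  have hU'U : U' * U = 1 := by
    rw [Finset.sum_mul_sum]
    simp only [Algebra.TensorProduct.tmul_mul_tmul, mul_assoc, hεε, mul_ite, mul_zero, TensorProduct.ite_tmul,
      Finset.sum_ite_eq, Finset.mem_univ, if_true]
    have e : ∀ p : t, (w * ε p) ⊗ₜ[R] (a' p.1 * a p.1) = ε p ⊗ₜ[R] (1 : A) := fun p => by
      rw [ha, Algebra.algebraMap_eq_smul_one, TensorProduct.tmul_smul, TensorProduct.smul_tmul']
      congr 1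
      exact smul_mul_single (M := fun p : t => Localization.Away (f p.1)) (f p.1) w p
        (IsUnit.mul_val_inv _)
    have h1 : ∑ p : t, ε p = 1 := Finset.univ_sum_single (fun p : t => (1 : Localization.Away (f p.1)))
    rw [Finset.sum_congr rfl fun p _ => e p, ← TensorProduct.sum_tmul, h1]
    rfl
  have hUψ : ∀ x : A, ((1 : C) ⊗ₜ[R] ψ x) * U = U * ((1 : C) ⊗ₜ[R] x) := fun x => by
    simp only [U]
    rw [Finset.mul_sum, Finset.sum_mul]
    refine Finset.sum_congr rfl fun p _ => ?_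
    rw [Algebra.TensorProduct.tmul_mul_tmul, Algebra.TensorProduct.tmul_mul_tmul, one_mul, mul_one, hψ]
  obtain ⟨T, _, _, _, _, ⟨h⟩⟩ := exists_refine_cover S R C
  obtain ⟨F, hF⟩ := exists_assoc (S := S) (A := A) (R := R) T
  let H : C ⊗[R] A →ₐ[R] (T ⊗[S] R) ⊗[R] A := Algebra.TensorProduct.map h (AlgHom.id R A)
  let V : T ⊗[S] A := F.symm (H U)
  let V' : T ⊗[S] A := F.symm (H U')
  have hV'V : V' * V = 1 := by rw [← map_mul, ← map_mul, hU'U, map_one, map_one]
  have hVx : ∀ x : T ⊗[S] A,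
      Algebra.TensorProduct.congr (AlgEquiv.refl : T ≃ₐ[T] T) (ψ.restrictScalars S) x * V = V * x := by
    intro x
    apply F.injective
    rw [map_mul, map_mul, AlgEquiv.apply_symm_apply]
    induction x using TensorProduct.induction_on with
    | zero => simp
    | add y z hy hz => simp only [map_add, add_mul, mul_add, hy, hz]
    | tmul c x =>
      rw [Algebra.TensorProduct.congr_apply, Algebra.TensorProduct.map_tmul, hF, hF]
      have h1 : ∀ y : A, ((c ⊗ₜ[S] (1 : R)) ⊗ₜ[R] y : (T ⊗[S] R) ⊗[R] A) =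
          algebraMap _ _ (c ⊗ₜ[S] (1 : R)) * H ((1 : C) ⊗ₜ[R] y) := fun y => by
        simp [H, Algebra.TensorProduct.algebraMap_apply, Algebra.TensorProduct.tmul_mul_tmul]
      show (c ⊗ₜ[S] (1 : R)) ⊗ₜ[R] ψ x * H U = H U * (c ⊗ₜ[S] (1 : R)) ⊗ₜ[R] x
      rw [h1, h1, mul_assoc, ← map_mul H, hUψ, map_mul H, ← mul_assoc, ← mul_assoc, Algebra.commutes]
  have hVV' : V * V' = 1 := by
    haveI : IsAzumaya (T ⊗[S] R) ((T ⊗[S] R) ⊗[R] A) := isAzumaya_baseChange (R := R) (T ⊗[S] R) A
    apply F.injective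
    rw [map_mul, map_one]
    exact mul_eq_one_symm (R := T ⊗[S] R) (by rw [← map_mul, hV'V, map_one])
  refine ⟨T, inferInstance, inferInstance, inferInstance, inferInstance, ⟨V, V', hVV', hV'V⟩, fun x => ?_⟩
  show _ = V * x * V'
  rw [← hVx x, mul_assoc, hVV', mul_one]

end Groth.L11.Az
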