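import Groth.Agent.L11.Az.Pres
import Groth.Agent.L11.Az.Nbhd
import Groth.Agent.L11.Az.SplitBase
import Groth.Agent.L11.Az.QuadSwap

/-!
Existence of presentations near a point, and their signs.
-/

set_option autoImplicit false
universe u v w

open scoped TensorProduct Matrix
open Groth.L09.RInvBranch (lamT)

noncomputable section

namespace Groth.L11.Az

variable {S : Type u} [CommRing S] {R : Type v} [CommRing R] [Algebra S R] {lam : R ≃ₐ[S] R}
  {A : Type w} [Ring A] [Algebra S A] [Algebra R A] [IsScalarTower S R A] {t : AzInv.LamInv R A lam}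

/-- A point over which the involution is ramified. -/
def Ram (lam : R ≃ₐ[S] R) (p : PrimeSpectrum S) : Prop :=
  ∀ (r : R) (a : S), algebraMap S R a = (r - lam r) * (r - lam r) → a ∈ p.asIdeal

theorem not_ram_of_quad (hlam : ∀ r, lam (lam r) = r) (hfix : RInv.IsFixedRing S R lam.toRingEquiv)
    (hq : RInv.IsQuadEtale S R) (p : PrimeSpectrum S) : ¬ Ram lam p := fun h => by
  obtain ⟨k, r, a, c, ha, hsum⟩ := exists_diffs hlam hfix hq
  refine p.isPrime.ne_top ((Ideal.eq_top_iff_one _).2 (hsum ▸ Ideal.sum_mem _ fun i _ => ?_))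
  exact Ideal.mul_mem_left _ _ (Ideal.mul_mem_left _ _ (h (r i) (a i) (ha i)))

theorem ram_of_fix (q : PrimeSpectrum R) (h : ∀ r, lam r - r ∈ q.asIdeal) :
    Ram lam (PrimeSpectrum.comap (algebraMap S R) q) := fun r a ha => by
  rw [PrimeSpectrum.comap_asIdeal, Ideal.mem_comap, ha]
  exact Ideal.mul_mem_left _ _ (by rw [← neg_mem_iff, neg_sub]; exact h r)

/-- At a ramified point the involution is trivial modulo the primes above it. -/
theorem Ram.sub_mem {p : PrimeSpectrum S} (h : Ram lam p) (hlam : ∀ r, lam (lam r) = r)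
    (hfix : RInv.IsFixedRing S R lam.toRingEquiv) {T : Type*} [CommRing T] [Algebra S T] (M : Ideal (T ⊗[S] R))
    [M.IsPrime] (hM : M.comap (algebraMap S (T ⊗[S] R)) = p.asIdeal) (x : T ⊗[S] R) : lamT T lam x - x ∈ M := by
  induction x using TensorProduct.induction_on with
  | zero => simp
  | add y z hy hz => rw [map_add, add_sub_add_comm]; exact add_mem hy hz
  | tmul c r =>
    obtain ⟨a, ha⟩ : ∃ a : S, algebraMap S R a = (r - lam r) * (r - lam r) :=
      (hfix.2 _).1 (show lam ((r - lam r) * (r - lam r)) = (r - lam r) * (r - lam r) by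
        simp only [map_mul, map_sub, hlam r]; ring)
    have h1 : ((1 : T) ⊗ₜ[S] (r - lam r)) * ((1 : T) ⊗ₜ[S] (r - lam r)) ∈ M := by
      rw [Algebra.TensorProduct.tmul_mul_tmul, one_mul, ← ha, ← Algebra.TensorProduct.includeRight_apply,
        AlgHom.commutes, ← Ideal.mem_comap, hM]
      exact h r a ha
    rw [Groth.L09.RInvBranch.lamT_tmul, ← TensorProduct.tmul_sub,
      show c ⊗ₜ[S] (lam r - r) = -((c ⊗ₜ[S] (1 : R)) * ((1 : T) ⊗ₜ[S] (r - lam r))) by
        rw [Algebra.TensorProduct.tmul_mul_tmul, mul_one, one_mul, ← TensorProduct.tmul_neg, neg_sub]]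
    exact neg_mem (Ideal.mul_mem_left _ _ ((‹M.IsPrime›.mem_or_mem h1).elim id id))

section Bc
variable {T : Type*} [CommRing T] [Algebra S T]

theorem bc_mul (x y : T ⊗[S] A) : t.bc S lam T (x * y) = t.bc S lam T y * t.bc S lam T x := by
  induction x using TensorProduct.induction_on with
  | zero => simp
  | add x x' hx hx' => rw [add_mul, map_add, hx, hx', map_add, mul_add]
  | tmul c a =>
    induction y using TensorProduct.induction_on with
    | zero => simp
    | add y y' hy hy' => rw [mul_add, map_add, hy, hy', map_add, add_mul]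
    | tmul d b => simp [AzInv.LamInv.bc_tmul, t.map_mul, mul_comm c d]

theorem bc_bc (x : T ⊗[S] A) : t.bc S lam T (t.bc S lam T x) = x := by
  induction x using TensorProduct.induction_on with
  | zero => simp
  | add x y hx hy => simp [hx, hy]
  | tmul c a => simp [AzInv.LamInv.bc_tmul]

theorem bc_one : t.bc S lam T (1 : T ⊗[S] A) = 1 := by
  rw [Algebra.TensorProduct.one_def, AzInv.LamInv.bc_tmul, t.map_one]

theorem centre_commute (c : T ⊗[S] R) (x : T ⊗[S] A) : Pres.centre T A c * x = x * Pres.centre T A c := by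
  induction c using TensorProduct.induction_on with
  | zero => simp
  | add c d hc hd => rw [map_add, add_mul, mul_add, hc, hd]
  | tmul c r =>
    induction x using TensorProduct.induction_on with
    | zero => simp
    | add y z hy hz => rw [mul_add, add_mul, hy, hz]
    | tmul d a => simp [Pres.centre, mul_comm c d, Algebra.commutes]

theorem bc_centre_mul (c : T ⊗[S] R) (x : T ⊗[S] A) :
    t.bc S lam T (Pres.centre T A c * x) = Pres.centre T A (lamT T lam c) * t.bc S lam T x := by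
  rw [bc_mul, centre_commute (lamT T lam c)]
  congr 1
  induction c using TensorProduct.induction_on with
  | zero => simp
  | add c d hc hd => simp only [map_add, hc, hd]
  | tmul c r => simp [Pres.centre, AzInv.LamInv.bc_tmul, t.map_algebraMap]

end Bc

/-- A presentation exists near every point. -/
theorem exists_pres (hlam : ∀ r, lam (lam r) = r) (hfix : RInv.IsFixedRing S R lam.toRingEquiv) {n : ℕ}
    (hn : 0 < n) (hA : AzInv.IsAzumayaDeg R A n) (t : AzInv.LamInv R A lam) (p : PrimeSpectrum S) :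
    ∃ (N : Nbhd p) (W : Matrix (Fin n) (Fin n) (N.T ⊗[S] R)), Nonempty (Pres N.T t (Fin n) W) := by
  classical
  obtain ⟨T, _, _, _, _, f, hf⟩ := exists_split_base hlam hfix hA
  obtain ⟨q, hq⟩ := PrimeSpectrum.comap_surjective_of_faithfullyFlat (A := S) (B := T) p
  let N₀ : Nbhd p := ⟨T, q, hq⟩
  have hinv : Function.Involutive (lamT T lam) := Groth.L09.RInvBranch.lamT_involutive T hlam
  have hT : RInv.IsFixedRing T (T ⊗[S] R) (lamT T lam) :=
    Groth.L09.RInvBranch.isFixedRing_baseChange T hlam hfix (Or.inl inferInstance)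
  have hs : ∀ (r : R) (x : T ⊗[S] A),
      f (((1 : T) ⊗ₜ[S] algebraMap R A r) * x) = ((1 : T) ⊗ₜ[S] r) • f x := fun r x => by
    rw [hf, Matrix.smul_eq_diagonal_mul]; rfl
  have hc : ∀ (c : T ⊗[S] R) (x : T ⊗[S] A), f (Pres.centre T A c * x) = c • f x := fun c x => by
    induction c using TensorProduct.induction_on with
    | zero => simp
    | add c d hc hd => rw [map_add, add_mul, map_add, hc, hd, add_smul]
    | tmul c r =>
      have e1 : Pres.centre T A (c ⊗ₜ[S] r) * x = c • (((1 : T) ⊗ₜ[S] algebraMap R A r) * x) := by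
        rw [← smul_mul_assoc, TensorProduct.smul_tmul', smul_eq_mul, mul_one]; rfl
      rw [e1, map_smul, hs, ← smul_assoc, TensorProduct.smul_tmul', smul_eq_mul, mul_one]
  have hc' : ∀ (c : T ⊗[S] R) X, f.symm (c • X) = Pres.centre T A c * f.symm X := fun c X => by
    apply f.injective; rw [hc, AlgEquiv.apply_symm_apply, AlgEquiv.apply_symm_apply]
  let g : Matrix (Fin n) (Fin n) (T ⊗[S] R) → Matrix (Fin n) (Fin n) (T ⊗[S] R) := fun X =>
    f (t.bc S lam T (f.symm (star' T lam X)))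
  have gsmul : ∀ (c : T ⊗[S] R) X, g (c • X) = c • g X := fun c X => by
    show f _ = c • f _
    rw [star'_smul, hc', bc_centre_mul, hc, hinv c]
  have gone : g 1 = 1 := by
    show f _ = 1
    rw [star'_one, map_one, bc_one, map_one]
  have gadd : ∀ X Y, g (X + Y) = g X + g Y := fun X Y => by
    show f _ = f _ + f _
    rw [show star' T lam (X + Y) = star' T lam X + star' T lam Y from Matrix.ext fun i j => by simp, map_add,
      map_add, map_add]
  let ψ₀ : Matrix (Fin n) (Fin n) (T ⊗[S] R) →ₐ[T ⊗[S] R] Matrix (Fin n) (Fin n) (T ⊗[S] R) :=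
    { toFun := g
      map_one' := gone
      map_mul' := fun X Y => by
        show f _ = f _ * f _
        rw [star'_mul, map_mul, bc_mul, map_mul]
      map_zero' := by
        show g 0 = 0
        simpa using gsmul 0 0
      map_add' := gadd
      commutes' := fun c => by
        show g _ = _
        rw [Algebra.algebraMap_eq_smul_one, gsmul, gone] }
  let ψ : Matrix (Fin n) (Fin n) (T ⊗[S] R) ≃ₐ[T ⊗[S] R] Matrix (Fin n) (Fin n) (T ⊗[S] R) :=
    AlgEquiv.ofBijective ψ₀ <| by
      refine Function.bijective_iff_has_inverse.2 ⟨fun X => star' T lam (f (t.bc S lam T (f.symm X))), fun X => ?_,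
        fun X => ?_⟩
      · show star' T lam (f (t.bc S lam T (f.symm (g X)))) = X
        simp only [g, AlgEquiv.symm_apply_apply, bc_bc, AlgEquiv.apply_symm_apply, star'_star' hlam]
      · show g _ = X
        simp only [g, star'_star' hlam, AlgEquiv.symm_apply_apply, bc_bc, AlgEquiv.apply_symm_apply]
  haveI : IsAzumaya (T ⊗[S] R) (Matrix (Fin n) (Fin n) (T ⊗[S] R)) := by
    haveI : Nonempty (Fin n) := ⟨⟨0, hn⟩⟩
    exact IsAzumaya.matrix (T ⊗[S] R) (Fin n)
  haveI := Groth.L09.RInvBasic.isIntegral hinv hT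
  obtain ⟨M, -, hM, hMq⟩ := Ideal.exists_ideal_over_prime_of_isIntegral q.asIdeal (⊥ : Ideal (T ⊗[S] R))
    (by rw [← RingHom.ker_eq_comap_bot, (RingHom.injective_iff_ker_eq_bot _).1 hT.1]; exact bot_le)
  let M' := M.comap (lamT T lam : T ⊗[S] R →+* T ⊗[S] R)
  haveI : M'.IsPrime := inferInstance
  have hloc : ∀ (P : Ideal (T ⊗[S] R)) [P.IsPrime], ∃ (a : Matrix (Fin n) (Fin n) (T ⊗[S] R)) (c : T ⊗[S] R),
      c ∉ P ∧ (∀ (Q : Ideal (T ⊗[S] R)) [Q.IsPrime], c ∉ Q → a.det ∉ Q) ∧ ∀ X, ψ X * a = a * X := by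
    intro P hP
    obtain ⟨a, a', c, hc, ha, hψ⟩ := exists_conj ψ P hP.ne_top
    refine ⟨a, c, hc, fun Q hQ hcQ hd => ?_, hψ⟩
    have h1 : a'.det * a.det = c ^ n := by
      rw [← Matrix.det_mul, ha, Matrix.algebraMap_eq_diagonal, Matrix.det_diagonal]; simp
    exact hcQ (hQ.mem_of_pow_mem n (h1 ▸ Q.mul_mem_left _ hd))
  obtain ⟨a, hdM, hdM', hψ⟩ : ∃ a : Matrix (Fin n) (Fin n) (T ⊗[S] R),
      a.det ∉ M ∧ a.det ∉ M' ∧ ∀ X, ψ X * a = a * X := by
    obtain ⟨a₁, c₁, hc₁, hd₁, hψ₁⟩ := hloc M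
    by_cases h1 : c₁ ∈ M'
    swap
    · exact ⟨a₁, hd₁ M hc₁, hd₁ M' h1, hψ₁⟩
    obtain ⟨a₂, c₂, hc₂, hd₂, hψ₂⟩ := hloc M'
    by_cases h2 : c₂ ∈ M
    swap
    · exact ⟨a₂, hd₂ M h2, hd₂ M' hc₂, hψ₂⟩
    have key : ∀ (Q : Ideal (T ⊗[S] R)) [Q.IsPrime] (b₁ b₂ : Matrix (Fin n) (Fin n) (T ⊗[S] R)) (e₁ e₂ : T ⊗[S] R),
        e₁ ∉ Q → b₁.det ∉ Q → e₂ ∈ Q → (e₁ • b₁ + e₂ • b₂).det ∉ Q := by
      intro Q hQ b₁ b₂ e₁ e₂ he₁ hb he₂ hd
      have h0 : Ideal.Quotient.mk Q (e₁ • b₁ + e₂ • b₂).det = Ideal.Quotient.mk Q (e₁ • b₁).det := by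
        rw [RingHom.map_det, RingHom.map_det]
        congr 1
        ext i j
        simp [Ideal.Quotient.eq_zero_iff_mem.2 he₂]
      rw [Ideal.Quotient.eq_zero_iff_mem.2 hd, eq_comm, Ideal.Quotient.eq_zero_iff_mem, Matrix.det_smul,
        Fintype.card_fin] at h0
      exact (hQ.mem_or_mem h0).elim (fun h => he₁ (hQ.mem_of_pow_mem n h)) hb
    refine ⟨c₁ • a₁ + c₂ • a₂, key M a₁ a₂ c₁ c₂ hc₁ (hd₁ M hc₁) h2, ?_, fun X => ?_⟩
    · rw [add_comm]; exact key M' a₂ a₁ c₂ c₁ hc₂ (hd₂ M' hc₂) h1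
    · rw [mul_add, add_mul, mul_smul_comm, mul_smul_comm, smul_mul_assoc, smul_mul_assoc, hψ₁, hψ₂]
  obtain ⟨s, hsd⟩ := Groth.L09.RInvBasic.exists_norm hinv hT a.det
  have hsq : s ∉ q.asIdeal := by
    rw [← hMq, Ideal.mem_comap, hsd]
    exact fun h => (hM.mem_or_mem h).elim hdM hdM'
  obtain ⟨N, φ, hu, -⟩ := N₀.exists_away s hsq
  have hW : IsUnit (a.map (Algebra.TensorProduct.map φ (AlgHom.id S R))) := by
    rw [Matrix.isUnit_iff_isUnit_det, ← AlgHom.mapMatrix_apply, ← AlgHom.map_det]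
    refine isUnit_of_mul_isUnit_left (y := Algebra.TensorProduct.map φ (AlgHom.id S R) (lamT T lam a.det)) ?_
    rw [← map_mul, ← hsd]
    show IsUnit (Algebra.TensorProduct.map φ (AlgHom.id S R) (s ⊗ₜ[S] (1 : R)))
    rw [Algebra.TensorProduct.map_tmul]
    exact hu.map (algebraMap N.T (N.T ⊗[S] R))
  obtain ⟨Q, -⟩ := Pres.exists_baseChange' (t := t) φ f hs (fun x => by
    rw [← hψ]
    congr 1
    show _ = g _
    simp only [g]
    erw [star'_star' hlam, AlgEquiv.symm_apply_apply]) hW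
  exact ⟨N, _, ⟨Q⟩⟩

/-- The matrix of a presentation is hermitian up to a norm one scalar. -/
theorem Pres.exists_sign {T : Type*} [CommRing T] [Algebra S T] {ι : Type*} [Fintype ι] [DecidableEq ι]
    {W : Matrix ι ι (T ⊗[S] R)} (hlam : ∀ r, lam (lam r) = r) (P : Pres T t ι W) [Nonempty ι] :
    ∃ e : T ⊗[S] R, star' T lam W = e • W ∧ lamT T lam e * e = 1 := by
  obtain ⟨Wi, hWW, hWW'⟩ := isUnit_iff_exists.1 P.isUnit
  have hcomm : ∀ X : Matrix ι ι (T ⊗[S] R), star' T lam W * Wi * X = X * (star' T lam W * Wi) := by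
    intro X
    obtain ⟨x, rfl⟩ := P.equiv.surjective X
    have h1 := P.map_bc (t.bc S lam T x)
    rw [bc_bc] at h1
    have h2 := congrArg (star' T lam) (P.map_bc x)
    rw [star'_mul, star'_mul, star'_star' hlam] at h2
    calc star' T lam W * Wi * P.equiv x
        = star' T lam W * Wi * (P.equiv x * W) * Wi := by simp only [mul_assoc, hWW, mul_one]
      _ = star' T lam W * star' T lam (P.equiv (t.bc S lam T x)) * Wi := by
          rw [h1, ← mul_assoc _ W, mul_assoc _ Wi W, hWW', mul_one]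
      _ = P.equiv x * (star' T lam W * Wi) := by rw [h2, mul_assoc]
  obtain ⟨e, he⟩ := Matrix.mem_range_scalar_of_commute_single (M := star' T lam W * Wi)
    fun i j _ => (hcomm (Matrix.single i j 1)).symm
  have hWe : star' T lam W = e • W := by
    rw [Matrix.smul_eq_diagonal_mul, show (Matrix.diagonal fun _ : ι => e) = star' T lam W * Wi from he, mul_assoc,
      hWW', mul_one]
  refine ⟨e, hWe, ?_⟩
  have h3 := congrArg (star' T lam) hWe
  rw [star'_star' hlam, star'_smul, hWe, smul_smul] at h3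
  have h4 := congrArg (· * Wi) h3
  simp only [smul_mul_assoc, hWW] at h4
  obtain ⟨i⟩ := ‹Nonempty ι›
  simpa using (congrFun (congrFun h4 i) i).symm

end Groth.L11.Az
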