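import Groth.Agent.L11.Az.PresLocal
import Mathlib.LinearAlgebra.TensorProduct.Tower
import Mathlib.LinearAlgebra.Dimension.Constructions
import Mathlib.Data.Sym.Card
import Mathlib.RingTheory.Flat.Basic
import Mathlib.LinearAlgebra.FiniteDimensional.Lemmas

/-!
Symmetric elements at a ramified point.
-/

set_option autoImplicit false
universe u v w

open scoped TensorProduct Matrix
open Groth.L09.RInvBranch (lamT)

noncomputable section

namespace Groth.L11.Az

variable {S : Type u} [CommRing S] {R : Type v} [CommRing R] [Algebra S R] {lam : R ≃ₐ[S] R}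
  {A : Type w} [Ring A] [Algebra S A] [Algebra R A] [IsScalarTower S R A] {t : AzInv.LamInv R A lam}

/-- The span of the symmetric elements over a field. -/
def symSpan (t : AzInv.LamInv R A lam) (K : Type*) [Field K] [Algebra R K] : Submodule K (K ⊗[R] A) :=
  Submodule.span K (Set.range fun a : {a : A // t a = a} => (1 : K) ⊗ₜ[R] (a : A))

/-- The dimension of the span is stable under field extensions. -/
theorem finrank_symSpan_ext (K L : Type*) [Field K] [Field L] [Algebra R K] [Algebra R L] [Algebra K L]
    [IsScalarTower R K L] : Module.finrank L (symSpan t L) = Module.finrank K (symSpan t K) := by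
  let e := TensorProduct.AlgebraTensorModule.cancelBaseChange R K L L A
  have h1 : symSpan t L = ((symSpan t K).baseChange L).map e.toLinearMap := by
    rw [symSpan, symSpan, Submodule.baseChange_span, Submodule.map_span]
    congr 1
    rw [← Set.range_comp, ← Set.range_comp]
    refine congrArg Set.range (funext fun a => ?_)
    show (1 : L) ⊗ₜ[R] (a : A) = e ((1 : L) ⊗ₜ[K] ((1 : K) ⊗ₜ[R] (a : A)))
    simp [e]
  have h2 : Module.finrank L ((symSpan t K).baseChange L) = Module.finrank K (symSpan t K) := by
    rw [Submodule.baseChange, LinearMap.finrank_range_of_inj, Module.finrank_baseChange]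
    exact Module.Flat.lTensor_preserves_injective_linearMap _ (Submodule.injective_subtype _)
  rw [h1, LinearEquiv.finrank_map_eq, h2]

section Sym

variable {K : Type*} [Field K] (ι : Type*) [Fintype ι]

/-- The matrices equal to a multiple of their transpose. -/
def transposeEigen (ε : K) : Submodule K (Matrix ι ι K) where
  carrier := {M | Mᵀ = ε • M}
  add_mem' {M N} hM hN := by simp only [Set.mem_setOf_eq] at *; rw [Matrix.transpose_add, hM, hN, smul_add]
  zero_mem' := by simp
  smul_mem' c M hM := by simp only [Set.mem_setOf_eq] at *; rw [Matrix.transpose_smul, hM, smul_comm]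

theorem mem_transposeEigen {ε : K} {M : Matrix ι ι K} : M ∈ transposeEigen ι ε ↔ Mᵀ = ε • M := Iff.rfl

theorem choose_add_choose (n : ℕ) : (n + 1).choose 2 + n.choose 2 = n * n := by
  induction n with
  | zero => rfl
  | succ n ih =>
    rw [Nat.choose_succ_succ (n + 1) 1, Nat.choose_one_right]
    have e : (n + 1).choose 2 = n + n.choose 2 := by rw [Nat.choose_succ_succ n 1, Nat.choose_one_right]
    simp only [Nat.succ_eq_add_one] at *
    nlinarith

theorem finrank_symmetric : Module.finrank K (transposeEigen ι (1 : K)) = (Fintype.card ι + 1).choose 2 := by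
  classical
  let e : transposeEigen ι (1 : K) ≃ₗ[K] (Sym2 ι → K) :=
    { toFun := fun M => Sym2.lift ⟨fun i j => (M : Matrix ι ι K) i j, fun i j => by
        have := congrFun (congrFun M.2 j) i
        simpa using this⟩
      invFun := fun f => ⟨Matrix.of fun i j => f s(i, j), Matrix.ext fun i j => by simp [Sym2.eq_swap]⟩
      map_add' := fun M N => funext fun z => by induction z using Sym2.ind; rfl
      map_smul' := fun c M => funext fun z => by induction z using Sym2.ind; rfl
      left_inv := fun M => rfl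
      right_inv := fun f => funext fun z => by induction z using Sym2.ind; rfl }
  rw [e.finrank_eq, Module.finrank_pi, Sym2.card]

theorem finrank_alternating (h2 : (2 : K) ≠ 0) :
    Module.finrank K (transposeEigen ι (-1 : K)) = (Fintype.card ι).choose 2 := by
  classical
  have hc : IsCompl (transposeEigen ι (1 : K)) (transposeEigen ι (-1 : K)) := by
    constructor
    · rw [Submodule.disjoint_def]
      intro M hM hM'
      rw [mem_transposeEigen] at hM hM'
      rw [hM, one_smul, neg_one_smul, eq_neg_iff_add_eq_zero, ← two_smul K, smul_eq_zero] at hM'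
      exact hM'.resolve_left h2
    · rw [codisjoint_iff, eq_top_iff]
      intro M _
      rw [show M = (2 : K)⁻¹ • (M + Mᵀ) + (2 : K)⁻¹ • (M - Mᵀ) by
        rw [← smul_add, add_add_sub_cancel, ← two_smul K M, smul_smul, inv_mul_cancel₀ h2, one_smul]]
      refine Submodule.add_mem_sup (Submodule.smul_mem _ _ ?_) (Submodule.smul_mem _ _ ?_)
      · simp [mem_transposeEigen, add_comm]
      · simp [mem_transposeEigen]
  have h := Submodule.finrank_add_eq_of_isCompl hc
  rw [finrank_symmetric, Module.finrank_matrix, Module.finrank_self, mul_one,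
    ← choose_add_choose (Fintype.card ι)] at h
  omega

end Sym

namespace Pres

variable {T : Type*} [CommRing T] [Algebra S T] {ι : Type*} [Fintype ι] [DecidableEq ι]
  {W : Matrix ι ι (T ⊗[S] R)} (P : Pres T t ι W)
  {K : Type*} [Field K] [Algebra R K] (π : T ⊗[S] R →+* K)

include P in
/-- The splitting induced over a field. -/
theorem exists_residue (hπ : ∀ r : R, π ((1 : T) ⊗ₜ[S] r) = algebraMap R K r) :
    ∃ Θ : K ⊗[R] A ≃ₗ[K] Matrix ι ι K, ∀ a : A, Θ ((1 : K) ⊗ₜ[R] a) = (P.equiv ((1 : T) ⊗ₜ[S] a)).map π := by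
  classical
  let θ : A →ₗ[R] Matrix ι ι K :=
    { toFun := fun a => (P.equiv ((1 : T) ⊗ₜ[S] a)).map π
      map_add' := fun a b => by simp [TensorProduct.tmul_add, Matrix.map_add]
      map_smul' := fun r a => by
        rw [Algebra.smul_def r a, ← one_mul (1 : T), ← Algebra.TensorProduct.tmul_mul_tmul, P.map_scalar, one_mul,
          RingHom.id_apply]
        ext i j
        simp only [Matrix.map_apply, Matrix.smul_apply]
        rw [Algebra.smul_def, Algebra.smul_def, map_mul, ← hπ]
        rfl }
  let Φ : K ⊗[R] A →ₗ[K] Matrix ι ι K := θ.liftBaseChange K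
  let j0 : T →+ A →+ K ⊗[R] A :=
    AddMonoidHom.mk' (fun c => AddMonoidHom.mk' (fun a => π (c ⊗ₜ[S] (1 : R)) ⊗ₜ[R] a) fun a b => by
      simp [TensorProduct.tmul_add]) fun c d => AddMonoidHom.ext fun a => by simp [TensorProduct.add_tmul]
  let j : T ⊗[S] A →+ K ⊗[R] A := TensorProduct.liftAddHom j0 fun s c a => by
    show π ((s • c) ⊗ₜ[S] (1 : R)) ⊗ₜ[R] a = π (c ⊗ₜ[S] (1 : R)) ⊗ₜ[R] (s • a)
    have e : π ((s • c) ⊗ₜ[S] (1 : R)) = algebraMap S R s • π (c ⊗ₜ[S] (1 : R)) := by
      rw [Algebra.smul_def (algebraMap S R s), ← hπ, ← map_mul, Algebra.TensorProduct.tmul_mul_tmul, one_mul,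
        mul_one, TensorProduct.smul_tmul, ← Algebra.algebraMap_eq_smul_one]
    rw [e, TensorProduct.smul_tmul, algebraMap_smul]
  have hj : ∀ (c : T) (a : A), j (c ⊗ₜ[S] a) = π (c ⊗ₜ[S] (1 : R)) ⊗ₜ[R] a := fun _ _ => rfl
  have hjc : ∀ (c : T ⊗[S] R) (x : T ⊗[S] A), j (centre T A c * x) = π c • j x := fun c x => by
    induction x using TensorProduct.induction_on with
    | zero => simp
    | add y z hy hz => rw [mul_add, map_add, map_add, hy, hz, smul_add]
    | tmul d a =>
      induction c using TensorProduct.induction_on with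
      | zero => simp
      | add c c' hc hc' => rw [map_add, add_mul, map_add, hc, hc', map_add, add_smul]
      | tmul c r =>
        rw [show centre T A (c ⊗ₜ[S] r) * (d ⊗ₜ[S] a) = (c * d) ⊗ₜ[S] (r • a) by
          simp [centre, Algebra.smul_def], hj, hj, TensorProduct.tmul_smul, TensorProduct.smul_tmul',
          TensorProduct.smul_tmul', Algebra.smul_def, ← hπ, ← map_mul, smul_eq_mul, ← map_mul,
          Algebra.TensorProduct.tmul_mul_tmul, Algebra.TensorProduct.tmul_mul_tmul, one_mul, mul_one]
  have hΦj : ∀ x, Φ (j x) = (P.equiv x).map π := fun x => by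
    induction x using TensorProduct.induction_on with
    | zero => simp
    | add y z hy hz => rw [map_add, map_add, hy, hz, map_add]; exact (Matrix.map_add _ (map_add π) _ _).symm
    | tmul c a =>
      rw [hj, LinearMap.liftBaseChange_tmul, show c ⊗ₜ[S] a = c • ((1 : T) ⊗ₜ[S] a) by
        rw [TensorProduct.smul_tmul', smul_eq_mul, mul_one], map_smul]
      ext i j
      simp only [Matrix.smul_apply, Matrix.map_apply, θ, LinearMap.coe_mk, AddHom.coe_mk]
      rw [smul_eq_mul, Algebra.smul_def, map_mul]
      rfl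
  let g : ι → ι → K ⊗[R] A := fun i k => j (P.equiv.symm (Matrix.single i k 1))
  have hg : ∀ i k, Φ (g i k) = Matrix.single i k 1 := fun i k => by
    rw [hΦj, AlgEquiv.apply_symm_apply]
    ext i' k'
    by_cases h : i = i' ∧ k = k'
    · obtain ⟨rfl, rfl⟩ := h; simp
    · simp [Matrix.single_apply, h]
  let G : Matrix ι ι K → K ⊗[R] A := fun Y => ∑ i, ∑ k, Y i k • g i k
  have hΦG : ∀ Y, Φ (G Y) = Y := fun Y => by
    simp only [G, map_sum, map_smul, hg, Matrix.smul_single, smul_eq_mul, mul_one]
    exact (Matrix.matrix_eq_sum_single Y).symm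
  have hGm : ∀ M : Matrix ι ι (T ⊗[S] R), G (M.map π) = j (P.equiv.symm M) := fun M => by
    conv_rhs => rw [Matrix.matrix_eq_sum_single M]
    simp only [map_sum, G, Matrix.map_apply, g, ← hjc]
    refine Finset.sum_congr rfl fun i _ => Finset.sum_congr rfl fun k _ => congrArg j ?_
    apply P.equiv.injective
    rw [P.equiv_centre_mul, AlgEquiv.apply_symm_apply, AlgEquiv.apply_symm_apply, Matrix.smul_single, smul_eq_mul,
      mul_one]
  have hGΦ : ∀ z, G (Φ z) = z := fun z => by
    induction z using TensorProduct.induction_on with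
    | zero => simp [G]
    | add y z hy hz =>
      rw [map_add]
      simp only [G, Matrix.add_apply, add_smul, Finset.sum_add_distrib] at hy hz ⊢
      rw [hy, hz]
    | tmul c a =>
      rw [LinearMap.liftBaseChange_tmul,
        show G (c • θ a) = c • G (θ a) by simp [G, Finset.smul_sum, mul_smul],
        show θ a = (P.equiv ((1 : T) ⊗ₜ[S] a)).map π from rfl, hGm, AlgEquiv.symm_apply_apply, hj,
        show ((1 : T) ⊗ₜ[S] (1 : R)) = 1 from rfl, map_one, TensorProduct.smul_tmul', smul_eq_mul, mul_one]
  exact ⟨LinearEquiv.ofBijective Φ ⟨fun x y h => by rw [← hGΦ x, ← hGΦ y, h], fun Y => ⟨G Y, hΦG Y⟩⟩,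
    fun a => by simp [Φ, θ]⟩

include P in
/-- The dimension of the span of the symmetric elements is that of an eigenspace of the transpose. -/
theorem finrank_symSpan (hπ : ∀ r : R, π ((1 : T) ⊗ₜ[S] r) = algebraMap R K r)
    (hπl : ∀ x, π (lamT T lam x) = π x) (h2 : (2 : K) ≠ 0) (ε : K) (hε : (W.map π)ᵀ = ε • W.map π) :
    Module.finrank K (symSpan t K) = Module.finrank K (transposeEigen ι ε) ∧
      Module.finrank K (K ⊗[R] A) = Fintype.card ι * Fintype.card ι := by
  classical
  obtain ⟨Θ, hΘ⟩ := P.exists_residue π hπ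
  set V := W.map π
  have hVu : IsUnit V := P.isUnit.map π.mapMatrix
  obtain ⟨Vi, hVV, hVV'⟩ := isUnit_iff_exists.1 hVu
  have hrel : ∀ a : A, Θ ((1 : K) ⊗ₜ[R] t a) * V = V * (Θ ((1 : K) ⊗ₜ[R] a))ᵀ := fun a => by
    have h := congrArg (fun M => M.map π) (P.map_bc ((1 : T) ⊗ₜ[S] a))
    simp only [Matrix.map_mul, AzInv.LamInv.bc_tmul] at h
    rw [hΘ, hΘ, h]
    congr 1
    ext i j
    exact hπl _
  let μ : Matrix ι ι K ≃ₗ[K] Matrix ι ι K :=
    { toFun := fun X => X * V
      invFun := fun X => X * Vi
      map_add' := fun X Y => add_mul X Y V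
      map_smul' := fun c X => smul_mul_assoc c X V
      left_inv := fun X => by beta_reduce; rw [mul_assoc, hVV, mul_one]
      right_inv := fun X => by beta_reduce; rw [mul_assoc, hVV', mul_one] }
  have hfix : (symSpan t K).map (Θ.trans μ).toLinearMap = transposeEigen ι ε := by
    refine le_antisymm ?_ fun Y hY => ?_
    · rw [symSpan, Submodule.map_span, Submodule.span_le]
      rintro _ ⟨_, ⟨⟨a, ha⟩, rfl⟩, rfl⟩
      show ((Θ ((1 : K) ⊗ₜ[R] a)) * V)ᵀ = ε • (Θ ((1 : K) ⊗ₜ[R] a) * V)
      have h := hrel a
      rw [ha] at h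
      rw [Matrix.transpose_mul, hε, smul_mul_assoc, ← h]
    · have key : ∀ z : K ⊗[R] A, ∃ z' ∈ symSpan t K,
          Θ z' * V = (2 : K)⁻¹ • (Θ z * V + V * (Θ z)ᵀ) := fun z => by
        induction z using TensorProduct.induction_on with
        | zero => exact ⟨0, zero_mem _, by simp⟩
        | add y z hy hz =>
          obtain ⟨y', hy', ey⟩ := hy
          obtain ⟨z', hz', ez⟩ := hz
          exact ⟨y' + z', add_mem hy' hz', by
            simp only [map_add, add_mul, ey, ez, Matrix.transpose_add, mul_add, smul_add]; abel⟩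
        | tmul c a =>
          refine ⟨((2 : K)⁻¹ * c) • ((1 : K) ⊗ₜ[R] (a + t a)),
            Submodule.smul_mem _ _ (Submodule.subset_span ⟨⟨a + t a, by simp [add_comm]⟩, rfl⟩), ?_⟩
          rw [show c ⊗ₜ[R] a = c • ((1 : K) ⊗ₜ[R] a) by rw [TensorProduct.smul_tmul', smul_eq_mul, mul_one],
            map_smul, map_smul, TensorProduct.tmul_add, map_add, smul_mul_assoc, add_mul, hrel, Matrix.transpose_smul,
            mul_smul_comm, smul_mul_assoc, ← smul_add, smul_smul]
      obtain ⟨z, hz⟩ := (Θ.trans μ).surjective Y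
      obtain ⟨z', hz', e⟩ := key z
      refine ⟨z', hz', ?_⟩
      show Θ z' * V = Y
      have hz2 : Θ z * V = Y := hz
      have hVt : V * (Θ z)ᵀ = Y := by
        have hεε : ε * ε = 1 ∨ IsEmpty ι := by
          rcases isEmpty_or_nonempty ι with hι | ⟨⟨i⟩⟩
          · exact Or.inr hι
          · refine Or.inl ?_
            have h2' := congrArg Matrix.transpose hε
            rw [Matrix.transpose_transpose, Matrix.transpose_smul, hε, smul_smul] at h2'
            have h3 := congrArg (· * Vi) h2'
            simp only [smul_mul_assoc] at h3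
            rw [hVV] at h3
            simpa using (congrFun (congrFun h3 i) i).symm
        rcases hεε with hεε | hι
        · have hY' : Yᵀ = ε • Y := hY
          rw [← hz2, Matrix.transpose_mul, hε, smul_mul_assoc] at hY'
          have h4 := congrArg (fun M => ε • M) hY'
          simp only [smul_smul, hεε, one_smul] at h4
          rw [h4, hz2]
        · exact Subsingleton.elim _ _
      rw [e, hz2, hVt, ← two_smul K Y, smul_smul, inv_mul_cancel₀ h2, one_smul]
  refine ⟨?_, ?_⟩
  · rw [← hfix, LinearEquiv.finrank_map_eq]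
  · rw [Θ.finrank_eq, Module.finrank_matrix, Module.finrank_self, mul_one]

include P in
/-- Presentations of opposite signs do not both exist. -/
theorem sign_unique {κ : Type*} [Fintype κ] [DecidableEq κ] {W' : Matrix κ κ (T ⊗[S] R)} (Q : Pres T t κ W')
    (hπ : ∀ r : R, π ((1 : T) ⊗ₜ[S] r) = algebraMap R K r)
    (hπl : ∀ x, π (lamT T lam x) = π x) (h2 : (2 : K) ≠ 0) (hW : (W.map π)ᵀ = W.map π)
    (hW' : (W'.map π)ᵀ = -W'.map π) [Nonempty ι] : False := by
  obtain ⟨h1, h3⟩ := P.finrank_symSpan π hπ hπl h2 1 (by rw [one_smul, hW])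
  obtain ⟨h4, h5⟩ := Q.finrank_symSpan π hπ hπl h2 (-1) (by rw [neg_one_smul, hW'])
  have hcard : Fintype.card ι = Fintype.card κ := Nat.mul_self_inj.1 (h3.symm.trans h5)
  rw [h4, finrank_alternating κ h2, finrank_symmetric, ← hcard, Nat.choose_succ_succ _ 1, Nat.choose_one_right] at h1
  have : 0 < Fintype.card ι := Fintype.card_pos
  simp only [Nat.succ_eq_add_one] at h1
  rw [show (1 : ℕ) + 1 = 2 from rfl] at h1
  omega

end Pres

end Groth.L11.Az
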