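import Groth.Agent.L11.Az.QuadSwap
import Mathlib.RingTheory.FinitePresentation
import Mathlib.RingTheory.Finiteness.ModuleFinitePresentation
import Mathlib.RingTheory.MatrixAlgebra
import Mathlib.LinearAlgebra.Matrix.Unique
import Mathlib.RingTheory.Flat.FaithfullyFlat.Algebra
import Mathlib.RingTheory.Flat.Rank

/-!
Over a quadratic etale extension all involutions are locally the transpose.
-/

set_option autoImplicit false
universe u v w

open scoped TensorProduct Matrix

noncomputable section

namespace Groth.L11.Az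

variable {S : Type u} [CommRing S] {R : Type v} [CommRing R] [Algebra S R]

/-- A splitting etale cover of the base for an Azumaya algebra over a finite etale cover. -/
theorem exists_quad_cover {lam : R ≃ₐ[S] R} (hfix : RInv.IsFixedRing S R lam.toRingEquiv)
    (hq : RInv.IsQuadEtale S R)
    {A : Type w} [Ring A] [Algebra R A] {n : ℕ} (hA : AzInv.IsAzumayaDeg R A n) :
    ∃ (T : Type u) (_ : CommRing T) (_ : Algebra S T) (_ : Algebra.Etale S T) (_ : Module.FaithfullyFlat S T)
      (iT : R →ₐ[S] T), letI := iT.toRingHom.toAlgebra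
        Nonempty ((T ⊗[R] A) ≃ₐ[T] Matrix (Fin n) (Fin n) T) := by
  obtain ⟨hfin, hproj, hunr, -⟩ := hq
  haveI := hA.1
  haveI : Module.FinitePresentation S R := Module.finitePresentation_of_projective S R
  haveI : Algebra.FinitePresentation S R := Algebra.FinitePresentation.of_finitePresentation _ _
  haveI : Algebra.Etale S R := Algebra.Etale.of_formallyUnramified_of_flat
  haveI : Module.FaithfullyFlat S R :=
    Module.FaithfullyFlat.of_comap_surjective (PrimeSpectrum.comap_surjective_iff_injective_of_finite.2 hfix.1)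
  obtain ⟨R', _, _, _, _, ⟨σ⟩⟩ := exists_etale_splitting A n hA.2
  letI : Algebra S R' := ((algebraMap R R').comp (algebraMap S R)).toAlgebra
  haveI : IsScalarTower S R R' := IsScalarTower.of_algebraMap_eq fun _ => rfl
  haveI : Algebra.Etale S R' := Algebra.Etale.comp S R R'
  haveI : Module.FaithfullyFlat S R' := Module.FaithfullyFlat.trans S R R'
  haveI hfp : Algebra.FinitePresentation S R' := inferInstance
  obtain ⟨k, f, hf, -⟩ := hfp.out
  let T := MvPolynomial (Fin k) S ⧸ RingHom.ker f.toRingHom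
  let e : T ≃ₐ[S] R' := Ideal.quotientKerAlgEquivOfSurjective hf
  let iT : R →ₐ[S] T := e.symm.toAlgHom.comp (IsScalarTower.toAlgHom S R R')
  refine ⟨T, inferInstance, inferInstance, Algebra.Etale.of_equiv e.symm,
    Module.FaithfullyFlat.of_linearEquiv S R' e.toLinearEquiv, iT, ?_⟩
  letI := iT.toRingHom.toAlgebra
  let eR : R' →ₐ[R] T := { e.symm.toRingEquiv.toRingHom with commutes' := fun r => rfl }
  let θ : A →ₐ[R] Matrix (Fin n) (Fin n) T :=
    eR.mapMatrix.comp ((σ.toAlgHom.restrictScalars R).comp (Algebra.TensorProduct.includeRight : A →ₐ[R] R' ⊗[R] A))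
  let Θ : T ⊗[R] A →ₐ[T] Matrix (Fin n) (Fin n) T :=
    Algebra.TensorProduct.lift (Algebra.ofId T _) θ fun c a => Algebra.commutes c _
  let E : T ⊗[R] A ≃ₐ[R] R' ⊗[R] A :=
    Algebra.TensorProduct.congr ({ e.toRingEquiv with commutes' := fun r => e.apply_symm_apply _ } : T ≃ₐ[R] R') AlgEquiv.refl
  have hΘ : ∀ z, Θ z = eR.mapMatrix (σ (E z)) := fun z => by
    induction z using TensorProduct.induction_on with
    | zero => simp
    | add y z hy hz => simp only [map_add, hy, hz]
    | tmul c a =>
      have h1 : E (c ⊗ₜ[R] a) = e c • ((1 : R') ⊗ₜ[R] a) := by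
        rw [TensorProduct.smul_tmul', smul_eq_mul, mul_one]; rfl
      rw [h1, map_smul]
      ext i j
      show (Algebra.ofId T (Matrix (Fin n) (Fin n) T) c * θ a) i j = e.symm ((e c • σ ((1 : R') ⊗ₜ[R] a)) i j)
      simp [θ, eR, Matrix.mul_apply, Matrix.algebraMap_matrix_apply, ite_mul]
      rfl
  refine ⟨AlgEquiv.ofBijective Θ ?_⟩
  have : ⇑Θ = (⇑eR.mapMatrix) ∘ σ ∘ E := funext hΘ
  rw [this]
  refine Function.Bijective.comp ⟨?_, ?_⟩ (σ.bijective.comp E.bijective)
  · exact fun X Y h => Matrix.ext fun i j => e.symm.injective (congrFun (congrFun h i) j)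
  · exact fun X => ⟨X.map e, Matrix.ext fun i j => e.symm_apply_apply _⟩

/-- Over a quadratic etale extension every involution is locally the transpose. -/
theorem locIsoEt_transpose_of_quad {lam : R ≃ₐ[S] R} (hlam : ∀ r, lam (lam r) = r)
    (hfix : RInv.IsFixedRing S R lam.toRingEquiv) (hq : RInv.IsQuadEtale S R)
    {A : Type w} [Ring A] [Algebra S A] [Algebra R A] [IsScalarTower S R A] {n : ℕ}
    (hA : AzInv.IsAzumayaDeg R A n) (t : AzInv.LamInv R A lam) :
    AzInv.LocIsoEt S lam (t.matrix (Fin 1)) ((AzInv.LamInv.self lam hlam).matrix (Fin n)) := by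
  obtain ⟨T, _, _, _, _, iT, hσ⟩ := exists_quad_cover hfix hq hA
  letI := iT.toRingHom.toAlgebra
  obtain ⟨σ⟩ := hσ
  let u1 : Matrix (Fin 1) (Fin 1) A ≃ₐ[R] A :=
    { toFun := fun M => M 0 0
      invFun := fun a => Matrix.of fun _ _ => a
      left_inv := fun M => Matrix.ext fun i j => by rw [Subsingleton.elim i 0, Subsingleton.elim j 0]; rfl
      right_inv := fun a => rfl
      map_mul' := fun M N => by simp [Matrix.mul_apply]
      map_add' := fun M N => rfl
      commutes' := fun r => by simp [Matrix.algebraMap_matrix_apply] }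
  have h1 : Nonempty ((T ⊗[R] Matrix (Fin 1) (Fin 1) A) ≃ₐ[T] Matrix (Fin n) (Fin n) T) :=
    ⟨(Algebra.TensorProduct.congr AlgEquiv.refl u1).trans σ⟩
  have h2 : Nonempty ((T ⊗[R] Matrix (Fin n) (Fin n) R) ≃ₐ[T] Matrix (Fin n) (Fin n) T) := by
    let θ : Matrix (Fin n) (Fin n) R →ₐ[R] Matrix (Fin n) (Fin n) T := (Algebra.ofId R T).mapMatrix
    refine ⟨AlgEquiv.ofBijective (Algebra.TensorProduct.lift (Algebra.ofId T _) θ fun c a => Algebra.commutes c _) ?_⟩
    have key : ∀ z, Algebra.TensorProduct.lift (Algebra.ofId T _) θ (fun c a => Algebra.commutes c _) z =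
        (matrixEquivTensor (Fin n) R T).symm z := fun z => by
      induction z using TensorProduct.induction_on with
      | zero => simp
      | add y z hy hz => simp [hy, hz]
      | tmul c M =>
        ext i j
        simp [θ, Matrix.mul_apply, Matrix.algebraMap_matrix_apply, ite_mul]
    rw [funext key]
    exact (matrixEquivTensor (Fin n) R T).symm.bijective
  obtain ⟨f₁, hr₁, ht₁⟩ := exists_swap_equiv T iT hlam hfix hq (t.matrix (Fin 1)) h1
  obtain ⟨f₂, hr₂, ht₂⟩ := exists_swap_equiv T iT hlam hfix hq ((AzInv.LamInv.self lam hlam).matrix (Fin n)) h2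
  refine ⟨T, inferInstance, inferInstance, inferInstance, inferInstance, f₁.trans f₂.symm, fun r z => ?_, fun z => ?_⟩
  · apply f₂.injective
    rw [AlgEquiv.trans_apply, AlgEquiv.trans_apply, hr₂, AlgEquiv.apply_symm_apply, AlgEquiv.apply_symm_apply, hr₁]
  · apply f₂.injective
    rw [AlgEquiv.trans_apply, AlgEquiv.trans_apply, ht₂, AlgEquiv.apply_symm_apply, AlgEquiv.apply_symm_apply, ht₁]

end Groth.L11.Az
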