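import Groth.Agent.L11.Az.Compare
import Mathlib.LinearAlgebra.Matrix.Unique

/-!
The base ring with its own involution has the symmetric sign everywhere.
-/

set_option autoImplicit false
universe u v

open scoped TensorProduct
open Groth.L09.RInvBranch (lamT)

noncomputable section

namespace Groth.L11.Az

variable {S : Type u} [CommRing S] {R : Type v} [CommRing R] [Algebra S R] {lam : R ≃ₐ[S] R}

theorem hasSym_self (hlam : ∀ r, lam (lam r) = r) (p : PrimeSpectrum S) :
    HasSym (AzInv.LamInv.self lam hlam) 1 p := by
  let N : Nbhd p := ⟨S, p, by rw [Algebra.algebraMap_self, PrimeSpectrum.comap_id]⟩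
  let e : N.T ⊗[S] R ≃ₐ[N.T] Matrix (Fin 1) (Fin 1) (N.T ⊗[S] R) :=
    { toFun := fun x => Matrix.of fun _ _ => x
      invFun := fun M => M 0 0
      left_inv := fun x => rfl
      right_inv := fun M => Matrix.ext fun i j => by rw [Subsingleton.elim i 0, Subsingleton.elim j 0]; rfl
      map_mul' := fun x y => Matrix.ext fun i j => by simp [Matrix.mul_apply]
      map_add' := fun x y => rfl
      commutes' := fun c => Matrix.ext fun i j => by
        rw [Subsingleton.elim i 0, Subsingleton.elim j 0]; simp [Matrix.algebraMap_matrix_apply] }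
  refine ⟨N, ⟨⟨e, fun r x => ?_, fun x => ?_, isUnit_one⟩⟩⟩
  · refine Matrix.ext fun i j => ?_
    show ((1 : N.T) ⊗ₜ[S] algebraMap R R r) * x = ((1 : N.T) ⊗ₜ[S] r) • x
    rw [Algebra.algebraMap_self, RingHom.id_apply, smul_eq_mul]
  · rw [mul_one, one_mul]
    refine Matrix.ext fun i j => ?_
    show (AzInv.LamInv.self lam hlam).bc S lam N.T x = lamT N.T lam x
    induction x using TensorProduct.induction_on with
    | zero => simp
    | add y z hy hz => simp only [map_add, hy, hz]
    | tmul c r => simp [AzInv.LamInv.bc_tmul, Groth.L09.RInvBranch.lamT_tmul]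

end Groth.L11.Az
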