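import Groth.Agent.L11.Az.EndE
import Groth.Agent.L21.CSA.SplitBasic
import Mathlib.Algebra.Module.FinitePresentation
import Mathlib.RingTheory.Localization.Integral
import Mathlib.RingTheory.OrzechProperty

/-!
Every Azumaya algebra is split by a finite étale cover, Zariski locally.
-/

set_option autoImplicit false
universe u v w

open scoped TensorProduct
open Polynomial IsLocalRing

namespace Groth.L11.Az

/-- A map bijective at a prime has an inverse up to a scalar outside the prime. -/
theorem exists_smul_inverse {R : Type u} [CommRing R] {M : Type v} [AddCommGroup M] [Module R M]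
    [Module.FinitePresentation R M] {N : Type w} [AddCommGroup N] [Module R N] [Module.FinitePresentation R N]
    (l : M →ₗ[R] N) (p : Ideal R) [p.IsPrime] (h : Function.Bijective (l.baseChange (Localization.AtPrime p))) :
    ∃ (g : R) (l' : N →ₗ[R] M), g ∉ p ∧ l ∘ₗ l' = g • LinearMap.id ∧ l' ∘ₗ l = g • LinearMap.id := by
  let Rp := Localization.AtPrime p
  let fM := TensorProduct.mk R Rp M 1
  let fN := TensorProduct.mk R Rp N 1
  let e : (Rp ⊗[R] M) ≃ₗ[R] (Rp ⊗[R] N) := (LinearEquiv.ofBijective _ h).restrictScalars R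
  have he : ∀ x, e (fM x) = fN (l x) := fun x => by simp [e, fM, fN]
  obtain ⟨l₀, s₀, H⟩ := Module.FinitePresentation.exists_lift_of_isLocalizedModule p.primeCompl fM
    (e.symm.toLinearMap ∘ₗ fN)
  have H0 : ∀ y, fM (l₀ y) = (s₀ : R) • e.symm (fN y) := fun y => LinearMap.congr_fun H y
  obtain ⟨s₁, hs₁⟩ := Module.Finite.exists_smul_of_comp_eq_of_isLocalizedModule p.primeCompl fN (l ∘ₗ l₀)
    ((s₀ : R) • LinearMap.id) (LinearMap.ext fun y => by
      simp only [LinearMap.comp_apply, LinearMap.smul_apply, LinearMap.id_apply, map_smul]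
      rw [← he, H0, map_smul, LinearEquiv.apply_symm_apply])
  obtain ⟨s₂, hs₂⟩ := Module.Finite.exists_smul_of_comp_eq_of_isLocalizedModule p.primeCompl fM (l₀ ∘ₗ l)
    ((s₀ : R) • LinearMap.id) (LinearMap.ext fun x => by
      simp only [LinearMap.comp_apply, LinearMap.smul_apply, LinearMap.id_apply, map_smul]
      rw [H0, ← he, LinearEquiv.symm_apply_apply])
  refine ⟨s₁ * s₂ * s₀, ((s₁ : R) * s₂) • l₀, p.primeCompl.mul_mem (p.primeCompl.mul_mem s₁.2 s₂.2) s₀.2,
    LinearMap.ext fun y => ?_, LinearMap.ext fun x => ?_⟩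
  · have : (s₁ : R) • l (l₀ y) = (s₁ : R) • (s₀ : R) • y := LinearMap.congr_fun hs₁ y
    simp only [LinearMap.comp_apply, LinearMap.smul_apply, LinearMap.id_apply, map_smul]
    rw [mul_comm (s₁ : R), mul_smul, this, smul_smul, smul_smul]
  · have : (s₂ : R) • l₀ (l x) = (s₂ : R) • (s₀ : R) • x := LinearMap.congr_fun hs₂ x
    simp only [LinearMap.comp_apply, LinearMap.smul_apply, LinearMap.id_apply]
    rw [mul_smul, this, smul_smul, smul_smul]

theorem bijective_baseChange_of_smul_inverse {R : Type u} [CommRing R] {M : Type v} [AddCommGroup M] [Module R M]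
    {N : Type w} [AddCommGroup N] [Module R N] {l : M →ₗ[R] N} {l' : N →ₗ[R] M} {g : R}
    (h₁ : l ∘ₗ l' = g • LinearMap.id) (h₂ : l' ∘ₗ l = g • LinearMap.id) (S : Type*) [CommRing S] [Algebra R S]
    (hg : IsUnit (algebraMap R S g)) : Function.Bijective (l.baseChange S) := by
  obtain ⟨v, hv⟩ := hg
  have e₁ := congrArg (LinearMap.baseChange S) h₁
  have e₂ := congrArg (LinearMap.baseChange S) h₂
  rw [LinearMap.baseChange_comp, LinearMap.baseChange_smul, LinearMap.baseChange_id] at e₁ e₂
  refine Function.bijective_iff_has_inverse.mpr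
    ⟨fun y => ((v⁻¹ : Sˣ) : S) • l'.baseChange S y, fun x => ?_, fun y => ?_⟩
  · simp only []
    rw [show l'.baseChange S (l.baseChange S x) = g • x from LinearMap.congr_fun e₂ x, ← algebraMap_smul S g x,
      smul_smul, ← hv, Units.inv_mul, one_smul]
  · simp only [map_smul]
    rw [show l.baseChange S (l'.baseChange S y) = g • y from LinearMap.congr_fun e₁ y, ← algebraMap_smul S g y,
      smul_smul, ← hv, Units.inv_mul, one_smul]

/-- An algebra map between free algebras of the same finite rank, the source Azumaya, is bijective. -/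
theorem bijective_algHom_of_basis {E : Type u} [CommRing E] {B : Type v} [Ring B] [Algebra E B] [IsAzumaya E B]
    {C : Type w} [Ring C] [Algebra E C] (φ : B →ₐ[E] C) {ι κ : Type*} [Fintype ι] [Fintype κ] [Nonempty ι]
    (bB : Module.Basis ι E B) (bC : Module.Basis κ E C) (hcard : Fintype.card ι = Fintype.card κ) :
    Function.Bijective φ := by
  haveI : Module.Finite E C := Module.Finite.of_basis bC
  haveI : Nonempty κ := Fintype.card_pos_iff.mp (hcard ▸ Fintype.card_pos)
  have hsurj : Function.Surjective φ := by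
    rw [← AlgHom.coe_toLinearMap, ← LinearMap.range_eq_top, ← Submodule.Quotient.subsingleton_iff]
    refine subsingleton_of_fields.{u, w, u} (R := E) _ fun m _ => ?_
    letI := Ideal.Quotient.field m
    refine ⟨E ⧸ m, inferInstance, inferInstance, Ideal.mk_ker, subsingleton_of_forall_eq 0 fun x => ?_⟩
    haveI := isAzumaya_baseChange (R := E) (E ⧸ m) B
    haveI := isSimpleRing_of_isAzumaya (k := E ⧸ m) (A := (E ⧸ m) ⊗[E] B)
    haveI : Nontrivial ((E ⧸ m) ⊗[E] C) :=
      (Algebra.TensorProduct.basis (E ⧸ m) bC).repr.toEquiv.nontrivial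
    let ψ : (E ⧸ m) ⊗[E] B →ₐ[E ⧸ m] (E ⧸ m) ⊗[E] C := Algebra.TensorProduct.map (AlgHom.id _ _) φ
    have hs : Function.Surjective ψ.toLinearMap :=
      (LinearMap.injective_iff_surjective_of_finrank_eq_finrank (by
        rw [Module.finrank_eq_card_basis (Algebra.TensorProduct.basis (E ⧸ m) bB),
          Module.finrank_eq_card_basis (Algebra.TensorProduct.basis (E ⧸ m) bC), hcard])).mp ψ.toRingHom.injective
    obtain ⟨y, rfl⟩ := LinearMap.lTensor_surjective (E ⧸ m) (LinearMap.range φ.toLinearMap).mkQ_surjective x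
    obtain ⟨z, rfl⟩ := hs y
    change (LinearMap.range φ.toLinearMap).mkQ.lTensor (E ⧸ m) (φ.toLinearMap.lTensor (E ⧸ m) z) = 0
    rw [← LinearMap.comp_apply, ← LinearMap.lTensor_comp, LinearMap.range_mkQ_comp, LinearMap.lTensor_zero,
      LinearMap.zero_apply]
  refine ⟨?_, hsurj⟩
  let e := bB.equiv bC (Fintype.equivOfCardEq hcard)
  have := OrzechProperty.injective_of_surjective_endomorphism (e.symm.toLinearMap ∘ₗ φ.toLinearMap)
    (e.symm.surjective.comp hsurj)
  exact fun x y h => this (by simp [h])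

theorem rootHom_root {R : Type u} [CommRing R] {A : Type v} [Ring A] [Algebra R A] (f : R[X]) (ξ : A)
    (h : aeval ξ f = 0) : rootHom f ξ h (AdjoinRoot.root f) = ξ := by
  rw [← AdjoinRoot.mk_X, rootHom_mk, aeval_X]

theorem coeff_scale {S : Type u} [CommRing S] (f : S[X]) (v c : S) (i : ℕ) :
    (C c * f.comp (C v * X)).coeff i = c * (f.coeff i * v ^ i) := by
  rw [coeff_C_mul, comp_C_mul_X_coeff]

theorem separable_scale {S : Type u} [CommRing S] {f : S[X]} (hf : f.Separable) (v c : Sˣ) :
    (C (c : S) * f.comp (C (v : S) * X)).Separable := by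
  have h := IsCoprime.map hf (Polynomial.compRingHom (C (v : S) * X))
  rw [Polynomial.separable_def, derivative_C_mul, derivative_comp, derivative_C_mul, derivative_X, mul_one]
  rw [isCoprime_mul_unit_left_left (c.isUnit.map C), isCoprime_mul_unit_left_right (c.isUnit.map C),
    isCoprime_mul_unit_left_right (v.isUnit.map C)]
  simpa using h

/-- Splitting data near a prime, defined over `R`. -/
theorem exists_split_data {R : Type u} [CommRing R] (A : Type v) [Ring A] [Algebra R A] [IsAzumaya R A]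
    (p : Ideal R) [p.IsPrime] :
    ∃ (r : ℕ) (a : A) (β : Fin r → A) (g : R) (F : R[X]) (t : R) (G : R) (P Q : R[X]), 1 ≤ r ∧ g ∉ p ∧
      IsUnit (algebraMap R (Localization.Away g) t) ∧ IsUnit (algebraMap R (Localization.Away g) G) ∧
      F.natDegree ≤ r ∧ F.coeff r = t ∧ g • aeval a F = 0 ∧ C g * (P * F + Q * derivative F - C G) = 0 ∧
      ∃ l' : A →ₗ[R] (Fin r × Fin r → R),
        (Fintype.linearCombination R fun q : Fin r × Fin r => β q.1 * a ^ (q.2 : ℕ)) ∘ₗ l' = g • LinearMap.id ∧
        l' ∘ₗ (Fintype.linearCombination R fun q : Fin r × Fin r => β q.1 * a ^ (q.2 : ℕ)) = g • LinearMap.id := by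
  classical
  let Rp := Localization.AtPrime p
  let Ap := Rp ⊗[R] A
  haveI : IsAzumaya Rp Ap := isAzumaya_baseChange (R := R) Rp A
  haveI : Module.Free Rp Ap := Module.free_of_flat_of_isLocalRing
  haveI := isAzumaya_baseChange (R := Rp) (ResidueField Rp) Ap
  haveI := isSimpleRing_of_isAzumaya (k := ResidueField Rp) (A := ResidueField Rp ⊗[Rp] Ap)
  obtain ⟨r, hr0, hr⟩ := CSA.isSquare_finrank (ResidueField Rp) (ResidueField Rp ⊗[Rp] Ap)
  rw [Module.finrank_baseChange] at hr
  obtain ⟨f₁, ξ₁, hf₁, hmon₁, hdeg₁, hsep₁, hinj₁⟩ := exists_maxEtale (A := Ap) hr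
  let E₁ := AdjoinRoot f₁
  haveI : Module.Finite Rp E₁ := hmon₁.finite_adjoinRoot
  haveI : Module.Free Rp E₁ := hmon₁.free_adjoinRoot
  haveI : Algebra.Etale Rp E₁ := etale_adjoinRoot hmon₁ hsep₁
  let u₁ := rootHom f₁ ξ₁ hf₁
  letI : Module E₁ Ap := Module.compHom Ap
    (u₁.toRingHom.toOpposite fun x y => (Commute.all x y).map u₁.toRingHom)
  have hmod : ∀ (e : E₁) (x : Ap), e • x = x * u₁ e := fun e x => rfl
  haveI : IsScalarTower Rp E₁ Ap := ⟨fun c e x => by rw [hmod, hmod, map_smul, mul_smul_comm]⟩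
  have hE₁ : Module.finrank Rp E₁ = r := by
    rw [(AdjoinRoot.powerBasis' hmon₁).finrank, AdjoinRoot.powerBasis'_dim, hdeg₁]
  obtain ⟨_, hrk, -⟩ := split_by_maxEtale hr hE₁ u₁ hinj₁ hmod
  haveI : Module.Finite E₁ Ap := Module.Finite.of_restrictScalars_finite Rp E₁ Ap
  haveI : Nontrivial E₁ := Module.nontrivial_of_finrank_pos (R := Rp) (by rw [hE₁]; exact Nat.pos_of_ne_zero hr0)
  let b₁ : Module.Basis (Fin r) E₁ Ap := Module.finBasisOfFinrankEq E₁ Ap hrk
  let bE := (AdjoinRoot.powerBasis' hmon₁).basis.reindex (finCongr (show _ = r by simpa using hdeg₁))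
  let B₀ : Module.Basis (Fin r × Fin r) Rp Ap := (bE.smulTower b₁).reindex (Equiv.prodComm _ _)
  have hB₀ : ∀ q, B₀ q = b₁ q.1 * ξ₁ ^ (q.2 : ℕ) := fun q => by
    simp only [B₀, Module.Basis.reindex_apply, Equiv.prodComm_symm, Equiv.prodComm_apply, Prod.swap,
      Module.Basis.smulTower_apply, hmod, bE, PowerBasis.basis_eq_pow, AdjoinRoot.powerBasis'_gen,
      finCongr_symm, finCongr_apply, Fin.val_cast, map_pow]
    simp only [u₁, rootHom_root]
  have surjA : ∀ x : Ap, ∃ (a : A) (s : p.primeCompl), (s : R) • x = (1 : Rp) ⊗ₜ[R] a := fun x => by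
    obtain ⟨⟨a, s⟩, h⟩ := IsLocalizedModule.surj p.primeCompl (TensorProduct.mk R Rp A 1) x
    exact ⟨a, s, h⟩
  obtain ⟨a, d, hd⟩ := surjA ξ₁
  choose β s hβ using fun i => surjA (b₁ i)
  let ud : Rpˣ := (IsLocalization.map_units Rp d).unit
  let us : Fin r → Rpˣ := fun i => (IsLocalization.map_units Rp (s i)).unit
  let B : Module.Basis (Fin r × Fin r) Rp Ap := B₀.unitsSMul fun q => us q.1 * ud ^ (q.2 : ℕ)
  have hB : ∀ q, B q = (1 : Rp) ⊗ₜ[R] (β q.1 * a ^ (q.2 : ℕ)) := fun q => by
    rw [show (1 : Rp) ⊗ₜ[R] (β q.1 * a ^ (q.2 : ℕ)) = ((1 : Rp) ⊗ₜ[R] β q.1) * ((1 : Rp) ⊗ₜ[R] a) ^ (q.2 : ℕ) by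
      simp [Algebra.TensorProduct.tmul_pow, Algebra.TensorProduct.tmul_mul_tmul],
      ← hβ, ← hd, smul_pow, smul_mul_smul_comm, ← algebraMap_smul Rp, map_mul, map_pow]
    simp [B, hB₀, us, ud, Units.smul_def, Module.Basis.unitsSMul_apply]
  set l := Fintype.linearCombination R fun q : Fin r × Fin r => β q.1 * a ^ (q.2 : ℕ) with hl
  have hbij : Function.Bijective (l.baseChange Rp) := by
    have : l.baseChange Rp = B.equivFun.symm.toLinearMap ∘ₗ
        (TensorProduct.piScalarRight R Rp Rp (Fin r × Fin r)).toLinearMap := by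
      refine TensorProduct.AlgebraTensorModule.ext fun c x => ?_
      simp only [LinearMap.baseChange_tmul, hl, Fintype.linearCombination_apply, TensorProduct.tmul_sum,
        LinearMap.comp_apply, LinearEquiv.coe_coe, TensorProduct.piScalarRight_apply,
        TensorProduct.piScalarRightHom_tmul, Module.Basis.equivFun_symm_apply, hB]
      refine Finset.sum_congr rfl fun q _ => ?_
      rw [TensorProduct.tmul_smul, TensorProduct.smul_tmul', TensorProduct.smul_tmul', smul_eq_mul, mul_one]
    rw [this]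
    exact B.equivFun.symm.bijective.comp (LinearEquiv.bijective _)
  haveI : Module.FinitePresentation R A := Module.finitePresentation_of_projective R A
  obtain ⟨g₁, l', hg₁, hl₁, hl₂⟩ := exists_smul_inverse l p hbij
  -- the scaled polynomial
  let f₂ : Rp[X] := C ((ud ^ r : Rpˣ) : Rp) * f₁.comp (C ((ud⁻¹ : Rpˣ) : Rp) * X)
  have hsep₂ : f₂.Separable := separable_scale hsep₁ _ _
  have hdeg₂ : f₂.natDegree ≤ r := by
    refine (natDegree_C_mul_le _ _).trans (natDegree_comp_le.trans ?_)
    rw [hdeg₁]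
    calc r * natDegree (C ((ud⁻¹ : Rpˣ) : Rp) * X) ≤ r * 1 :=
          Nat.mul_le_mul_left r ((natDegree_C_mul_le _ _).trans natDegree_X_le)
      _ = r := mul_one r
  have hlead : f₂.coeff r = 1 := by
    rw [coeff_scale, show f₁.coeff r = 1 from hdeg₁ ▸ hmon₁.coeff_natDegree, one_mul, ← Units.val_pow_eq_pow_val,
      ← Units.val_mul, ← mul_pow, mul_inv_cancel, one_pow, Units.val_one]
  have haev : aeval ((1 : Rp) ⊗ₜ[R] a) f₂ = 0 := by
    rw [← hd, map_mul, aeval_comp]
    have : aeval ((d : R) • ξ₁) (C ((ud⁻¹ : Rpˣ) : Rp) * X) = ξ₁ := by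
      rw [map_mul, aeval_C, aeval_X, ← Algebra.smul_def, ← algebraMap_smul Rp (d : R), smul_smul,
        show algebraMap R Rp d = (ud : Rp) from rfl, Units.inv_mul, one_smul]
    rw [this, hf₁, mul_zero]
  -- integral models
  obtain ⟨t, ht⟩ := IsLocalization.exist_integer_multiples p.primeCompl (Finset.range r) (fun i => f₂.coeff i)
  choose c hc using fun i (hi : i ∈ Finset.range r) => ht i hi
  let F : R[X] := C (t : R) * X ^ r + ∑ i : Fin r, C (c i (Finset.mem_range.mpr i.2)) * X ^ (i : ℕ)
  have hFdeg : F.natDegree ≤ r := by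
    refine natDegree_add_le_of_degree_le (natDegree_C_mul_X_pow_le _ _)
      (natDegree_sum_le_of_forall_le _ _ fun i _ => (natDegree_C_mul_X_pow_le _ _).trans i.2.le)
  have hFcoeff : F.coeff r = t := by
    simp only [F, coeff_add, coeff_C_mul_X_pow, if_true, finsetSum_coeff]
    rw [Finset.sum_eq_zero fun i _ => if_neg (fun h => absurd h (by have := i.2; omega)), add_zero]
  have hFmap : F.map (algebraMap R Rp) = C (algebraMap R Rp t) * f₂ := by
    conv_rhs => rw [f₂.as_sum_range' (r + 1) (Nat.lt_succ_of_le hdeg₂), Finset.sum_range_succ, hlead, Finset.sum_range]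
    simp only [F, Polynomial.map_add, Polynomial.map_mul, map_C, Polynomial.map_pow, map_X, Polynomial.map_sum,
      mul_add, Finset.mul_sum, C_mul_monomial, mul_one, C_mul_X_pow_eq_monomial, Polynomial.map_monomial]
    rw [add_comm]
    refine congrArg₂ _ (Finset.sum_congr rfl fun i _ => ?_) rfl
    rw [hc, Algebra.smul_def]
  obtain ⟨h₂, hh₂⟩ := (IsLocalizedModule.eq_zero_iff p.primeCompl (TensorProduct.mk R Rp A 1) (m := aeval a F)).mp (by
    change (1 : Rp) ⊗ₜ[R] aeval a F = 0
    rw [show (1 : Rp) ⊗ₜ[R] aeval a F = (Algebra.TensorProduct.includeRight : A →ₐ[R] Ap) (aeval a F) from rfl,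
      ← aeval_algHom_apply, Algebra.TensorProduct.includeRight_apply,
      ← aeval_map_algebraMap Rp ((1 : Rp) ⊗ₜ[R] a) F, hFmap, map_mul, haev, mul_zero])
  obtain ⟨P₀, Q₀, hPQ⟩ := hsep₂
  obtain ⟨tp, htp⟩ := IsLocalization.integerNormalization_map_to_map p.primeCompl P₀
  obtain ⟨tq, htq⟩ := IsLocalization.integerNormalization_map_to_map p.primeCompl Q₀
  let P : R[X] := C (tq : R) * IsLocalization.integerNormalization p.primeCompl P₀
  let Q : R[X] := C (tp : R) * IsLocalization.integerNormalization p.primeCompl Q₀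
  let G : R := tp * tq * t
  have hD : (P * F + Q * derivative F - C G).map (algebraMap R Rp) = 0 := by
    simp only [P, Q, G, Polynomial.map_sub, Polynomial.map_add, Polynomial.map_mul, map_C, htp, htq, ← derivative_map,
      hFmap, derivative_C_mul, map_mul, Algebra.smul_def, Polynomial.algebraMap_eq, IsScalarTower.algebraMap_apply R Rp Rp[X]]
    linear_combination (C (algebraMap R Rp tp) * C (algebraMap R Rp tq) * C (algebraMap R Rp t)) * hPQ
  set D := P * F + Q * derivative F - C G
  have hk : ∀ i, ∃ h : p.primeCompl, (h : R) * D.coeff i = 0 := fun i => by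
    refine (IsLocalization.map_eq_zero_iff p.primeCompl Rp _).mp ?_
    simpa using congrArg (fun q : Rp[X] => q.coeff i) hD
  choose h₃ hh₃ using hk
  let H : R := ∏ i ∈ D.support, (h₃ i : R)
  have hH : C H * D = 0 := Polynomial.ext fun i => by
    rw [coeff_C_mul, coeff_zero]
    by_cases hi : i ∈ D.support
    · rw [show H = (∏ j ∈ D.support.erase i, (h₃ j : R)) * h₃ i from (Finset.prod_erase_mul _ _ hi).symm, mul_assoc,
        hh₃, mul_zero]
    · rw [notMem_support_iff.mp hi, mul_zero]
  have hHmem : H ∈ p.primeCompl := prod_mem fun i _ => (h₃ i).2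
  let g : R := g₁ * (G * (h₂ * H))
  have hgmem : g ∈ p.primeCompl := p.primeCompl.mul_mem hg₁
    (p.primeCompl.mul_mem (p.primeCompl.mul_mem (p.primeCompl.mul_mem tp.2 tq.2) t.2) (p.primeCompl.mul_mem h₂.2 hHmem))
  have hgu := IsLocalization.Away.algebraMap_isUnit (S := Localization.Away g) g
  refine ⟨r, a, β, g, F, t, G, P, Q, Nat.pos_of_ne_zero hr0, hgmem,
    isUnit_of_dvd_unit (map_dvd _ ⟨g₁ * (tp * tq) * (h₂ * H), by simp only [g, G]; ring⟩) hgu,
    isUnit_of_dvd_unit (map_dvd _ ⟨g₁ * (h₂ * H), by simp only [g]; ring⟩) hgu,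
    hFdeg, hFcoeff, ?_, ?_, (G * (h₂ * H)) • l', ?_, ?_⟩
  · rw [show g = g₁ * G * H * h₂ by simp only [g]; ring, mul_smul, show (h₂ : R) • aeval a F = 0 from hh₂, smul_zero]
  · rw [show g = g₁ * G * h₂ * H by simp only [g]; ring, C_mul, mul_assoc, hH, mul_zero]
  · rw [LinearMap.comp_smul, hl₁, smul_smul, show g = G * (h₂ * H) * g₁ by simp only [g]; ring]
  · rw [LinearMap.smul_comp, hl₂, smul_smul, show g = G * (h₂ * H) * g₁ by simp only [g]; ring]

/-- Azumaya algebras split on a finite étale cover near every prime. -/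
theorem exists_split_etale {R : Type u} [CommRing R] (A : Type v) [Ring A] [Algebra R A] [IsAzumaya R A]
    (p : Ideal R) [p.IsPrime] :
    ∃ f : R, f ∉ p ∧ ∃ (R' : Type u) (_ : CommRing R') (_ : Algebra R R') (_ : Algebra (Localization.Away f) R')
      (_ : IsScalarTower R (Localization.Away f) R'), Module.Finite (Localization.Away f) R' ∧
        Algebra.Etale (Localization.Away f) R' ∧ Module.FaithfullyFlat (Localization.Away f) R' ∧
          ∃ r : ℕ, 1 ≤ r ∧ Nonempty ((R' ⊗[R] A) ≃ₐ[R'] Matrix (Fin r) (Fin r) R') := by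
  classical
  obtain ⟨r, a, β, g, F, t, G, P, Q, hr, hg, ht, hG, hFdeg, hFcoeff, hFa, hbez, l', hl₁, hl₂⟩ := exists_split_data A p
  let S := Localization.Away g
  haveI : Nontrivial S := by
    by_contra hn
    rw [not_nontrivial_iff_subsingleton] at hn
    obtain ⟨k, hk⟩ := (IsLocalization.subsingleton_iff (M := Submonoid.powers g) (S := S)).mp hn
    exact hg (‹p.IsPrime›.mem_of_pow_mem k (by rw [show g ^ k = 0 from hk]; exact p.zero_mem))
  have hgu : IsUnit (algebraMap R S g) := IsLocalization.Away.algebraMap_isUnit g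
  let v : S := ((ht.unit⁻¹ : Sˣ) : S)
  have hv : v * algebraMap R S t = 1 := ht.val_inv_mul
  let f₀ : S[X] := C v * F.map (algebraMap R S)
  have hdle : f₀.natDegree ≤ r := (natDegree_C_mul_le _ _).trans (natDegree_map_le.trans hFdeg)
  have hlead : f₀.coeff r = 1 := by rw [coeff_C_mul, coeff_map, hFcoeff, hv]
  have hmon : f₀.Monic := monic_of_natDegree_le_of_coeff_eq_one r hdle hlead
  have hnd : f₀.natDegree = r := le_antisymm hdle (le_natDegree_of_ne_zero (by rw [hlead]; exact one_ne_zero))
  let AS := S ⊗[R] A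
  let x : AS := (1 : S) ⊗ₜ[R] a
  have hx : aeval x f₀ = 0 := by
    rw [map_mul, aeval_map_algebraMap, show aeval x F = (1 : S) ⊗ₜ[R] aeval a F from
      aeval_algHom_apply (Algebra.TensorProduct.includeRight : A →ₐ[R] AS) a F]
    obtain ⟨w, hw⟩ := hgu
    have h0 : (w : S) • ((1 : S) ⊗ₜ[R] aeval a F) = 0 := by
      rw [hw, algebraMap_smul, ← TensorProduct.tmul_smul, hFa, TensorProduct.tmul_zero]
    rw [show (1 : S) ⊗ₜ[R] aeval a F = 0 by simpa using congrArg (((w⁻¹ : Sˣ) : S) • ·) h0, mul_zero]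
  have hsep : f₀.Separable := by
    have h1 : (C (algebraMap R S g) : S[X]) * ((P.map (algebraMap R S)) * F.map (algebraMap R S) +
        Q.map (algebraMap R S) * derivative (F.map (algebraMap R S)) - C (algebraMap R S G)) = 0 := by
      simpa [derivative_map] using congrArg (Polynomial.map (algebraMap R S)) hbez
    rw [(hgu.map C).mul_right_eq_zero, sub_eq_zero] at h1
    obtain ⟨w, hw⟩ := hG
    refine ⟨C ((w⁻¹ : Sˣ) : S) * C (algebraMap R S t) * P.map (algebraMap R S),
      C ((w⁻¹ : Sˣ) : S) * C (algebraMap R S t) * Q.map (algebraMap R S), ?_⟩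
    rw [derivative_C_mul]
    have e1 : (C v : S[X]) * C (algebraMap R S t) = 1 := by rw [← C_mul, hv, C_1]
    have e2 : (C ((w⁻¹ : Sˣ) : S) : S[X]) * C (algebraMap R S G) = 1 := by rw [← C_mul, ← hw, Units.inv_mul, C_1]
    linear_combination (C ((w⁻¹ : Sˣ) : S) * C v * C (algebraMap R S t)) * h1 +
      (C v * C (algebraMap R S t)) * e2 + e1
  let E := AdjoinRoot f₀
  haveI : Module.Finite S E := hmon.finite_adjoinRoot
  haveI : Module.Free S E := hmon.free_adjoinRoot
  haveI : Algebra.Etale S E := etale_adjoinRoot hmon hsep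
  let bE : Module.Basis (Fin r) S E := (AdjoinRoot.powerBasis' hmon).basis.reindex (finCongr (show _ = r by simpa using hnd))
  haveI : Nonempty (Fin r) := ⟨⟨0, hr⟩⟩
  haveI : Nontrivial E := bE.repr.toEquiv.nontrivial
  haveI : Module.FaithfullyFlat S E := inferInstance
  let u := rootHom f₀ x hx
  letI : Module E AS := Module.compHom AS (u.toRingHom.toOpposite fun y z => (Commute.all y z).map u.toRingHom)
  have hmod : ∀ (e : E) (y : AS), e • y = y * u e := fun e y => rfl
  haveI : IsScalarTower S E AS := ⟨fun c e y => by rw [hmod, hmod, map_smul, mul_smul_comm]⟩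
  -- an `E`-basis of `AS`
  let ψ : (Fin r → E) →ₗ[E] AS := Fintype.linearCombination E fun i => (1 : S) ⊗ₜ[R] β i
  let bFS : Module.Basis (Fin r × Fin r) S (Fin r → E) :=
    (bE.smulTower (Pi.basisFun E (Fin r))).reindex (Equiv.prodComm _ _)
  have hψ : Function.Bijective ψ := by
    have key : ψ.restrictScalars S = ((Fintype.linearCombination R fun q : Fin r × Fin r =>
        β q.1 * a ^ (q.2 : ℕ)).baseChange S) ∘ₗ (bFS.equivFun.trans (TensorProduct.piScalarRight R S S (Fin r × Fin r)).symm).toLinearMap := by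
      refine bFS.ext fun q => ?_
      rw [LinearMap.comp_apply, LinearEquiv.coe_coe, LinearEquiv.trans_apply, Module.Basis.equivFun_apply,
        Module.Basis.repr_self, Finsupp.single_eq_pi_single, TensorProduct.piScalarRight_symm_single,
        LinearMap.baseChange_tmul, Fintype.linearCombination_apply_single, one_smul, LinearMap.restrictScalars_apply]
      simp only [bFS, Module.Basis.reindex_apply, Equiv.prodComm_symm, Equiv.prodComm_apply, Prod.swap,
        Module.Basis.smulTower_apply, Pi.basisFun_apply, map_smul, ψ, Fintype.linearCombination_apply_single, one_smul,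
        hmod, bE, PowerBasis.basis_eq_pow, AdjoinRoot.powerBasis'_gen, finCongr_symm, finCongr_apply, Fin.val_cast,
        map_pow]
      simp only [u, rootHom_root, map_one, mul_one]
      change ((1 : S) ⊗ₜ[R] β q.1 : S ⊗[R] A) * ((1 : S) ⊗ₜ[R] a) ^ (q.2 : ℕ) = _
      rw [Algebra.TensorProduct.tmul_pow, one_pow, Algebra.TensorProduct.tmul_mul_tmul, one_mul]
    have := (bijective_baseChange_of_smul_inverse hl₁ hl₂ S hgu).comp
      (bFS.equivFun.trans (TensorProduct.piScalarRight R S S (Fin r × Fin r)).symm).bijective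
    rw [← LinearEquiv.coe_coe, ← LinearMap.coe_comp, ← key] at this
    exact this
  let bA : Module.Basis (Fin r) E AS := Module.Basis.ofEquivFun (LinearEquiv.ofBijective ψ hψ).symm
  haveI : Module.Free E AS := Module.Free.of_basis bA
  haveI : Module.Finite E AS := Module.Finite.of_basis bA
  let gl : AS →ₐ[S] Module.End E AS :=
    { toFun := fun y =>
        { toFun := fun z => y * z
          map_add' := fun z z' => mul_add y z z'
          map_smul' := fun e z => by simp [hmod, mul_assoc] }
      map_one' := LinearMap.ext fun z => one_mul z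
      map_mul' := fun y y' => LinearMap.ext fun z => mul_assoc y y' z
      map_zero' := LinearMap.ext fun z => zero_mul z
      map_add' := fun y y' => LinearMap.ext fun z => add_mul y y' z
      commutes' := fun c => LinearMap.ext fun z => by
        change algebraMap S AS c * z = c • z
        exact (Algebra.smul_def c z).symm }
  let Φ : E ⊗[S] AS →ₐ[E] Matrix (Fin r) (Fin r) E :=
    (algEquivMatrix bA).toAlgHom.comp
      (Algebra.TensorProduct.lift (Algebra.ofId E (Module.End E AS)) gl fun e y => Algebra.commutes e _)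
  haveI : IsAzumaya S AS := isAzumaya_baseChange (R := R) S A
  haveI := isAzumaya_baseChange (R := S) E AS
  let bS : Module.Basis (Fin r × Fin r) S AS :=
    (bFS.map ((LinearEquiv.ofBijective ψ hψ).restrictScalars S))
  have hbij := bijective_algHom_of_basis (B := E ⊗[S] AS) (C := Matrix (Fin r) (Fin r) E) Φ (Algebra.TensorProduct.basis E bS) (Matrix.stdBasis E (Fin r) (Fin r)) rfl
  refine ⟨g, hg, E, inferInstance, inferInstance, inferInstance, inferInstance, inferInstance, inferInstance,
    inferInstance, r, hr, ⟨?_⟩⟩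
  exact (Groth.L21.CSA.cancelEquiv R A S E).trans (AlgEquiv.ofBijective Φ hbij)

end Groth.L11.Az
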